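/-
The principal 7-block of a simple group of order 6048.

Main results (namespace `Cfsg.Agent.Order6048`):
* `seven` : the Sylow 7-subgroups are self-centralising with normalisers of order 21;
* `nine_le_index` : no proper subgroup has index below 9;
* `exists_block` : the characters of degree 6 and 8 or 27 in the block, with their values at involutions.
-/
import Cfsg.Agent.Lib.SmallOrders.BlockDegrees.Criterion
import Cfsg.Agent.Lib.SmallOrders.BlockDegrees.ValueFormula
import Cfsg.Agent.Lib.SmallOrders.NineTwoPrimes.Rational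
import Cfsg.Agent.Lib.GaloisPow.Twist

set_option autoImplicit false
set_option maxRecDepth 4000

namespace Cfsg.Agent.Order6048

open Cfsg Subgroup
open Cfsg.Agent.SmallOrders Cfsg.Agent.SmallOrders.BlockDegrees
open Cfsg.Agent.SmallOrders.NineTwoPrimes
open Cfsg.Agent.CyclicDefect (K)

variable {G : Type*} [Group G] [Finite G] [IsSimpleGroup G]

theorem not_comm (h : Nat.card G = 6048) : ¬ IsMulCommutative G :=
  not_isMulCommutative_of_card (by rw [h]; decide +kernel)

theorem seven_check : blockBool 6048 7 78 [(288, 3)] = true := by decide +kernel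

theorem seven (h : Nat.card G = 6048) : ∃ x : G, orderOf x = 7 ∧
    Nat.card (centralizer ({x} : Set G)) = 7 ∧
    Nat.card (normalizer (zpowers x : Set G)) = 21 := by
  have : Fact (Nat.Prime 7) := ⟨by norm_num⟩
  obtain ⟨x, j, hmem, hx, hN, hC⟩ := mem_of_blockBool (not_comm h) h 7 78 _ seven_check
  simp only [List.mem_singleton, Prod.mk.injEq] at hmem
  obtain ⟨hd, rfl⟩ := hmem
  rw [hd] at hN
  have h1 : Nat.card (normalizer (zpowers x : Set G)) = 21 := by omega
  exact ⟨x, hx, by omega, h1⟩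

theorem nine_le_index (h : Nat.card G = 6048) {H : Subgroup G} (hH : H ≠ ⊤) : 9 ≤ H.index := by
  have hd := two_mul_card_dvd_factorial_index (not_comm h) hH
  rw [h] at hd
  by_contra hlt
  have : ∀ d < 9, ¬ 2 * 6048 ∣ d.factorial := by decide +kernel
  exact this _ (by omega) hd

theorem card_centralizer_le (h : Nat.card G = 6048) {g : G} (hg : g ≠ 1) :
    Nat.card (centralizer ({g} : Set G)) ≤ 672 := by
  have hne : centralizer ({g} : Set G) ≠ ⊤ := fun e => hg (by
    have : g ∈ center G := mem_center_iff.2 fun a =>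
      mem_centralizer_singleton_iff.1 (e ▸ mem_top a)
    rwa [SmallOrders.center_eq_bot (not_comm h), mem_bot] at this)
  have h1 := (centralizer ({g} : Set G)).card_mul_index
  have h2 := nine_le_index h hne
  rw [h] at h1
  nlinarith

/-- the conditions on the signed degrees `a`, `b` and the signed values `u`, `v` -/
def valCond (a u b v : ℤ) : Bool :=
  decide ((1 + a + b).natAbs ∣ 6048) && decide (2 ≤ (1 + a + b).natAbs) &&
  decide ((1 + a + b) % 7 = 3) &&
  decide (1 + (a.natAbs ^ 2 + b.natAbs ^ 2) + 2 * (1 + a + b).natAbs ^ 2 ≤ 6048) &&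
  decide ((1 + (u + v)).natAbs < (1 + a + b).natAbs) &&
  decide ((1 + a + b - (1 + (u + v))) % 4 = 0) &&
  decide (1 + (u.natAbs ^ 2 + v.natAbs ^ 2) + 2 * (1 + (u + v)).natAbs ^ 2 ≤ 672) &&
  decide ((6048 : ℤ) + (u ^ 2 * (6048 / a) + v ^ 2 * (6048 / b)) -
    (1 + (u + v)) ^ 2 * (6048 / (1 + a + b)) = 0)

theorem val_check : (degCand 6048 7 2 78).all (fun a => (degCand 6048 7 2 78).all fun b =>
    (vCand a).all fun u => (vCand b).all fun v => !valCond a u b v ||
      ([(-6, -2, 8, 0), (8, 0, -6, -2), (-6, 2, -27, -3), (-27, -3, -6, 2)] :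
        List (ℤ × ℤ × ℤ × ℤ)).contains (a, u, b, v)) = true := by decide +kernel

theorem mem_degCand {a : ℤ} (h1 : a.natAbs ∣ 6048) (h2 : 2 ≤ a.natAbs) (h3 : a % 7 = 1)
    (h4 : a.natAbs < 78) : a ∈ degCand 6048 7 2 78 := by
  refine List.mem_flatMap.mpr ⟨a.natAbs, List.mem_range.mpr h4, ?_⟩
  rw [if_pos ⟨h1, h2⟩, List.mem_append]
  rcases Int.natAbs_eq a with e | e
  · left
    rw [← e, if_pos (by exact_mod_cast h3)]
    exact List.mem_singleton.mpr rfl
  · right
    rw [show -((a.natAbs : ℕ) : ℤ) = a from e.symm, if_pos (by exact_mod_cast h3)]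
    exact List.mem_singleton.mpr rfl

theorem mem_vCand {a u : ℤ} (h1 : u.natAbs < a.natAbs) (h2 : (a - u) % 4 = 0) : u ∈ vCand a := by
  refine List.mem_filter.mpr ⟨List.mem_map.mpr ⟨(u + (a.natAbs : ℤ)).toNat, List.mem_range.mpr ?_, ?_⟩, ?_⟩
  · omega
  · omega
  · simp only [Bool.and_eq_true, decide_eq_true_eq]; exact ⟨h1, h2⟩

/-- The two possible shapes of the block: `d` is `8` or `27`. -/
structure Shape (x : G) (d : ℕ) (φ ψ ξ : IrrCharacter G) : Prop where
  deg_six : charDegree (φ : G → ℂ) = 6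
  deg_d : charDegree (ψ : G → ℂ) = d
  deg_xi : charDegree (ξ : G → ℂ) = if d = 8 then 3 else 32
  phi_x : (φ : G → ℂ) x = -1
  psi_x : (ψ : G → ℂ) x = if d = 8 then 1 else -1
  other : ∀ χ : IrrCharacter G, (χ : G → ℂ) x ≠ 0 →
    (χ = φ ∨ χ = ψ ∨ charDegree (χ : G → ℂ) = 1 ∨
      charDegree (χ : G → ℂ) = if d = 8 then 3 else 32)
  rel : ∀ g : G, ¬ 7 ∣ orderOf g → (ξ : G → ℂ) g =
    if d = 8 then 1 - (φ : G → ℂ) g + (ψ : G → ℂ) g else (φ : G → ℂ) g + (ψ : G → ℂ) g - 1
  twin : ∃ ξ' : IrrCharacter G, ξ' ≠ ξ ∧ charDegree (ξ' : G → ℂ) = charDegree (ξ : G → ℂ) ∧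
    ∀ g : G, ¬ 7 ∣ orderOf g → (ξ' : G → ℂ) g = (ξ : G → ℂ) g

theorem exists_block (h : Nat.card G = 6048) {x t : G} (hx : orderOf x = 7)
    (hC : Nat.card (centralizer ({x} : Set G)) = 7)
    (hN : Nat.card (normalizer (zpowers x : Set G)) = 21) (ht : orderOf t = 2) :
    ∃ (d : ℕ) (φ ψ ξ : IrrCharacter G), (d = 8 ∨ d = 27) ∧ Shape x d φ ψ ξ ∧
      (d = 27 → (φ : G → ℂ) t = -2 ∧ (ψ : G → ℂ) t = 3) := by
  classical
  have : Fact (Nat.Prime 7) := ⟨by norm_num⟩
  have hna := not_comm h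
  obtain ⟨L, A, E, σ, ε, χe, u, hS, hcK, hD, hχe, hu, hEd, hval, hzero⟩ :=
    exists_valData hna (p := 7) (c := 1) (e := 3) (lo := 2) (by norm_num) hx
      (by rw [h]; norm_num) (by rw [hC]) (by rw [hN]) (Or.inl le_rfl) ht
  have hno : ¬ ∃ a, IsConj t a ∧ a * x * a⁻¹ = x⁻¹ := by
    rintro ⟨a, ha, hax⟩
    have ha2 : orderOf a = 2 := by
      obtain ⟨c, rfl⟩ := isConj_iff.mp ha
      rw [← ht]
      exact orderOf_injective (MulAut.conj c).toMonoidHom (MulAut.conj c).injective t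
    have hmem : a ∈ normalizer (zpowers x : Set G) := by
      rw [mem_normalizer_iff]
      intro g
      have e : ∀ k : ℤ, a * x ^ k * a⁻¹ = x ^ (-k) := fun k => by
        rw [← conj_zpow, hax, inv_zpow, zpow_neg]
      refine ⟨fun hg => ?_, fun hg => ?_⟩
      · obtain ⟨k, rfl⟩ := hg
        exact ⟨-k, (e k).symm⟩
      · obtain ⟨k, hk⟩ := hg
        refine ⟨-k, ?_⟩
        show x ^ (-k) = g
        have hk' : x ^ k = a * g * a⁻¹ := hk
        have h2 := e (-k)
        rw [neg_neg, hk'] at h2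
        exact mul_left_cancel (mul_right_cancel h2)
    have h2 := Subgroup.orderOf_dvd_natCard _ hmem
    rw [ha2, hN] at h2
    norm_num at h2
  have hform := hzero hno
  obtain ⟨⟨hcard, hX, hy1, hy2, hy3, hsum, hsq⟩, hP, hw1, hw2, hvsq, -⟩ := hval
  have hCle := card_centralizer_le h (g := t) (fun e => by rw [e, orderOf_one] at ht; omega)
  obtain ⟨α, β, hαβ, rfl⟩ := Finset.card_eq_two.mp (by
    have := hD.cardA; omega : A.card = 2)
  have hAval : ({α, β} : Finset (IrrCharacter G)).val = α ::ₘ β ::ₘ 0 := by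
    rw [Finset.insert_val, Finset.singleton_val, Multiset.ndinsert_of_notMem (by simpa using hαβ)]
    rfl
  rw [hAval] at hX hsum hsq hP hw1 hw2 hvsq hform
  simp only [Multiset.map_cons, Multiset.map_zero, Multiset.sum_cons, Multiset.sum_zero, add_zero,
    Nat.cast_one, one_mul, h] at hX hsum hsq hP hw1 hw2 hvsq hform
  have hαA : α ∈ ({α, β} : Finset (IrrCharacter G)) := by simp
  have hβA : β ∈ ({α, β} : Finset (IrrCharacter G)) := by simp
  set a : ℤ := σ α * (charDegree (α : G → ℂ) : ℤ) with ha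
  set b : ℤ := σ β * (charDegree (β : G → ℂ) : ℤ) with hb
  set y : ℤ := ε * (charDegree (χe : G → ℂ) : ℤ) with hy
  obtain ⟨ha1, ha2, ha3⟩ := hX a (Multiset.mem_cons_self _ _)
  obtain ⟨hb1, hb2, hb3⟩ := hX b (Multiset.mem_cons_of_mem (Multiset.mem_cons_self _ _))
  obtain ⟨hu1, hu2⟩ := hP (a, σ α * u α) (Multiset.mem_cons_self _ _)
  obtain ⟨hv1, hv2⟩ := hP (b, σ β * u β) (Multiset.mem_cons_of_mem (Multiset.mem_cons_self _ _))
  have hlt : a.natAbs < 78 ∧ b.natAbs < 78 :=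
    ⟨Nat.mul_self_lt_mul_self_iff.mp (by rw [← pow_two]; omega),
      Nat.mul_self_lt_mul_self_iff.mp (by rw [← pow_two]; omega)⟩
  rw [← add_assoc] at hsum
  have hmem : ([(-6, -2, 8, 0), (8, 0, -6, -2), (-6, 2, -27, -3), (-27, -3, -6, 2)] :
      List (ℤ × ℤ × ℤ × ℤ)).contains (a, σ α * u α, b, σ β * u β) = true := by
    have h0 := val_check
    simp only [List.all_eq_true] at h0
    have h1 := h0 a (mem_degCand ha1 ha2 (by exact_mod_cast ha3) hlt.1) b
      (mem_degCand hb1 hb2 (by exact_mod_cast hb3) hlt.2) _ (mem_vCand hu1 hu2) _ (mem_vCand hv1 hv2)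
    simp only [Bool.or_eq_true, Bool.not_eq_true'] at h1
    refine h1.resolve_left ?_
    rw [Bool.not_eq_false]
    simp only [valCond, Bool.and_eq_true, decide_eq_true_eq, hsum]
    rw [h] at hy1
    exact ⟨⟨⟨⟨⟨⟨⟨hy1, hy2⟩, by exact_mod_cast hy3⟩, by omega⟩, hw1⟩, hw2⟩, by omega⟩,
      by push_cast at hform ⊢; exact hform⟩
  have hone : ((oneChar G : IrrCharacter G) : G → ℂ) = 1 := rfl
  have hK : Nat.card (K x L) = 1 := hcK
  have hsub : Subsingleton (K x L) := (Nat.card_eq_one_iff_unique.mp hK).1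
  have hx1 : x * (((1 : K x L) : L) : G) = x := by
    rw [OneMemClass.coe_one, OneMemClass.coe_one, mul_one]
  have hvA : ∀ χ ∈ ({α, β} : Finset (IrrCharacter G)), (χ : G → ℂ) x = σ χ := fun χ hχ => by
    have := hD.valA χ hχ 1
    rwa [hx1] at this
  have hother : ∀ χ : IrrCharacter G, (χ : G → ℂ) x ≠ 0 →
      χ = α ∨ χ = β ∨ charDegree (χ : G → ℂ) = 1 ∨
        charDegree (χ : G → ℂ) = charDegree (χe : G → ℂ) := by
    intro χ hne
    by_contra hall
    simp only [not_or] at hall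
    have := Fintype.ofFinite (K x L)
    have h0 := hD.other χ (fun e => hall.2.2.1 (by rw [e, hone]; simp [charDegree]))
      (by simp [hall.1, hall.2.1]) (fun hm => hall.2.2.2 (hEd χ hm).1)
    rw [Fintype.sum_subsingleton _ (1 : K x L), hx1] at h0
    exact hne h0
  obtain ⟨ξ', hξ'E, hξ'ne⟩ : ∃ ξ' ∈ E, ξ' ≠ χe :=
    Finset.exists_mem_ne (by rw [hD.cardE]; norm_num) χe
  have hrel : ∀ g : G, ¬ 7 ∣ orderOf g → ∀ χ ∈ E,
      (ε : ℂ) * (χ : G → ℂ) g = 1 + ((σ α : ℂ) * (α : G → ℂ) g + (σ β : ℂ) * (β : G → ℂ) g) := by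
    intro g hg χ hχ
    rw [hD.rel g hg χ hχ, Finset.sum_pair hαβ]
  have hεne : (ε : ℂ) ≠ 0 := by rcases hD.signE with e | e <;> simp [e]
  -- read off one of the two orientations
  have key : ∀ (φ ψ : IrrCharacter G) (d : ℕ), (d = 8 ∨ d = 27) →
      (∀ χ : IrrCharacter G, (χ = α ∨ χ = β) → χ = φ ∨ χ = ψ) →
      φ ∈ ({α, β} : Finset (IrrCharacter G)) → ψ ∈ ({α, β} : Finset (IrrCharacter G)) →
      σ φ * (charDegree (φ : G → ℂ) : ℤ) = -6 →
      σ ψ * (charDegree (ψ : G → ℂ) : ℤ) = (if d = 8 then 8 else -27) →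
      y = (if d = 8 then 3 else -32) →
      (∀ g, (σ α : ℂ) * (α : G → ℂ) g + (σ β : ℂ) * (β : G → ℂ) g =
        (σ φ : ℂ) * (φ : G → ℂ) g + (σ ψ : ℂ) * (ψ : G → ℂ) g) →
      σ φ = -1 ∧ σ ψ = (if d = 8 then 1 else -1) ∧ Shape x d φ ψ χe := by
    intro φ ψ d hd hcov hφ hψ h6 h8 hyv hs
    have hσφ : σ φ = -1 := by
      rcases hD.sign φ hφ with e | e
      · rw [e] at h6; omega
      · exact e
    have hσψ : σ ψ = if d = 8 then 1 else -1 := by
      rcases hD.sign ψ hψ with e | e <;> rw [e] at h8 <;> split_ifs at h8 ⊢ <;> omega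
    have hεv : ε = if d = 8 then 1 else -1 := by
      rw [hy] at hyv
      rcases hD.signE with e | e <;> rw [e] at hyv <;> split_ifs at hyv ⊢ <;> omega
    have hde : charDegree (χe : G → ℂ) = if d = 8 then 3 else 32 := by
      rw [hy, hεv] at hyv
      split_ifs at hyv ⊢ <;> omega
    refine ⟨hσφ, hσψ, ⟨?_, ?_, hde, ?_, ?_, fun χ hχ => ?_, ?_, ⟨ξ', hξ'ne, (hEd ξ' hξ'E).1, ?_⟩⟩⟩
    · rw [hσφ] at h6; omega
    · rw [hσψ] at h8
      rcases hd with rfl | rfl
      · rw [if_pos rfl, if_pos rfl] at h8; omega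
      · rw [if_neg (by norm_num), if_neg (by norm_num)] at h8; omega
    · rw [hvA φ hφ, hσφ]; norm_num
    · rw [hvA ψ hψ, hσψ]; split_ifs <;> norm_num
    · rcases hother χ hχ with e | e | e | e
      · rcases hcov χ (Or.inl e) with e' | e'
        exacts [Or.inl e', Or.inr (Or.inl e')]
      · rcases hcov χ (Or.inr e) with e' | e'
        exacts [Or.inl e', Or.inr (Or.inl e')]
      · exact Or.inr (Or.inr (Or.inl e))
      · exact Or.inr (Or.inr (Or.inr (e.trans hde)))
    · intro g hg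
      have h1 := hrel g hg χe hχe
      rw [hs, hσφ, hσψ, hεv] at h1
      split_ifs at h1 ⊢
      · push_cast at h1; linear_combination h1
      · push_cast at h1; linear_combination -h1
    · intro g hg
      exact mul_left_cancel₀ hεne ((hrel g hg ξ' hξ'E).trans (hrel g hg χe hχe).symm)
  simp only [List.contains_iff_mem, List.mem_cons, List.not_mem_nil, or_false, Prod.mk.injEq] at hmem
  rcases hmem with ⟨e1, e2, e3, e4⟩ | ⟨e1, e2, e3, e4⟩ | ⟨e1, e2, e3, e4⟩ | ⟨e1, e2, e3, e4⟩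
  · exact ⟨8, α, β, χe, Or.inl rfl, (key α β 8 (Or.inl rfl) (fun χ hc => hc) hαA hβA e1
      (by rw [if_pos rfl]; exact e3) (by rw [← hsum, e1, e3]; norm_num) fun g => rfl).2.2,
      fun e => absurd e (by norm_num)⟩
  · exact ⟨8, β, α, χe, Or.inl rfl, (key β α 8 (Or.inl rfl) (fun χ hc => hc.symm) hβA hαA e3
      (by rw [if_pos rfl]; exact e1) (by rw [← hsum, e1, e3]; norm_num) fun g => add_comm _ _).2.2,
      fun e => absurd e (by norm_num)⟩
  · obtain ⟨hs1, hs2, hsh⟩ := key α β 27 (Or.inr rfl) (fun χ hc => hc) hαA hβA e1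
      (by rw [if_neg (by norm_num)]; exact e3) (by rw [← hsum, e1, e3]; norm_num) fun g => rfl
    rw [hs1] at e2
    rw [hs2, if_neg (by norm_num)] at e4
    refine ⟨27, α, β, χe, Or.inr rfl, hsh, fun _ => ⟨?_, ?_⟩⟩
    · rw [hu, show u α = -2 by omega]; norm_num
    · rw [hu, show u β = 3 by omega]; norm_num
  · obtain ⟨hs1, hs2, hsh⟩ := key β α 27 (Or.inr rfl) (fun χ hc => hc.symm) hβA hαA e3
      (by rw [if_neg (by norm_num)]; exact e1) (by rw [← hsum, e1, e3]; norm_num) fun g => add_comm _ _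
    rw [hs1] at e4
    rw [hs2, if_neg (by norm_num)] at e2
    refine ⟨27, β, α, χe, Or.inr rfl, hsh, fun _ => ⟨?_, ?_⟩⟩
    · rw [hu, show u β = -2 by omega]; norm_num
    · rw [hu, show u α = 3 by omega]; norm_num

end Cfsg.Agent.Order6048
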