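/-
The rational character of degree 6 of a simple group of order 6048.

Main results (namespace `Cfsg.Agent.Order6048`):
* `Six`, `exists_six` : a rational character of degree 6 with the numerical facts used later;
* `Six.no_nine` : no involution centralises a subgroup of order 9.
-/
import Cfsg.Agent.Lib.Order6048.Block
import Cfsg.Agent.Lib.Order7920.CyclicVals
import Cfsg.Agent.Lib.Char.Integral
import Mathlib.RingTheory.RootsOfUnity.Complex

set_option autoImplicit false

open scoped ComplexConjugate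

namespace Cfsg.Agent.Order6048

open Cfsg Subgroup
open Cfsg.Agent.SmallOrders Cfsg.Agent.SmallOrders.BlockDegrees
open Cfsg.Agent.SmallOrders.NineTwoPrimes

variable {G : Type*} [Group G] [Finite G]

/-- The facts about the character of degree 6 that are used later. -/
structure Six (v : G → ℤ) : Prop where
  char : IsCharacter G (fun g => (v g : ℂ))
  one : v 1 = 6
  lt : ∀ g : G, g ≠ 1 → (v g).natAbs < 6
  six_dvd : ∀ g : G, (6 : ℤ) ∣ ((centralizer ({g} : Set G)).index : ℤ) * v g
  thirtytwo_dvd : ∀ g : G, 3 ∣ orderOf g →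
    (32 : ℤ) ∣ ((centralizer ({g} : Set G)).index : ℤ) * (v g - 1)
  bound : ∀ g : G, 3 ∣ orderOf g →
    1 + v g ^ 2 + 2 * (v g - 1) ^ 2 ≤ (Nat.card (centralizer ({g} : Set G)) : ℤ)
  no_nine : ∀ t : G, orderOf t = 2 → ∀ A : Subgroup G, Nat.card A = 9 →
    ∃ a ∈ A, a * t ≠ t * a

theorem chi_one (χ : IrrCharacter G) : (χ : G → ℂ) 1 = (charDegree (χ : G → ℂ) : ℂ) :=
  (Blocks.charDegree_cast χ).symm

theorem dvd_of_isIntegral_div {z : ℤ} {n : ℕ} (hn : n ≠ 0)
    (h : IsIntegral ℤ ((z : ℂ) / (n : ℂ))) : (n : ℤ) ∣ z := by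
  obtain ⟨b, -, hb⟩ := Order7920.int_of_rat (z := (z : ℂ) / n) (k := n) (a := z) hn h
    (mul_div_cancel₀ _ (Nat.cast_ne_zero.2 hn))
  exact ⟨b, hb.symm⟩

theorem dvd_index_mul (χ : IrrCharacter G) (g : G) {z : ℤ} (hz : (χ : G → ℂ) g = z) :
    (charDegree (χ : G → ℂ) : ℤ) ∣ ((centralizer ({g} : Set G)).index : ℤ) * z := by
  have h1 := Char.IsIrrCharacter.isIntegral_classSize_mul_div χ.2 g
  rw [hz, chi_one] at h1
  refine dvd_of_isIntegral_div (Blocks.charDegree_pos χ).ne' ?_
  push_cast
  exact h1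

section simple

variable [IsSimpleGroup G]

theorem not_seven_dvd_orderOf (h : Nat.card G = 6048) {g : G} (hg : 2 ∣ orderOf g ∨ 3 ∣ orderOf g) :
    ¬ 7 ∣ orderOf g := by
  intro h7
  have : Fact (Nat.Prime 7) := ⟨by norm_num⟩
  obtain ⟨x, hx, hC, -⟩ := seven h
  set y := g ^ (orderOf g / 7) with hy
  have hord : orderOf y = 7 := by
    rw [hy, orderOf_pow' _ (Nat.div_pos (Nat.le_of_dvd (orderOf_pos g) h7) (by norm_num)).ne',
      Nat.gcd_eq_right (Nat.div_dvd_of_dvd h7), Nat.div_div_self h7 (orderOf_pos g).ne']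
  have hcard : ∀ (P : Sylow 7 G), Nat.card (P : Subgroup G) = 7 := fun P =>
    (SmallOrders.card_sylow_subgroup (p := 7) (e := 1) (m := 864) (by rw [h]; norm_num)
      (by norm_num) P).trans (pow_one 7)
  obtain ⟨P, hP⟩ := exists_sylow_eq_zpowers hcard hx
  obtain ⟨Q, hQ⟩ := exists_sylow_eq_zpowers hcard hord
  obtain ⟨c, hc⟩ := MulAction.exists_smul_eq G P Q
  have hmap : (centralizer (zpowers x : Set G)).map (MulAut.conj c).toMonoidHom ≤
      centralizer (zpowers y : Set G) := by
    rintro _ ⟨a, ha, rfl⟩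
    rw [mem_centralizer_iff]
    intro b hb
    have hb' : b ∈ (Q : Subgroup G) := by rw [hQ]; exact hb
    rw [← hc, Sylow.coe_subgroup_smul, hP] at hb'
    obtain ⟨b0, hb0, rfl⟩ := hb'
    show (MulAut.conj c) b0 * (MulAut.conj c) a = (MulAut.conj c) a * (MulAut.conj c) b0
    rw [← map_mul, ← map_mul, mem_centralizer_iff.1 ha b0 hb0]
  have hg' : g ∈ centralizer ({y} : Set G) :=
    mem_centralizer_singleton_iff.2 ((Commute.refl g).pow_right _).eq
  have hcy : Nat.card (centralizer ({y} : Set G)) = 7 := by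
    have h1 := Char.card_conjugates_mul_card_centralizer y
    obtain ⟨j, hj⟩ : ∃ j : ℕ, c * x ^ j * c⁻¹ = y := by
      have hym : y ∈ (Q : Subgroup G) := by rw [hQ]; exact mem_zpowers y
      rw [← hc, Sylow.coe_subgroup_smul, hP] at hym
      obtain ⟨b0, hb0, hb0'⟩ := hym
      obtain ⟨j, rfl⟩ := mem_powers_iff_mem_zpowers.2 hb0
      exact ⟨j, hb0'⟩
    have hcop : Nat.Coprime (orderOf x) j := by
      rw [hx]
      refine (Nat.Prime.coprime_iff_not_dvd (by norm_num)).2 fun h7j => ?_
      rw [← hx] at h7j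
      rw [orderOf_dvd_iff_pow_eq_one.1 h7j, mul_one, mul_inv_cancel] at hj
      rw [← hj, orderOf_one] at hord
      omega
    have hz : zpowers (x ^ j) = zpowers x :=
      eq_of_le_of_card_ge (zpowers_le.2 (pow_mem (mem_zpowers x) j))
        (by rw [Nat.card_zpowers, Nat.card_zpowers, hcop.orderOf_pow])
    have e : centralizer ({y} : Set G) =
        (centralizer ({x} : Set G)).map (MulAut.conj c).toMonoidHom := by
      ext a
      rw [mem_map_equiv, mem_centralizer_singleton_iff, mem_centralizer_singleton_iff, MulAut.conj_symm_apply]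
      have hj' : y = c * x ^ j * c⁻¹ := hj.symm
      constructor
      · intro ha
        have hcomm : Commute (c⁻¹ * a * c) (x ^ j) := by
          show _ = _
          calc c⁻¹ * a * c * x ^ j = c⁻¹ * (a * (c * x ^ j * c⁻¹)) * c := by group
            _ = c⁻¹ * (c * x ^ j * c⁻¹ * a) * c := by rw [← hj', ha]
            _ = x ^ j * (c⁻¹ * a * c) := by group
        obtain ⟨m, hm⟩ := exists_pow_eq_self_of_coprime (hcop.symm)
        rw [← hm]
        exact (hcomm.pow_right m).eq
      · intro ha
        rw [hj']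
        have hcomm := (Commute.pow_right (show Commute (c⁻¹ * a * c) x from ha) j).eq
        calc a * (c * x ^ j * c⁻¹) = c * (c⁻¹ * a * c * x ^ j) * c⁻¹ := by group
          _ = c * (x ^ j * (c⁻¹ * a * c)) * c⁻¹ := by rw [hcomm]
          _ = c * x ^ j * c⁻¹ * a := by group
    rw [e, card_map_of_injective (MulAut.conj c).injective, hC]
  have hd := Subgroup.orderOf_dvd_natCard _ hg'
  rw [hcy] at hd
  rcases hg with h2 | h3
  · have := h2.trans hd; norm_num at this
  · have := h3.trans hd; norm_num at this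

omit [IsSimpleGroup G] in
theorem isRational_of_unique {x : G} {χ : IrrCharacter G} {n : ℤ} (hn : (χ : G → ℂ) x = n)
    (hne : n ≠ 0)
    (huniq : ∀ χ' : IrrCharacter G, (χ' : G → ℂ) x ≠ 0 →
      charDegree (χ' : G → ℂ) = charDegree (χ : G → ℂ) → χ' = χ) :
    IsRational (χ : G → ℂ) := by
  intro j hj g
  obtain ⟨f, hf⟩ := GaloisPow.exists_galois G hj
  have hjx : (χ : G → ℂ) (x ^ j) = n := by
    rw [← hf _ (Char.IsIrrCharacter.isCharacter χ.2) x, hn, map_intCast]
  have h1 := huniq (GaloisPow.powIrr hj χ)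
    (by rw [GaloisPow.powIrr_apply, hjx]; exact_mod_cast hne)
    (by simp [charDegree, GaloisPow.powIrr_apply])
  have := congrFun (congrArg Subtype.val h1) g
  simpa using this

/-- no character of degree 3 -/
theorem false_of_degree_three (h : Nat.card G = 6048) (ξ : IrrCharacter G)
    (hd : charDegree (ξ : G → ℂ) = 3)
    (hint : ∀ g : G, ¬ 7 ∣ orderOf g → ∃ z : ℤ, (ξ : G → ℂ) g = z)
    (hrat : ∀ g : G, 3 ∣ orderOf g → ∀ i : ℕ, i.Coprime (orderOf g) →
      (ξ : G → ℂ) (g ^ i) = (ξ : G → ℂ) g) : False := by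
  have hna := not_comm h
  have hch := Char.IsIrrCharacter.isCharacter ξ.2
  have h1 : (ξ : G → ℂ) 1 = ((3 : ℕ) : ℂ) := by rw [chi_one, hd]
  have hne : (ξ : G → ℂ) ≠ 1 := fun e => by
    rw [e, Pi.one_apply] at h1; norm_num at h1
  have h3val : ∀ g : G, orderOf g = 3 → (ξ : G → ℂ) g = 0 := by
    intro g hg
    obtain ⟨z, hz⟩ := hint g (not_seven_dvd_orderOf h (Or.inr (by rw [hg])))
    obtain ⟨z', hz', hdvd⟩ := Order7920.val_rational hch h1 (g := g) (n := 3) (by norm_num)
      (hg ▸ pow_orderOf_eq_one g) (fun k hk hk0 => hrat g (by rw [hg]) k (by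
        rw [hg]
        exact ((Nat.Prime.coprime_iff_not_dvd Nat.prime_three).2 fun hd => by
          have := Nat.le_of_dvd (Nat.pos_of_ne_zero hk0) hd
          have := Finset.mem_range.1 hk
          omega).symm))
    have hlt := value_lt hna ξ.2 hne h1 (g := g) (fun e => by rw [e, orderOf_one] at hg; omega) hz'
    push_cast at hdvd
    rw [hz', show z' = 0 by omega, Int.cast_zero]
  have hno9 : ∀ g : G, orderOf g ≠ 9 := by
    intro g hg
    have hζ := Complex.isPrimitiveRoot_exp 9 (by norm_num)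
    set ζ : ℂ := Complex.exp (2 * Real.pi * Complex.I / 9) with hζdef
    have hζ9 : ζ ^ 9 = 1 := hζ.pow_eq_one
    obtain ⟨m, hm⟩ := Order7920.sum_pow_char hch (g := g) (n := 9) (hg ▸ pow_orderOf_eq_one g)
      (c := ζ) hζ9
    have hcop : ∀ i, i.Coprime 9 → (ξ : G → ℂ) (g ^ i) = (ξ : G → ℂ) g := fun i hi =>
      hrat g (by rw [hg]; norm_num) i (by rwa [hg])
    have h30 : ∀ i, i = 3 ∨ i = 6 → (ξ : G → ℂ) (g ^ i) = 0 := fun i hi => h3val _ (by
      rw [orderOf_pow, hg]
      rcases hi with rfl | rfl <;> rfl)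
    have hsum : ∑ i ∈ Finset.range 9, ζ ^ i = 0 := hζ.geom_sum_eq_zero (by norm_num)
    have h3' : ∑ i ∈ Finset.range 3, (ζ ^ 3) ^ i = 0 :=
      (hζ.pow (show 0 < 9 by norm_num) (show 9 = 3 * 3 by norm_num)).geom_sum_eq_zero (by norm_num)
    simp only [Finset.sum_range_succ, Finset.sum_range_zero, zero_add, pow_zero, pow_one] at hm hsum h3'
    rw [h1, h30 3 (Or.inl rfl), h30 6 (Or.inr rfl), hcop 2 (by norm_num), hcop 4 (by norm_num),
      hcop 5 (by norm_num), hcop 7 (by norm_num), hcop 8 (by norm_num)] at hm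
    push_cast at hm
    have h4 : ((3 : ℕ) : ℂ) = ((9 * m : ℕ) : ℂ) := by
      push_cast
      linear_combination hm - (ξ : G → ℂ) g * hsum + (ξ : G → ℂ) g * h3'
    have h5 : 3 = 9 * m := Nat.cast_injective h4
    omega
  have : Fact (Nat.Prime 3) := ⟨Nat.prime_three⟩
  obtain ⟨A, hA⟩ := Sylow.exists_subgroup_card_pow_prime 3 (G := G) (n := 2) (by rw [h]; norm_num)
  have := Fintype.ofFinite A
  obtain ⟨m, hm⟩ := Char.IsCharacter.classInner_nat (Char.IsCharacter.restrict hch A)
    (Char.isCharacter_one (G := A))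
  have e := Char.card_mul_classInner (fun a : A => (ξ : G → ℂ) a) (1 : A → ℂ)
  rw [show (classInner (fun a : A => (ξ : G → ℂ) a) (1 : A → ℂ)) = m from hm, hA,
    Finset.sum_eq_single (1 : A) (fun a _ ha => ?_) (fun hn => absurd (Finset.mem_univ _) hn)] at e
  · simp [h1] at e
    have h5 : ((9 * m : ℕ) : ℂ) = ((3 : ℕ) : ℂ) := by push_cast; linear_combination e
    have : 9 * m = 3 := Nat.cast_injective h5
    omega
  · have hdvd : orderOf (a : G) ∣ 3 ^ 2 := by
      rw [← hA]
      exact Subgroup.orderOf_dvd_natCard _ a.2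
    obtain ⟨i, hi, hi'⟩ := (Nat.dvd_prime_pow Nat.prime_three).1 hdvd
    have hne1 : (a : G) ≠ 1 := fun e => ha (Subtype.ext e)
    interval_cases i
    · exact absurd (orderOf_eq_one_iff.1 (by simpa using hi')) hne1
    · rw [h3val _ (by simpa using hi'), zero_mul]
    · exact absurd (by simpa using hi') (hno9 (a : G))

/-- The character of degree 6. -/
theorem exists_six (h : Nat.card G = 6048) : ∃ v : G → ℤ, Six v := by
  classical
  have := Fintype.ofFinite G
  have := Fintype.ofFinite (IrrCharacter G)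
  obtain ⟨x, hx, hC, hN⟩ := seven h
  have hna := not_comm h
  have : Fact (Nat.Prime 2) := ⟨Nat.prime_two⟩
  obtain ⟨t₀, ht₀⟩ := exists_prime_orderOf_dvd_card' (G := G) 2 (by rw [h]; norm_num)
  obtain ⟨d, φ, ψ, ξ, hd, S, -⟩ := exists_block h hx hC hN ht₀
  have hdval : ∀ χ : IrrCharacter G, (χ : G → ℂ) x ≠ 0 → charDegree (χ : G → ℂ) = 6 ∨
      charDegree (χ : G → ℂ) = d → (charDegree (χ : G → ℂ) = 6 → χ = φ) ∧
        (charDegree (χ : G → ℂ) = d → χ = ψ) := by
    intro χ hne _
    rcases S.other χ hne with e | e | e | e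
    · refine ⟨fun _ => e, fun hh => ?_⟩
      rw [e, S.deg_six] at hh
      omega
    · refine ⟨fun hh => ?_, fun _ => e⟩
      rw [e, S.deg_d] at hh
      omega
    · exact ⟨fun hh => by omega, fun hh => by omega⟩
    · exact ⟨fun hh => by split_ifs at e <;> omega, fun hh => by
        rcases hd with rfl | rfl <;> simp at e <;> omega⟩
  have hφr : IsRational (φ : G → ℂ) := isRational_of_unique (n := -1)
    (by rw [S.phi_x]; norm_num) (by norm_num)
    fun χ hne e => (hdval χ hne (Or.inl (e.trans S.deg_six))).1 (e.trans S.deg_six)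
  have hψr : IsRational (ψ : G → ℂ) := isRational_of_unique (n := if d = 8 then 1 else -1)
    (by rw [S.psi_x]; split_ifs <;> norm_num) (by split_ifs <;> norm_num)
    fun χ hne e => (hdval χ hne (Or.inr (e.trans S.deg_d))).2 (e.trans S.deg_d)
  obtain ⟨v, hv⟩ : ∃ v : G → ℤ, ∀ g, (φ : G → ℂ) g = v g :=
    ⟨fun g => (exists_int_value (Char.IsIrrCharacter.isCharacter φ.2) hφr g).choose,
      fun g => (exists_int_value (Char.IsIrrCharacter.isCharacter φ.2) hφr g).choose_spec⟩
  rcases hd with rfl | rfl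
  · exfalso
    refine false_of_degree_three h ξ (by rw [S.deg_xi, if_pos rfl]) (fun g hg => ?_) fun g hg i hi => ?_
    · obtain ⟨w, hw⟩ := exists_int_value (Char.IsIrrCharacter.isCharacter ψ.2) hψr g
      exact ⟨1 - v g + w, by rw [S.rel g hg, if_pos rfl, hv, hw]; push_cast; ring⟩
    · have hgi : ¬ 7 ∣ orderOf (g ^ i) := by
        rw [Nat.Coprime.orderOf_pow hi.symm]
        exact not_seven_dvd_orderOf h (Or.inr hg)
      rw [S.rel _ hgi, S.rel g (not_seven_dvd_orderOf h (Or.inr hg)), if_pos rfl, if_pos rfl,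
        pow_coprime_eq hφr g hi, pow_coprime_eq hψr g hi]
  have hv1 : v 1 = 6 := by
    have h1 := hv 1
    rw [chi_one, S.deg_six] at h1
    exact_mod_cast h1.symm
  have hφne : (φ : G → ℂ) ≠ 1 := fun e => by
    have h1 := hv 1
    rw [hv1, e, Pi.one_apply] at h1
    norm_num at h1
  have hψ0 : ∀ g : G, 3 ∣ orderOf g → (ψ : G → ℂ) g = 0 := fun g hg =>
    Char.vanishes_of_defect_zero Nat.prime_three ψ.2 (n := 27) (by rw [chi_one, S.deg_d]) (by
      rw [h, show (6048 : ℕ) = 3 ^ 3 * 224 by norm_num, show (27 : ℕ) = 3 ^ 3 by norm_num,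
        Nat.factorization_mul (by norm_num) (by norm_num), Finsupp.add_apply,
        Nat.factorization_eq_zero_of_not_dvd (show ¬ 3 ∣ 224 by norm_num), add_zero]) g hg
  have hξ : ∀ g : G, 3 ∣ orderOf g → (ξ : G → ℂ) g = ((v g - 1 : ℤ) : ℂ) := fun g hg => by
    rw [S.rel g (not_seven_dvd_orderOf h (Or.inr hg)), if_neg (by norm_num), hv, hψ0 g hg]
    push_cast; ring
  refine ⟨v, ⟨?_, hv1, fun g hg => ?_, fun g => ?_, fun g hg => ?_, fun g hg => ?_, ?_⟩⟩
  · rw [show (fun g => (v g : ℂ)) = (φ : G → ℂ) from funext fun g => (hv g).symm]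
    exact Char.IsIrrCharacter.isCharacter φ.2
  · exact value_lt hna φ.2 hφne (n := 6) (by rw [chi_one, S.deg_six]) hg (hv g)
  · have := dvd_index_mul φ g (hv g)
    rwa [S.deg_six] at this
  · have := dvd_index_mul ξ g (hξ g hg)
    rwa [S.deg_xi, if_neg (by norm_num)] at this
  · obtain ⟨ξ', hne, hdeg, heq⟩ := S.twin
    have horth := Char.column_orth (G := G) g g
    rw [if_pos (IsConj.refl g)] at horth
    have hξd : charDegree (ξ : G → ℂ) = 32 := by rw [S.deg_xi, if_neg (by norm_num)]
    have hd1 : charDegree ((oneChar G : IrrCharacter G) : G → ℂ) = 1 := by simp [charDegree, oneChar]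
    have hsub := Finset.sum_le_univ_sum_of_nonneg
      (s := ({oneChar G, φ, ξ, ξ'} : Finset (IrrCharacter G)))
      (f := fun χ : IrrCharacter G => Complex.normSq ((χ : G → ℂ) g)) (fun χ => Complex.normSq_nonneg _)
    have htot : ∑ χ : IrrCharacter G, Complex.normSq ((χ : G → ℂ) g) =
        (Nat.card (centralizer ({g} : Set G)) : ℝ) := by
      apply Complex.ofReal_injective
      rw [Complex.ofReal_sum, Complex.ofReal_natCast, ← horth]
      exact Finset.sum_congr rfl fun χ _ => (Complex.mul_conj _).symm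
    have n1 : oneChar G ∉ ({φ, ξ, ξ'} : Finset (IrrCharacter G)) := by
      simp only [Finset.mem_insert, Finset.mem_singleton]
      rintro (e | e | e) <;> rw [e] at hd1
      · rw [S.deg_six] at hd1; omega
      · omega
      · omega
    have n2 : φ ∉ ({ξ, ξ'} : Finset (IrrCharacter G)) := by
      simp only [Finset.mem_insert, Finset.mem_singleton]
      rintro (e | e) <;> have := S.deg_six <;> rw [e] at this <;> omega
    rw [htot, Finset.sum_insert n1, Finset.sum_insert n2, Finset.sum_pair hne.symm,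
      heq g (not_seven_dvd_orderOf h (Or.inr hg)), hv, hξ g hg,
      show (((oneChar G : IrrCharacter G) : G → ℂ) g) = 1 from rfl,
      map_one, Complex.normSq_intCast, Complex.normSq_intCast] at hsub
    have : ((1 + v g ^ 2 + 2 * (v g - 1) ^ 2 : ℤ) : ℝ) ≤
        ((Nat.card (centralizer ({g} : Set G)) : ℤ) : ℝ) := by
      push_cast at hsub ⊢
      linarith
    exact_mod_cast this
  · intro t ht A hA
    by_contra hall
    simp only [not_exists, not_and, not_not] at hall
    obtain ⟨d', φ', ψ', ξ', hd', S', hval⟩ := exists_block h hx hC hN ht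
    have hψ' : ψ' = ψ := by
      rcases hd' with rfl | rfl
      · exfalso
        have hne : (ψ' : G → ℂ) x ≠ 0 := by rw [S'.psi_x]; norm_num
        rcases S.other ψ' hne with e | e | e | e
        · have := S'.deg_d; rw [e, S.deg_six] at this; omega
        · have := S'.deg_d; rw [e, S.deg_d] at this; omega
        · have := S'.deg_d; omega
        · have := S'.deg_d; simp at e; omega
      · exact (hdval ψ' (by rw [S'.psi_x]; norm_num) (Or.inr S'.deg_d)).2 S'.deg_d
    have hd27 : d' = 27 := by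
      have := S'.deg_d
      rw [hψ', S.deg_d] at this
      exact this.symm
    obtain ⟨-, hψt⟩ := hval hd27
    rw [hψ'] at hψt
    have hcomm : ∀ (a : A) (b : zpowers t), Commute ((A.subtype a) : G) ((zpowers t).subtype b) := by
      intro a b
      obtain ⟨k, hk⟩ := mem_zpowers_iff.1 b.2
      rw [Subgroup.coe_subtype, Subgroup.coe_subtype, ← hk]
      exact (show Commute (a : G) t from hall a a.2).zpow_right k
    set f : A × zpowers t →* G := MonoidHom.noncommCoprod A.subtype (zpowers t).subtype hcomm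
    have := Fintype.ofFinite A
    have := Fintype.ofFinite (zpowers t)
    obtain ⟨m, hm⟩ := Char.IsCharacter.classInner_nat
      (Char.IsCharacter.comp_hom (Char.IsIrrCharacter.isCharacter ψ.2) f)
      (Char.isCharacter_one (G := A × zpowers t))
    have e := Char.card_mul_classInner (fun q : A × zpowers t => (ψ : G → ℂ) (f q))
      (1 : A × zpowers t → ℂ)
    have h2 : Nat.card (zpowers t) = 2 := by rw [Nat.card_zpowers, ht]
    rw [show classInner (fun q : A × zpowers t => (ψ : G → ℂ) (f q)) (1 : A × zpowers t → ℂ) = m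
      from hm, Nat.card_prod, hA, h2, Fintype.sum_prod_type,
      Finset.sum_eq_single (1 : A) (fun a _ ha => Finset.sum_eq_zero fun b _ => ?_)
        (fun hn => absurd (Finset.mem_univ _) hn)] at e
    · have huniv : (Finset.univ : Finset (zpowers t)) = {1, ⟨t, mem_zpowers t⟩} := by
        refine (Finset.eq_univ_of_card _ ?_).symm
        rw [Finset.card_pair, ← Nat.card_eq_fintype_card, h2]
        exact fun e => by
          have := congrArg Subtype.val e
          simp only [OneMemClass.coe_one] at this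
          rw [← this, orderOf_one] at ht
          omega
      have hne : (1 : zpowers t) ≠ ⟨t, mem_zpowers t⟩ := fun e => by
        have := congrArg Subtype.val e
        simp only [OneMemClass.coe_one] at this
        rw [← this, orderOf_one] at ht
        omega
      rw [huniv, Finset.sum_pair hne] at e
      simp only [Pi.one_apply, map_one, mul_one, f, MonoidHom.noncommCoprod_apply,
        Subgroup.coe_subtype, one_mul] at e
      rw [chi_one, S.deg_d, hψt] at e
      have : ((18 * m : ℕ) : ℂ) = ((30 : ℕ) : ℂ) := by push_cast at e ⊢; linear_combination e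
      have := Nat.cast_injective this
      omega
    · have hne1 : (a : G) ≠ 1 := fun e' => ha (Subtype.ext e')
      have h3a : 3 ∣ orderOf (a : G) := by
        have hdvd : orderOf (a : G) ∣ 3 ^ 2 := by
          have := Subgroup.orderOf_dvd_natCard _ a.2
          rwa [hA] at this
        obtain ⟨i, -, hi'⟩ := (Nat.dvd_prime_pow Nat.prime_three).1 hdvd
        rcases Nat.eq_zero_or_pos i with rfl | hi0
        · exact absurd (orderOf_eq_one_iff.1 (by simpa using hi')) hne1
        · rw [hi']; exact dvd_pow_self 3 hi0.ne'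
      have hcop : Nat.Coprime (orderOf (a : G)) (orderOf (b : G)) := by
        refine Nat.Coprime.of_dvd (Subgroup.orderOf_dvd_natCard _ a.2)
          (Subgroup.orderOf_dvd_natCard _ b.2) ?_
        rw [hA, h2]; norm_num
      have : (ψ : G → ℂ) ((a : G) * (b : G)) = 0 := hψ0 _ (by
        rw [(show Commute (a : G) b from hcomm a b).orderOf_mul_eq_mul_orderOf_of_coprime hcop]
        exact h3a.mul_right _)
      simp only [f, MonoidHom.noncommCoprod_apply, Subgroup.coe_subtype, this, zero_mul]

end simple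

end Cfsg.Agent.Order6048
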