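/-
Integer valued characters of small 3-groups.

Main results (namespace `Cfsg.Agent.Order6048`):
* `false_of_comm` : no faithful looking degree-6 character on an abelian group of order 27 with few zeros;
* `sum_two` : the sum of a character over a pair of commuting elements of order dividing 3;
* `sum_coset` : vanishing of coset sums when an element of order 3 has no fixed vectors.
-/
import Cfsg.Agent.Lib.Char.Linear
import Cfsg.Agent.Lib.Char.Orth
import Cfsg.Agent.Lib.Order7920.CyclicVals

set_option autoImplicit false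

open scoped ComplexConjugate

namespace Cfsg.Agent.Order6048

open Cfsg Subgroup

theorem false_of_comm {P : Type*} [Group P] [Finite P] (hcomm : ∀ a b : P, a * b = b * a)
    (hP : Nat.card P = 27) (u : P → ℤ) (hu : IsCharacter P (fun g => (u g : ℂ))) (h1 : u 1 = 6)
    (hval : ∀ g : P, g ≠ 1 → u g = -3 ∨ u g = 0 ∨ u g = 3)
    (hzero : 8 ∣ Nat.card {g : P // u g = 0}) : False := by
  classical
  have := Fintype.ofFinite P
  have := Fintype.ofFinite (IrrCharacter P)
  obtain ⟨m, hm, hmi⟩ := Char.IsCharacter.decompose hu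
  have hdeg := Char.apply_one_eq_one_of_comm hcomm
  have h6 : ∑ φ, m φ = 6 := by
    have e := congrFun hm 1
    simp only [h1, Finset.sum_apply, Pi.smul_apply, smul_eq_mul, hdeg, mul_one] at e
    exact Nat.cast_injective (R := ℂ) (by push_cast at e ⊢; rw [← e])
  have hS : (∑ g : P, u g ^ 2 : ℤ) = 27 * ∑ φ, (m φ : ℤ) ^ 2 := by
    have e := Char.card_mul_classInner (fun g => (u g : ℂ)) (fun g => (u g : ℂ))
    have e2 : classInner (fun g => (u g : ℂ)) (fun g => (u g : ℂ)) = ∑ φ, (m φ : ℂ) ^ 2 := by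
      conv_lhs => arg 2; rw [hm]
      rw [Char.classInner_sum_right]
      refine Finset.sum_congr rfl fun φ _ => ?_
      rw [Char.classInner_smul_right, hmi, map_natCast, sq]
    rw [e2, hP] at e
    apply Int.cast_injective (α := ℂ)
    push_cast
    simp only [map_intCast, Nat.cast_ofNat, ← sq] at e
    rw [e]
  have hmem : (1 : P) ∈ Finset.univ := Finset.mem_univ _
  set A := (Finset.univ.filter fun g : P => u g = 0)
  have hA : 8 ∣ A.card := by
    rwa [Nat.card_eq_fintype_card, Fintype.card_subtype] at hzero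
  have hsum : (∑ g : P, u g ^ 2 : ℤ) = 36 + 9 * (26 - (A.card : ℤ)) := by
    have hpt : ∀ g : P, u g ^ 2 = 9 - 9 * (if u g = 0 then 1 else 0) + (if g = 1 then 27 else 0) := by
      intro g
      by_cases hg : g = 1
      · subst hg; simp [h1]
      · rcases hval g hg with e | e | e <;> simp [e, hg]
    rw [Finset.sum_congr rfl fun g _ => hpt g, Finset.sum_add_distrib, Finset.sum_sub_distrib,
      ← Finset.mul_sum, Finset.sum_boole, Finset.sum_const, Finset.card_univ,
      ← Nat.card_eq_fintype_card, hP, Finset.sum_ite_eq' Finset.univ (1 : P) fun _ => (27 : ℤ)]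
    simp only [Finset.mem_univ, if_true, nsmul_eq_mul, A]
    push_cast
    ring
  have hge : (6 : ℤ) ≤ ∑ φ, (m φ : ℤ) ^ 2 := by
    have : (6 : ℕ) ≤ ∑ φ, m φ ^ 2 := h6 ▸ Finset.sum_le_sum fun φ _ => Nat.le_self_pow two_ne_zero _
    exact_mod_cast this
  obtain ⟨q, hq⟩ := hA
  rw [hS] at hsum
  have hA0 : A.card = 0 := by omega
  have hS10 : ∑ φ, (m φ : ℤ) ^ 2 = 10 := by rw [hA0] at hsum; omega
  have hsq : ∀ g : P, g ≠ 1 → u g ^ 2 = 9 := fun g hg => by
    have hne : u g ≠ 0 := fun e => by
      have : g ∈ A := Finset.mem_filter.2 ⟨Finset.mem_univ _, e⟩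
      rw [Finset.card_eq_zero.1 hA0] at this
      simp at this
    rcases hval g hg with e | e | e <;> simp_all
  -- some non-trivial constituent occurs twice
  obtain ⟨φ, hφ1, hφ2⟩ : ∃ φ : IrrCharacter P, (φ : P → ℂ) ≠ 1 ∧ 2 ≤ m φ := by
    by_contra hno
    push Not at hno
    have h6' : ∑ φ, (m φ : ℤ) = 6 := by exact_mod_cast h6
    by_cases hex : ∃ φ₀ : IrrCharacter P, (φ₀ : P → ℂ) = 1
    · obtain ⟨φ₀, hφ₀⟩ := hex
      rw [← Finset.add_sum_erase _ _ (Finset.mem_univ φ₀)] at h6' hS10
      rw [Finset.sum_congr rfl (g := fun φ => (m φ : ℤ)) fun φ hφ => ?_] at hS10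
      · have hle : (m φ₀ : ℤ) ≤ 6 := by
          have : m φ₀ ≤ 6 := h6 ▸ Finset.single_le_sum (fun φ _ => Nat.zero_le (m φ)) (Finset.mem_univ φ₀)
          exact_mod_cast this
        have : (m φ₀ : ℤ) ^ 2 - m φ₀ = 4 := by linarith
        have h0 : (0 : ℤ) ≤ m φ₀ := Int.natCast_nonneg _
        generalize (m φ₀ : ℤ) = y at this hle h0
        interval_cases y <;> norm_num at this
      · have := hno φ fun e => (Finset.mem_erase.1 hφ).1 (Subtype.ext (e.trans hφ₀.symm))
        interval_cases m φ <;> norm_num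
    · push Not at hex
      rw [Finset.sum_congr rfl (g := fun φ => (m φ : ℤ)) fun φ _ => ?_, h6'] at hS10
      · norm_num at hS10
      · have := hno φ (hex φ)
        interval_cases m φ <;> norm_num
  obtain ⟨l, hl⟩ := Char.exists_hom_of_degree_one (Char.IsIrrCharacter.isCharacter φ.2) (hdeg φ)
  set ψ : IrrCharacter P := ⟨fun g => (φ : P → ℂ) g * l g, Char.IsIrrCharacter.mul_linear φ.2 l⟩ with hψ
  have hψ1 : (ψ : P → ℂ) ≠ 1 := by
    intro e
    apply hφ1
    funext g
    have e1 : l g * l g = 1 := by simpa [hψ, ← hl] using congrFun e g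
    have e2 : l g ^ 27 = 1 := by
      rw [← map_pow, ← hP, pow_card_eq_one', map_one]
    rw [← hl]
    show l g = 1
    calc l g = l g * (l g * l g) ^ 13 := by rw [e1, one_pow, mul_one]
      _ = l g ^ 27 := by ring
      _ = 1 := e2
  -- the multiplicity of `ψ` in the square
  have hone : classInner (fun g => (u g : ℂ) * (u g : ℂ)) (ψ : P → ℂ) = 1 := by
    have e := Char.card_mul_classInner (fun g => (u g : ℂ) * (u g : ℂ)) (ψ : P → ℂ)
    have hpt : ∀ g : P, (u g : ℂ) * (u g : ℂ) * conj ((ψ : P → ℂ) g) =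
        9 * conj ((ψ : P → ℂ) g) + if g = 1 then 27 else 0 := by
      intro g
      by_cases hg : g = 1
      · subst hg
        rw [h1, if_pos rfl, hdeg ψ]
        norm_num
      · have : ((u g ^ 2 : ℤ) : ℂ) = 9 := by rw [hsq g hg]; norm_num
        push_cast at this
        rw [if_neg hg, add_zero, ← this]
        ring
    rw [Finset.sum_congr rfl fun g _ => hpt g, Finset.sum_add_distrib, ← Finset.mul_sum,
      Finset.sum_ite_eq' Finset.univ (1 : P) fun _ => (27 : ℂ), if_pos (Finset.mem_univ _)] at e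
    have hz : ∑ g : P, conj ((ψ : P → ℂ) g) = 0 := by
      have e0 := Char.card_mul_classInner (1 : P → ℂ) (ψ : P → ℂ)
      have h01 : classInner (1 : P → ℂ) (ψ : P → ℂ) = 0 :=
        Char.classInner_irr_of_ne (Char.isIrrCharacter_of_hom (1 : P →* ℂ)) ψ.2 (fun e => hψ1 e.symm)
      rw [h01, mul_zero] at e0
      simpa using e0.symm
    rw [hz, hP, mul_zero, zero_add] at e
    push_cast at e
    linear_combination e / 27
  have hmul : ∀ a b : IrrCharacter P, ∃ r : ℕ,
      classInner (fun g => (a : P → ℂ) g * (b : P → ℂ) g) (ψ : P → ℂ) = r := fun a b =>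
    Char.IsCharacter.classInner_nat (Char.IsCharacter.mul (Char.IsIrrCharacter.isCharacter a.2)
      (Char.IsIrrCharacter.isCharacter b.2)) (Char.IsIrrCharacter.isCharacter ψ.2)
  choose r hr using hmul
  have hr1 : r φ φ = 1 := by
    have := hr φ φ
    rw [show (fun g => (φ : P → ℂ) g * (φ : P → ℂ) g) = (ψ : P → ℂ) by simp [hψ, hl],
      Char.classInner_irr_self ψ.2] at this
    exact_mod_cast this.symm
  have hexp : (fun g => (u g : ℂ) * (u g : ℂ)) =
      ∑ a, ∑ b, ((m a * m b : ℕ) : ℂ) • (fun g => (a : P → ℂ) g * (b : P → ℂ) g) := by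
    funext g
    have e : (u g : ℂ) = ∑ φ, (m φ : ℂ) * (φ : P → ℂ) g := by
      simpa only [Finset.sum_apply, Pi.smul_apply, smul_eq_mul] using congrFun hm g
    simp only [Finset.sum_apply, Pi.smul_apply, smul_eq_mul, e, Finset.sum_mul_sum]
    exact Finset.sum_congr rfl fun a _ => Finset.sum_congr rfl fun b _ => by push_cast; ring
  rw [hexp, Char.classInner_sum_left] at hone
  simp only [Char.classInner_sum_left, Char.classInner_smul_left, hr] at hone
  have hone' : ∑ a, ∑ b, m a * m b * r a b = 1 := by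
    apply Nat.cast_injective (R := ℂ)
    push_cast
    push_cast at hone
    exact hone
  have h4 : m φ * m φ * r φ φ ≤ 1 := hone' ▸
    (Finset.single_le_sum (f := fun b => m φ * m b * r φ b) (fun b _ => Nat.zero_le _)
      (Finset.mem_univ φ)).trans
      (Finset.single_le_sum (f := fun a => ∑ b, m a * m b * r a b) (fun a _ => Nat.zero_le _)
        (Finset.mem_univ φ))
  rw [hr1, mul_one] at h4
  nlinarith

variable {G : Type*} [Group G] [Finite G]

/-- The homomorphism from `ZMod 3` given by an element of order dividing 3. -/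
def threeHom (g : G) (hg : g ^ 3 = 1) : Multiplicative (ZMod 3) →* G :=
  MonoidHom.mk' (fun a => g ^ (Multiplicative.toAdd a).val) fun a b => by
    rw [← pow_add, toAdd_mul, ZMod.val_add, ← pow_eq_pow_mod _ hg]

omit [Finite G] in
/-- The sum of a character over a pair of commuting elements of order dividing 3. -/
theorem sum_two {χ : G → ℂ} (hχ : IsCharacter G χ) {g z : G} (hg : g ^ 3 = 1) (hz : z ^ 3 = 1)
    (hgz : Commute g z) :
    ∃ m : ℕ, ∑ i ∈ Finset.range 3, ∑ j ∈ Finset.range 3, χ (g ^ i * z ^ j) = (9 : ℂ) * m := by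
  let f := MonoidHom.noncommCoprod (threeHom g hg) (threeHom z hz)
    (fun a b => (hgz.pow_pow _ _))
  let H := Multiplicative (ZMod 3) × Multiplicative (ZMod 3)
  obtain ⟨m, hm⟩ := Char.IsCharacter.classInner_nat (Char.IsCharacter.comp_hom hχ f)
    (Char.isCharacter_one (G := H))
  refine ⟨m, ?_⟩
  have e := Char.card_mul_classInner (fun h : H => χ (f h)) (1 : H → ℂ)
  rw [show classInner (fun h : H => χ (f h)) (1 : H → ℂ) = m from hm, Fintype.sum_prod_type] at e
  simp only [Pi.one_apply, map_one, mul_one] at e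
  have hc : Nat.card H = 9 := by simp [H]
  rw [hc] at e
  rw [show ((9 : ℕ) : ℂ) = 9 by norm_num] at e
  rw [e, Finset.sum_range (f := fun i => ∑ j ∈ Finset.range 3, χ (g ^ i * z ^ j))]
  simp only [Finset.sum_range (f := fun j => χ (_ * z ^ j))]
  rfl

/-- If `z` of order dividing 3 has no fixed vectors, the sums over cosets of `⟨z⟩` vanish. -/
theorem sum_coset {χ : G → ℂ} (hχ : IsCharacter G χ) {z : G} (hz : z ^ 3 = 1)
    (h0 : χ 1 + χ z + χ (z ^ 2) = 0) (h : G) : χ h + χ (h * z) + χ (h * z ^ 2) = 0 := by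
  obtain ⟨n, ρ, rfl⟩ := hχ
  obtain ⟨b, μ, hμ, hroot⟩ := Char.exists_eigenbasis ρ z
  have hμ3 : ∀ i, μ i ^ 3 = 1 := fun i => by
    obtain ⟨q, hq⟩ := orderOf_dvd_iff_pow_eq_one.mpr hz
    rw [hq, pow_mul, hroot i, one_pow]
  classical
  have hcases : ∀ i, 1 + μ i + μ i ^ 2 = if μ i = 1 then 3 else 0 := fun i => by
    split_ifs with e
    · rw [e]; norm_num
    · have h1 : (μ i - 1) * (1 + μ i + μ i ^ 2) = 0 := by linear_combination hμ3 i
      exact (mul_eq_zero.1 h1).resolve_left (sub_ne_zero.2 e)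
  have hall : ∀ i, 1 + μ i + μ i ^ 2 = 0 := by
    have e0 : ∑ i, (1 + μ i + μ i ^ 2) = 0 := by
      rw [Finset.sum_add_distrib, Finset.sum_add_distrib, ← Char.character_pow ρ z b μ hμ 2,
        ← Char.character_eq_sum_eigenvalues ρ z b μ hμ,
        show (∑ _i, (1 : ℂ)) = ρ.character 1 by rw [Representation.char_one]; simp]
      exact h0
    simp only [hcases] at e0
    rw [← Finset.sum_filter, Finset.sum_const, nsmul_eq_mul, mul_eq_zero, Nat.cast_eq_zero] at e0
    intro i
    rw [hcases, if_neg]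
    intro hi
    rcases e0 with e0 | e0
    · exact absurd (Finset.mem_filter.2 ⟨Finset.mem_univ i, hi⟩) (by rw [Finset.card_eq_zero.1 e0]; simp)
    · norm_num at e0
  have hop : ρ h + ρ (h * z) + ρ (h * z ^ 2) = 0 := b.ext fun i => by
    simp only [LinearMap.add_apply, map_mul, pow_two, Module.End.mul_apply, hμ,
      map_smul, LinearMap.zero_apply, smul_smul]
    rw [← pow_two, show ρ h (b i) + μ i • ρ h (b i) + μ i ^ 2 • ρ h (b i) =
      (1 + μ i + μ i ^ 2) • ρ h (b i) by simp [add_smul], hall i, zero_smul]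
  have := congrArg (LinearMap.trace ℂ _) hop
  simpa only [map_add, map_zero, Representation.character] using this

end Cfsg.Agent.Order6048
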