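/-
The Sylow 3-subgroups of a simple group of order 6048.

Main results (namespace `Cfsg.Agent.Order6048`):
* `central_val`, `noncentral` : values of the degree 6 character and centralisers of 3-elements;
* `sylow_three` : 28 Sylow 3-subgroups, non-abelian, meeting trivially.
-/
import Cfsg.Agent.Lib.Order6048.Chars
import Cfsg.Agent.Lib.Order6048.Restrict
import Cfsg.Agent.Lib.SmallOrders.Intersect

set_option autoImplicit false

open scoped ComplexConjugate

namespace Cfsg.Agent.Order6048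

open Cfsg Subgroup
open Cfsg.Agent.SmallOrders

variable {G : Type*} [Group G] [Finite G]

omit [Finite G] in
theorem Six.conj_eq {v : G → ℤ} (hv : Six v) (g a : G) : v (a * g * a⁻¹) = v g := by
  have := Char.IsCharacter.isClassFunction hv.char g a
  exact_mod_cast this

theorem Six.pow_eq {v : G → ℤ} (hv : Six v) (g : G) {i : ℕ} (hi : i.Coprime (orderOf g)) :
    v (g ^ i) = v g := by
  obtain ⟨j, hij, hj⟩ : ∃ j : ℕ, g ^ j = g ^ i ∧ j.Coprime (Nat.card G) := by
    obtain ⟨u, hu⟩ := ZMod.unitsMap_surjective (orderOf_dvd_natCard g) (ZMod.unitOfCoprime i hi)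
    refine ⟨(u : ZMod (Nat.card G)).val, ?_, ZMod.val_coe_unit_coprime u⟩
    rw [pow_eq_pow_iff_modEq, ← ZMod.natCast_eq_natCast_iff]
    have h2 := congrArg (fun w : (ZMod (orderOf g))ˣ => (w : ZMod (orderOf g))) hu
    simp only [ZMod.unitsMap_val, ZMod.coe_unitOfCoprime] at h2
    rw [← h2, ZMod.cast_eq_val]
  obtain ⟨f, hf⟩ := GaloisPow.exists_galois G hj
  have h1 := hf _ hv.char g
  simp only [map_intCast] at h1
  rw [← hij]
  exact_mod_cast h1.symm

variable [IsSimpleGroup G]

omit [IsSimpleGroup G] in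
theorem card_sylow (h : Nat.card G = 6048) [Fact (Nat.Prime 3)] (P : Sylow 3 G) :
    Nat.card (P : Subgroup G) = 27 :=
  (card_sylow_subgroup (p := 3) (e := 3) (m := 224) (by rw [h]; norm_num) (by norm_num) P).trans
    (by norm_num)

omit [IsSimpleGroup G] in
theorem three_dvd_orderOf_of_mem (h : Nat.card G = 6048) [Fact (Nat.Prime 3)] {P : Sylow 3 G}
    {g : G} (hg : g ∈ (P : Subgroup G)) (hg1 : g ≠ 1) : 3 ∣ orderOf g := by
  have hd : orderOf g ∣ 3 ^ 3 := by
    have := Subgroup.orderOf_dvd_natCard _ hg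
    rwa [card_sylow h] at this
  obtain ⟨i, -, hi⟩ := (Nat.dvd_prime_pow Nat.prime_three).1 hd
  rcases Nat.eq_zero_or_pos i with rfl | h0
  · exact absurd (orderOf_eq_one_iff.1 (by simpa using hi)) hg1
  · rw [hi]; exact dvd_pow_self 3 h0.ne'

theorem not_seven_dvd_centralizer (h : Nat.card G = 6048) {g : G} (hg : 3 ∣ orderOf g) :
    ¬ 7 ∣ Nat.card (centralizer ({g} : Set G)) := by
  intro h7
  have : Fact (Nat.Prime 7) := ⟨by norm_num⟩
  obtain ⟨y, hy⟩ := exists_prime_orderOf_dvd_card' (G := centralizer ({g} : Set G)) 7 h7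
  rw [← Subgroup.orderOf_coe] at hy
  have hcomm : Commute (y : G) g := mem_centralizer_singleton_iff.1 y.2
  have hcop : Nat.Coprime (orderOf (y : G)) (orderOf g) := by
    rw [hy]
    exact (Nat.Prime.coprime_iff_not_dvd (by norm_num)).2 (not_seven_dvd_orderOf h (Or.inr hg))
  refine not_seven_dvd_orderOf h (g := (y : G) * g) (Or.inr ?_) ?_
  · rw [hcomm.orderOf_mul_eq_mul_orderOf_of_coprime hcop]; exact hg.mul_left _
  · rw [hcomm.orderOf_mul_eq_mul_orderOf_of_coprime hcop, hy]; exact dvd_mul_right 7 _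

theorem central_check : ∀ c ∈ (Nat.divisors 6048).filter (fun c => c ≤ 672 ∧ 27 ∣ c ∧ ¬ 7 ∣ c),
    ∀ v ∈ ([-5, -4, -3, -2, -1, 0, 1, 2, 3, 4, 5] : List ℤ),
      (6 : ℤ) ∣ (6048 / c : ℕ) * v → (32 : ℤ) ∣ (6048 / c : ℕ) * (v - 1) →
      1 + v ^ 2 + 2 * (v - 1) ^ 2 ≤ (c : ℤ) →
      (v = 0 ∧ c = 27) ∨ (v = 3 ∧ (c = 27 ∨ c = 54)) ∨ (v = -3 ∧ (c = 54 ∨ c = 108)) := by
  decide +kernel

/-- The values at the elements centralised by a Sylow 3-subgroup. -/
theorem central_val (h : Nat.card G = 6048) {v : G → ℤ} (hv : Six v) {g : G} (hg : 3 ∣ orderOf g)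
    (h27 : 27 ∣ Nat.card (centralizer ({g} : Set G))) :
    let c := Nat.card (centralizer ({g} : Set G))
    (v g = 0 ∧ c = 27) ∨ (v g = 3 ∧ (c = 27 ∨ c = 54)) ∨ (v g = -3 ∧ (c = 54 ∨ c = 108)) := by
  intro c
  have hg1 : g ≠ 1 := fun e => by rw [e, orderOf_one] at hg; norm_num at hg
  have h7 := not_seven_dvd_centralizer h hg
  have hle := card_centralizer_le h hg1
  have hidx := (centralizer ({g} : Set G)).card_mul_index
  rw [h] at hidx
  have hi : (centralizer ({g} : Set G)).index = 6048 / c :=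
    Nat.eq_div_of_mul_eq_right Nat.card_pos.ne' hidx
  have h1 := hv.six_dvd g
  have h2 := hv.thirtytwo_dvd g hg
  rw [hi] at h1 h2
  have hlt := hv.lt g hg1
  refine central_check c ?_ (v g) (by simp only [List.mem_cons, List.not_mem_nil, or_false]; omega) h1 h2
    (hv.bound g hg)
  rw [Finset.mem_filter, Nat.mem_divisors]
  exact ⟨⟨Dvd.intro _ hidx, by norm_num⟩, hle, h27, h7⟩

omit [IsSimpleGroup G] in
theorem sylow_le_centralizer [Fact (Nat.Prime 3)] (h : Nat.card G = 6048) {P : Sylow 3 G} {g : G}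
    (hg : ∀ a ∈ (P : Subgroup G), a * g = g * a) :
    (P : Subgroup G) ≤ centralizer ({g} : Set G) ∧ 27 ∣ Nat.card (centralizer ({g} : Set G)) := by
  have hle : (P : Subgroup G) ≤ centralizer ({g} : Set G) := fun a ha =>
    mem_centralizer_singleton_iff.2 (hg a ha)
  exact ⟨hle, card_sylow h P ▸ card_dvd_of_le hle⟩

omit [IsSimpleGroup G] in
/-- All Sylow 3-subgroups are abelian if one is. -/
theorem comm_of_comm [Fact (Nat.Prime 3)] (P Q : Sylow 3 G)
    (hP : ∀ a ∈ (P : Subgroup G), ∀ b ∈ (P : Subgroup G), a * b = b * a) :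
    ∀ a ∈ (Q : Subgroup G), ∀ b ∈ (Q : Subgroup G), a * b = b * a := by
  intro a ha b hb
  have e := Q.equiv P
  have := hP _ (e ⟨a, ha⟩).2 _ (e ⟨b, hb⟩).2
  have h2 : (⟨a, ha⟩ : (Q : Subgroup G)) * ⟨b, hb⟩ = ⟨b, hb⟩ * ⟨a, ha⟩ :=
    e.injective (by rw [map_mul, map_mul]; exact Subtype.ext this)
  exact congrArg Subtype.val h2

omit [IsSimpleGroup G] in
theorem normal_in_sylow [Fact (Nat.Prime 3)] (h : Nat.card G = 6048) (P : Sylow 3 G) {D : Subgroup G}
    (hD : D ≤ P) (hD9 : Nat.card D = 9) : (P : Subgroup G) ≤ normalizer (D : Set G) := by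
  rw [← normal_subgroupOf_iff_le_normalizer hD]
  apply normal_of_index_eq_minFac_card
  have h1 := (D.subgroupOf (P : Subgroup G)).card_mul_index
  rw [Nat.card_congr (subgroupOfEquivOfLe hD).toEquiv, hD9, card_sylow h] at h1
  rw [card_sylow h, show (27 : ℕ) = 3 ^ 3 by norm_num, Nat.prime_three.pow_minFac (by norm_num)]
  omega

section nonabelian

variable [Fact (Nat.Prime 3)]

omit [IsSimpleGroup G] in
/-- The centre of a non-abelian Sylow 3-subgroup. -/
theorem center_facts (h : Nat.card G = 6048) (P : Sylow 3 G)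
    (hP : ¬ ∀ a ∈ (P : Subgroup G), ∀ b ∈ (P : Subgroup G), a * b = b * a) :
    ∃ z ∈ (P : Subgroup G), z ≠ 1 ∧ z ^ 3 = 1 ∧
      (∀ g ∈ (P : Subgroup G), (∀ a ∈ (P : Subgroup G), a * g = g * a) ↔ g = 1 ∨ g = z ∨ g = z ^ 2) ∧
      (∀ a ∈ (P : Subgroup G), ∀ b ∈ (P : Subgroup G),
        a * b * a⁻¹ * b⁻¹ = 1 ∨ a * b * a⁻¹ * b⁻¹ = z ∨ a * b * a⁻¹ * b⁻¹ = z ^ 2) ∧
      ∀ g ∈ (P : Subgroup G), g ^ 3 = 1 ∨ g ^ 3 = z ∨ g ^ 3 = z ^ 2 := by
  set T := (P : Subgroup G) with hT
  have hc27 : Nat.card T = 3 ^ 3 := (card_sylow h P).trans (by norm_num)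
  have hnc : ¬ ∀ a b : T, a * b = b * a := fun hall => hP fun a ha b hb =>
    congrArg Subtype.val (hall ⟨a, ha⟩ ⟨b, hb⟩)
  obtain ⟨k, hk0, hk⟩ := IsPGroup.card_center_eq_prime_pow hc27 (by norm_num)
  have hmul := (center T).card_mul_index
  rw [hk, hc27] at hmul
  have hk1 : k = 1 := by
    by_contra hne
    have hk3 : k ≤ 3 := (Nat.pow_dvd_pow_iff_le_right (by norm_num : 1 < 3)).1 (Dvd.intro _ hmul)
    have hdvd : Nat.card (T ⧸ center T) ∣ 3 := by
      rw [← Subgroup.index_eq_card]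
      interval_cases k
      · exact absurd rfl hne
      · exact ⟨1, by omega⟩
      · exact ⟨3, by omega⟩
    have : IsCyclic (T ⧸ center T) := isCyclic_of_card_dvd_prime (p := 3) hdvd
    exact hnc ((MonoidHom.isMulCommutative_of_isCyclic_of_ker_le_center (QuotientGroup.mk' (center T))
      (by rw [QuotientGroup.ker_mk'])).is_comm.comm)
  subst hk1
  rw [pow_one] at hk
  have hq : Nat.card (T ⧸ center T) = 3 ^ 2 := by
    rw [← Subgroup.index_eq_card]; omega
  obtain ⟨z', hz'⟩ := exists_prime_orderOf_dvd_card' (G := center T) 3 (by rw [hk])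
  have hzo : orderOf ((z' : T) : G) = 3 := by rw [Subgroup.orderOf_coe, Subgroup.orderOf_coe, hz']
  have hz3 : ((z' : T) : G) ^ 3 = 1 := by rw [← hzo, pow_orderOf_eq_one]
  have hcen : ∀ g : T, g ∈ center T → (g : G) = 1 ∨ (g : G) = ((z' : T) : G) ∨
      (g : G) = ((z' : T) : G) ^ 2 := by
    intro g hg
    have htop : zpowers z' = ⊤ := eq_top_of_card_eq _ (by rw [Nat.card_zpowers, hz', hk])
    obtain ⟨n, hn⟩ := mem_powers_iff_mem_zpowers.2 (htop ▸ mem_top (⟨g, hg⟩ : center T))
    have hn' : (g : G) = ((z' : T) : G) ^ (n % 3) := by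
      rw [← pow_eq_pow_mod _ hz3]
      exact congrArg (fun a : center T => ((a : T) : G)) hn.symm
    have : n % 3 < 3 := Nat.mod_lt _ (by norm_num)
    interval_cases n % 3
    · exact Or.inl (by simpa using hn')
    · exact Or.inr (Or.inl (by simpa using hn'))
    · exact Or.inr (Or.inr hn')
  refine ⟨((z' : T) : G), (z' : T).2, fun e => by rw [e, orderOf_one] at hzo; norm_num at hzo, hz3,
    fun g hg => ⟨fun hall => hcen ⟨g, hg⟩ (mem_center_iff.2 fun a => Subtype.ext (hall a a.2)),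
      fun hh a ha => ?_⟩, fun a ha b hb => ?_, fun g hg => ?_⟩
  · have hc : Commute a ((z' : T) : G) := congrArg Subtype.val (mem_center_iff.1 z'.2 ⟨a, ha⟩)
    rcases hh with rfl | rfl | rfl
    · simp
    · exact hc.eq
    · exact (hc.pow_right 2).eq
  · refine hcen (⟨a, ha⟩ * ⟨b, hb⟩ * (⟨a, ha⟩ : T)⁻¹ * (⟨b, hb⟩ : T)⁻¹) ?_
    rw [← QuotientGroup.eq_one_iff, QuotientGroup.mk_mul, QuotientGroup.mk_mul,
      QuotientGroup.mk_mul, QuotientGroup.mk_inv, QuotientGroup.mk_inv,
      (IsPGroup.isMulCommutative_of_card_eq_prime_sq hq).is_comm.comm ((⟨a, ha⟩ : T) : T ⧸ center T)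
        ((⟨b, hb⟩ : T) : T ⧸ center T), mul_inv_cancel_right, mul_inv_cancel]
  · refine hcen ((⟨g, hg⟩ : T) ^ 3) ?_
    by_contra hnc3
    rw [← QuotientGroup.eq_one_iff, QuotientGroup.mk_pow] at hnc3
    have h9 : orderOf ((⟨g, hg⟩ : T) : T ⧸ center T) = 9 := by
      obtain ⟨i, hi, hi'⟩ := (Nat.dvd_prime_pow Nat.prime_three).1
        (hq ▸ orderOf_dvd_natCard ((⟨g, hg⟩ : T) : T ⧸ center T))
      interval_cases i
      · exact absurd (orderOf_dvd_iff_pow_eq_one.1 (by rw [hi']; norm_num)) hnc3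
      · exact absurd (orderOf_dvd_iff_pow_eq_one.1 (by rw [hi']; norm_num)) hnc3
      · exact hi'.trans (by norm_num)
    have : IsCyclic (T ⧸ center T) := isCyclic_of_orderOf_eq_card _ (by rw [h9, hq]; norm_num)
    exact hnc ((MonoidHom.isMulCommutative_of_isCyclic_of_ker_le_center (QuotientGroup.mk' (center T))
      (by rw [QuotientGroup.ker_mk'])).is_comm.comm)

omit [Fact (Nat.Prime 3)] in
theorem z_check : ∀ z ∈ ([-3, 0, 3] : List ℤ), ∀ w ∈ ([-5, -4, -3, -2, -1, 0, 1, 2, 3, 4, 5] : List ℤ),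
    9 ∣ 6 + 2 * z + 6 * w → 9 ∣ 36 + 2 * z ^ 2 + 6 * w ^ 2 → z = -3 := by decide +kernel

/-- Values on a non-abelian Sylow 3-subgroup. -/
theorem nonabelian_val (h : Nat.card G = 6048) {v : G → ℤ} (hv : Six v) (P : Sylow 3 G)
    (hP : ¬ ∀ a ∈ (P : Subgroup G), ∀ b ∈ (P : Subgroup G), a * b = b * a) :
    ∀ g ∈ (P : Subgroup G), g ≠ 1 →
      ((∀ a ∈ (P : Subgroup G), a * g = g * a) → v g = -3) ∧
      ((¬ ∀ a ∈ (P : Subgroup G), a * g = g * a) → v g = 0) := by
  obtain ⟨z, hzP, hz1, hz3, hcen, hcomm, hcube⟩ := center_facts h P hP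
  set T := (P : Subgroup G)
  have hzo : orderOf z = 3 := orderOf_eq_prime hz3 hz1
  have hzc : ∀ a ∈ T, a * z = z * a := (hcen z hzP).2 (Or.inr (Or.inl rfl))
  have hz2 : v (z ^ 2) = v z := hv.pow_eq z (by rw [hzo]; norm_num)
  -- an element outside the centre is conjugate to its coset
  have hcoset : ∀ g ∈ T, (¬ ∀ a ∈ T, a * g = g * a) → v (g * z) = v g ∧ v (g * z ^ 2) = v g := by
    intro g hg hng
    push Not at hng
    obtain ⟨a, ha, hag⟩ := hng
    obtain ⟨d, hd, hconj⟩ : ∃ d : G, (d = z ∨ d = z ^ 2) ∧ d * g = a * g * a⁻¹ := by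
      refine ⟨a * g * a⁻¹ * g⁻¹, ?_, by group⟩
      rcases hcomm a ha g hg with e | e | e
      · exact absurd (mul_inv_eq_iff_eq_mul.1 (mul_inv_eq_one.1 e)) hag
      · exact Or.inl e
      · exact Or.inr e
    have hgz : Commute g z := hzc g hg
    have h1 : v (d * g) = v g := by rw [hconj, hv.conj_eq]
    have h2 : v (d * d * g) = v g := by
      rw [show d * d * g = a * (a * g * a⁻¹) * a⁻¹ by
        have hda : Commute a d := by
          rcases hd with rfl | rfl
          · exact hzc a ha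
          · exact Commute.pow_right (hzc a ha) 2
        rw [← hconj]
        calc d * d * g = d * (d * g) := mul_assoc _ _ _
          _ = d * (a * g * a⁻¹) := by rw [hconj]
          _ = a * (d * g) * a⁻¹ := by
            simp only [← mul_assoc, hda.eq], hv.conj_eq, hv.conj_eq]
    rcases hd with rfl | rfl
    · exact ⟨by rw [hgz.eq]; exact h1, by rw [(hgz.pow_right 2).eq, pow_two]; exact h2⟩
    · refine ⟨?_, by rw [(hgz.pow_right 2).eq]; exact h1⟩
      rw [← pow_add, show (2 + 2 : ℕ) = 3 + 1 from rfl, pow_succ, hz3, one_mul] at h2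
      rw [hgz.eq]; exact h2
  have hzcent : 27 ∣ Nat.card (centralizer ({z} : Set G)) := (sylow_le_centralizer h hzc).2
  have hz3o : 3 ∣ orderOf z := by rw [hzo]
  have hvz0 : v z = -3 ∨ v z = 0 ∨ v z = 3 := by
    rcases central_val h hv hz3o hzcent with e | e | e
    · exact Or.inr (Or.inl e.1)
    · exact Or.inr (Or.inr e.1)
    · exact Or.inl e.1
  have hexists : ∃ g ∈ T, ¬ ∀ a ∈ T, a * g = g * a := by
    by_contra hno
    push Not at hno
    exact hP fun a ha b hb => hno b hb a ha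
  obtain ⟨g₀, hg₀, hng₀⟩ := hexists
  have hg₀1 : g₀ ≠ 1 := fun e => hng₀ (e ▸ fun a _ => by simp)
  have hvz : v z = -3 := by
    obtain ⟨hw1, hw2⟩ := hcoset g₀ hg₀ hng₀
    have hg₀lt := hv.lt g₀ hg₀1
    suffices 9 ∣ 6 + 2 * v z + 6 * v g₀ ∧ 9 ∣ 36 + 2 * v z ^ 2 + 6 * v g₀ ^ 2 from
      z_check (v z) (by simp; tauto) (v g₀)
        (by simp only [List.mem_cons, List.not_mem_nil, or_false]; omega) this.1 this.2
    have hsq : IsCharacter G (fun g => ((v g ^ 2 : ℤ) : ℂ)) := by
      have := Char.IsCharacter.mul hv.char hv.char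
      convert this using 1
      funext g
      simp [sq]
    by_cases h3 : g₀ ^ 3 = 1
    · have e2 : v (g₀ ^ 2) = v g₀ := hv.pow_eq g₀ (by
        rw [orderOf_eq_prime h3 hg₀1]; norm_num)
      have hgz : Commute g₀ z := hzc g₀ hg₀
      have hsqz : v (g₀ ^ 2 * z) = v g₀ := by
        have hng2 : ¬ ∀ a ∈ T, a * g₀ ^ 2 = g₀ ^ 2 * a := fun hall => hng₀ fun a ha => by
          have : Commute a ((g₀ ^ 2) ^ 2) := Commute.pow_right (hall a ha) 2
          rwa [← pow_mul, show 2 * 2 = 3 + 1 from rfl, pow_succ, h3, one_mul] at this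
        rw [(hcoset _ (pow_mem hg₀ 2) hng2).1, e2]
      have hsqz2 : v (g₀ ^ 2 * z ^ 2) = v g₀ := by
        rw [← hgz.mul_pow]
        rw [hv.pow_eq (g₀ * z) (by
          have : orderOf (g₀ * z) ∣ 3 := orderOf_dvd_of_pow_eq_one (by rw [hgz.mul_pow, h3, hz3, one_mul])
          exact (Nat.Coprime.coprime_dvd_right this (by norm_num))), hw1]
      constructor
      · obtain ⟨m, hm⟩ := sum_two hv.char h3 hz3 hgz
        simp only [Finset.sum_range_succ, Finset.sum_range_zero, zero_add, pow_zero, pow_one,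
          one_mul, mul_one, hv.one, hz2, e2, hw1, hw2, hsqz, hsqz2] at hm
        refine ⟨m, Int.cast_injective (α := ℂ) ?_⟩
        push_cast at hm ⊢
        linear_combination hm
      · obtain ⟨m, hm⟩ := sum_two hsq h3 hz3 hgz
        simp only [Finset.sum_range_succ, Finset.sum_range_zero, zero_add, pow_zero, pow_one,
          one_mul, mul_one, hv.one, hz2, e2, hw1, hw2, hsqz, hsqz2] at hm
        refine ⟨m, Int.cast_injective (α := ℂ) ?_⟩
        push_cast at hm ⊢
        linear_combination hm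
    · have h9 : g₀ ^ 9 = 1 := by
        rw [show (9 : ℕ) = 3 * 3 from rfl, pow_mul]
        rcases hcube g₀ hg₀ with e | e | e <;> rw [e]
        · exact one_pow _
        · exact hz3
        · rw [← pow_mul, show 2 * 3 = 3 * 2 from rfl, pow_mul, hz3, one_pow]
      have ho : orderOf g₀ = 9 := orderOf_eq_prime_pow (p := 3) (n := 1) (by simpa using h3)
        (by norm_num; exact h9)
      have hp : ∀ i, i.Coprime 9 → v (g₀ ^ i) = v g₀ := fun i hi => hv.pow_eq g₀ (by rwa [ho])
      have hc3 : v (g₀ ^ 3) = v z ∧ v (g₀ ^ 6) = v z := by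
        rw [show (6 : ℕ) = 3 * 2 from rfl, pow_mul]
        rcases hcube g₀ hg₀ with e | e | e
        · exact absurd e h3
        · rw [e]; exact ⟨rfl, hz2⟩
        · rw [e, ← pow_mul, show z ^ (2 * 2) = z by
            rw [show 2 * 2 = 3 + 1 from rfl, pow_succ, hz3, one_mul]]
          exact ⟨hz2, rfl⟩
      constructor
      · obtain ⟨m, hm⟩ := Order7920.sum_pow_char hv.char h9 (c := 1) (one_pow _)
        simp only [Finset.sum_range_succ, Finset.sum_range_zero, zero_add, pow_zero, pow_one,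
          one_pow, mul_one, hv.one, hc3.1, hc3.2, hp 2 (by norm_num), hp 4 (by norm_num),
          hp 5 (by norm_num), hp 7 (by norm_num), hp 8 (by norm_num)] at hm
        refine ⟨m, Int.cast_injective (α := ℂ) ?_⟩
        push_cast at hm ⊢
        linear_combination hm
      · obtain ⟨m, hm⟩ := Order7920.sum_pow_char hsq h9 (c := 1) (one_pow _)
        simp only [Finset.sum_range_succ, Finset.sum_range_zero, zero_add, pow_zero, pow_one,
          one_pow, mul_one, hv.one, hc3.1, hc3.2, hp 2 (by norm_num), hp 4 (by norm_num),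
          hp 5 (by norm_num), hp 7 (by norm_num), hp 8 (by norm_num)] at hm
        refine ⟨m, Int.cast_injective (α := ℂ) ?_⟩
        push_cast at hm ⊢
        linear_combination hm
  intro g hg hg1
  refine ⟨fun hall => ?_, fun hng => ?_⟩
  · rcases (hcen g hg).1 hall with e | rfl | rfl
    · exact absurd e hg1
    · exact hvz
    · exact hz2.trans hvz
  · obtain ⟨e1, e2⟩ := hcoset g hg hng
    have e := sum_coset hv.char hz3 (by simp only [hv.one, hvz, hz2]; push_cast; norm_num) g
    simp only [e1, e2] at e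
    have : ((3 * v g : ℤ) : ℂ) = ((0 : ℤ) : ℂ) := by push_cast; linear_combination e
    have := Int.cast_injective this
    omega

/-- Centralisers of non-central 3-elements. -/
theorem noncentral (h : Nat.card G = 6048) {v : G → ℤ} (hv : Six v) (P : Sylow 3 G)
    (hP : ¬ ∀ a ∈ (P : Subgroup G), ∀ b ∈ (P : Subgroup G), a * b = b * a) {g : G}
    (hg : g ∈ (P : Subgroup G)) (hng : ¬ ∀ a ∈ (P : Subgroup G), a * g = g * a) :
    Nat.card (centralizer ({g} : Set G)) = 9 ∧ centralizer ({g} : Set G) ≤ P := by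
  obtain ⟨z, hzP, hz1, hz3, hcen, -, -⟩ := center_facts h P hP
  have hg1 : g ≠ 1 := fun e => hng (e ▸ fun a _ => by simp)
  have hvg := (nonabelian_val h hv P hP g hg hg1).2 hng
  have h3 := three_dvd_orderOf_of_mem h hg hg1
  set C := centralizer ({g} : Set G)
  have hmul := C.card_mul_index
  rw [h] at hmul
  have h32 := hv.thirtytwo_dvd g h3
  rw [hvg] at h32
  have hodd : Nat.card C ∣ 189 := by
    have : (32 : ℕ) ∣ C.index := by
      have : (32 : ℤ) ∣ (C.index : ℤ) := by simpa using h32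
      exact_mod_cast this
    obtain ⟨q, hq⟩ := this
    exact ⟨q, by rw [hq] at hmul; nlinarith⟩
  have h27 : Nat.card C ∣ 27 :=
    ((Nat.Prime.coprime_iff_not_dvd (by norm_num)).2 (not_seven_dvd_centralizer h h3)).symm.dvd_of_dvd_mul_left
      (show Nat.card C ∣ 7 * 27 from hodd)
  have hne27 : Nat.card C ≠ 27 := by
    intro e
    obtain ⟨Q, hQ⟩ := (IsPGroup.of_card (p := 3) (n := 3) (e.trans (by norm_num))).exists_le_sylow
    have hCQ : C = Q := eq_of_le_of_card_ge hQ (by rw [e, card_sylow h])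
    have hgQ : ∀ a ∈ (Q : Subgroup G), a * g = g * a := fun a ha =>
      mem_centralizer_singleton_iff.1 (hCQ.symm ▸ ha : a ∈ C)
    have := (nonabelian_val h hv Q (fun hQc => hP (comm_of_comm Q P hQc)) g
      (hQ (mem_centralizer_singleton_iff.2 rfl)) hg1).1 hgQ
    omega
  set A := C ⊓ (P : Subgroup G)
  have hgA : g ∈ A := ⟨mem_centralizer_singleton_iff.2 rfl, hg⟩
  have hzA : z ∈ A := ⟨mem_centralizer_singleton_iff.2 (((hcen z hzP).2 (Or.inr (Or.inl rfl))) g hg).symm, hzP⟩
  have hA : 3 < Nat.card A := by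
    by_contra hle
    have hzle : zpowers z ≤ A := zpowers_le.2 hzA
    have heq : zpowers z = A := eq_of_le_of_card_ge hzle (by
      rw [Nat.card_zpowers, orderOf_eq_prime hz3 hz1]; omega)
    obtain ⟨n, rfl⟩ := mem_zpowers_iff.1 (heq ▸ hgA : g ∈ zpowers z)
    exact hng fun a ha => (Commute.zpow_right ((hcen z hzP).2 (Or.inr (Or.inl rfl)) a ha) n).eq
  have hC9 : Nat.card C = 9 := by
    have hd : Nat.card C ∈ Nat.divisors 27 := Nat.mem_divisors.2 ⟨h27, by norm_num⟩
    rw [show Nat.divisors 27 = {1, 3, 9, 27} by decide +kernel] at hd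
    simp only [Finset.mem_insert, Finset.mem_singleton] at hd
    have : Nat.card A ≤ Nat.card C := card_le_of_le inf_le_left
    omega
  refine ⟨hC9, ?_⟩
  have hA9 : Nat.card A ∣ 9 := hC9 ▸ card_dvd_of_le (inf_le_left : A ≤ C)
  have : A = C := eq_of_le_of_card_ge inf_le_left (by
    have hd : Nat.card A ∈ Nat.divisors 9 := Nat.mem_divisors.2 ⟨hA9, by norm_num⟩
    rw [show Nat.divisors 9 = {1, 3, 9} by decide +kernel] at hd
    simp only [Finset.mem_insert, Finset.mem_singleton] at hd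
    omega)
  exact this ▸ inf_le_right

end nonabelian

variable [Fact (Nat.Prime 3)]

/-- No two Sylow 3-subgroups meet in a subgroup of order 9. -/
theorem meet_ne_nine (h : Nat.card G = 6048) {v : G → ℤ} (hv : Six v) {P Q : Sylow 3 G}
    (hPQ : P ≠ Q) : Nat.card ↥((P : Subgroup G) ⊓ Q) ≠ 9 := by
  intro h9
  set D := (P : Subgroup G) ⊓ Q
  by_cases hP : ∀ a ∈ (P : Subgroup G), ∀ b ∈ (P : Subgroup G), a * b = b * a
  · have hQ := comm_of_comm P Q hP
    set C := centralizer (D : Set G)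
    have hPC : (P : Subgroup G) ≤ C := fun a ha => mem_centralizer_iff.2 fun b hb => hP b hb.1 a ha
    have hQC : (Q : Subgroup G) ≤ C := fun a ha => mem_centralizer_iff.2 fun b hb => hQ b hb.2 a ha
    obtain ⟨d, hd, hd1⟩ : ∃ d ∈ D, d ≠ 1 := D.ne_bot_iff_exists_ne_one.1 (fun e => by
      rw [e, card_bot] at h9; norm_num at h9) |>.elim fun d hd => ⟨d, d.2, fun e => hd (Subtype.ext e)⟩
    have hd3 := three_dvd_orderOf_of_mem h hd.1 hd1
    have h2 : ¬ 2 ∣ Nat.card C := by
      intro h2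
      have : Fact (Nat.Prime 2) := ⟨Nat.prime_two⟩
      obtain ⟨t, ht⟩ := exists_prime_orderOf_dvd_card' (G := C) 2 h2
      rw [← Subgroup.orderOf_coe] at ht
      obtain ⟨a, ha, hat⟩ := hv.no_nine _ ht D h9
      exact hat (mem_centralizer_iff.1 t.2 a ha)
    have h7 : ¬ 7 ∣ Nat.card C := fun h7 => not_seven_dvd_centralizer h hd3
      (h7.trans (card_dvd_of_le (centralizer_le (Set.singleton_subset_iff.2 hd))))
    have hdvd : Nat.card C ∣ 27 := by
      have h1 : Nat.card C ∣ 2 ^ 5 * (7 * 27) := by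
        have := C.card_subgroup_dvd_card; rwa [h] at this
      have h3 := ((((Nat.Prime.coprime_iff_not_dvd Nat.prime_two).2 h2).pow_left 5).symm).dvd_of_dvd_mul_left h1
      exact ((Nat.Prime.coprime_iff_not_dvd (by norm_num)).2 h7).symm.dvd_of_dvd_mul_left h3
    have e1 : (P : Subgroup G) = C := eq_of_le_of_card_ge hPC (by
      rw [card_sylow h]; exact Nat.le_of_dvd (by norm_num) hdvd)
    have e2 : (Q : Subgroup G) = C := eq_of_le_of_card_ge hQC (by
      rw [card_sylow h]; exact Nat.le_of_dvd (by norm_num) hdvd)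
    exact hPQ (Sylow.ext (e1.trans e2.symm))
  · obtain ⟨z, hzP, hz1, hz3, hcen, -, -⟩ := center_facts h P hP
    obtain ⟨g, hgD, hng⟩ : ∃ g ∈ D, ¬ ∀ a ∈ (P : Subgroup G), a * g = g * a := by
      by_contra hno
      push Not at hno
      classical
      have hsub : (D : Set G) ⊆ ({1, z, z ^ 2} : Finset G) := fun g hg => by
        simpa using (hcen g hg.1).1 fun a ha => hno g hg a ha
      have := Nat.card_mono (Finset.finite_toSet _) hsub
      rw [SetLike.coe_sort_coe, h9, Nat.card_eq_fintype_card] at this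
      simp only [Finset.coe_sort_coe, Fintype.card_coe] at this
      exact absurd (this.trans Finset.card_le_three) (by norm_num)
    set N := normalizer (D : Set G)
    have hPN : (P : Subgroup G) ≤ N := normal_in_sylow h P inf_le_left h9
    have hQN : (Q : Subgroup G) ≤ N := normal_in_sylow h Q inf_le_right h9
    obtain ⟨hC9, -⟩ := noncentral h hv P hP hgD.1 hng
    have hg1 : g ≠ 1 := fun e => hng (e ▸ fun a _ => by simp)
    -- the conjugates of `g` under the normaliser lie in `D`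
    have hle : Nat.card N ≤ 72 := by
      classical
      let act : MulAction N G := MulAction.compHom G ((ConjAct.toConjAct (G := G)).toMonoidHom.comp N.subtype)
      have hsmul : ∀ (n : N) (x : G), n • x = (n : G) * x * (n : G)⁻¹ := fun n x => rfl
      have e := Nat.card_congr (MulAction.orbitProdStabilizerEquivGroup N g)
      rw [Nat.card_prod] at e
      rw [← e]
      have hO : Nat.card (MulAction.orbit N g) ≤ 8 := by
        have hsub : MulAction.orbit N g ⊆ ((D : Set G) \ {1}) := by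
          rintro x ⟨n, rfl⟩
          exact ⟨(mem_normalizer_iff.1 n.2 g).1 hgD, fun e => hg1 (conj_eq_one_iff.1 e)⟩
        refine (Nat.card_mono (Set.toFinite _) hsub).trans ?_
        rw [Nat.card_coe_set_eq, Set.ncard_sdiff_singleton_of_mem D.one_mem, ← Nat.card_coe_set_eq,
          SetLike.coe_sort_coe, h9]
      have hS : Nat.card (MulAction.stabilizer N g) ≤ 9 := by
        rw [← hC9]
        refine Nat.card_le_card_of_injective (fun n => ⟨(n.1 : G), ?_⟩) fun a b hab => ?_
        · have := n.2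
          rw [MulAction.mem_stabilizer_iff, hsmul, mul_inv_eq_iff_eq_mul] at this
          exact mem_centralizer_singleton_iff.2 this
        · exact Subtype.ext (Subtype.ext (Subtype.ext_iff.1 hab :))
      calc _ ≤ 8 * 9 := Nat.mul_le_mul hO hS
        _ = 72 := rfl
    have h27 : Nat.card (P.subtype hPN : Subgroup N) = 27 := by
      rw [P.coe_subtype hPN, Nat.card_congr (subgroupOfEquivOfLe hPN).toEquiv, card_sylow h]
    have hdvd := (P.subtype hPN).card_dvd_index
    have hmul := (P.subtype hPN : Subgroup N).card_mul_index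
    have hmod : Nat.card (Sylow 3 N) ≡ 1 [MOD 3] := card_sylow_modEq_one 3 N
    have hne : Nat.card (Sylow 3 N) ≠ 1 := fun e1 => by
      have : Subsingleton (Sylow 3 N) := (Finite.card_le_one_iff_subsingleton (α := _)).mp e1.le
      exact hPQ (Sylow.subtype_injective (Subsingleton.elim (P.subtype hPN) (Q.subtype hQN)))
    have hidx : (P.subtype hPN : Subgroup N).index ≤ 2 := by rw [h27] at hmul; omega
    have := Nat.le_of_dvd (Nat.pos_of_ne_zero index_ne_zero_of_finite) hdvd
    unfold Nat.ModEq at hmod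
    omega

theorem not_seven_normalizer (h : Nat.card G = 6048) (P : Sylow 3 G) :
    ¬ 7 ∣ Nat.card (normalizer ((P : Subgroup G) : Set G)) := by
  classical
  intro h7
  have : Fact (Nat.Prime 7) := ⟨by norm_num⟩
  obtain ⟨y, hy⟩ := exists_prime_orderOf_dvd_card' (G := normalizer ((P : Subgroup G) : Set G)) 7 h7
  rw [← Subgroup.orderOf_coe] at hy
  have := Fintype.ofFinite (P : Subgroup G)
  let f : Function.End (P : Subgroup G) := fun a =>
    ⟨(y : G) * a * (y : G)⁻¹, (mem_normalizer_iff.1 y.2 a).1 a.2⟩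
  have hpow : ∀ (n : ℕ) (a : (P : Subgroup G)), ((f ^ n) a : G) = (y : G) ^ n * a * ((y : G) ^ n)⁻¹ := by
    intro n
    induction n with
    | zero => intro a; rw [pow_zero]; show (a : G) = _; simp
    | succ n ih =>
      intro a
      rw [pow_succ']
      show (y : G) * ((f ^ n) a : G) * (y : G)⁻¹ = _
      rw [ih, pow_succ']; group
  have hf : f ^ 7 ^ 1 = 1 := funext fun a => Subtype.ext (by
    rw [hpow, pow_one, ← hy, pow_orderOf_eq_one]; show _ = (a : G); simp)
  have hmod := Equiv.Perm.card_fixedPoints_modEq hf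
  rw [← Nat.card_eq_fintype_card, card_sylow h, ← Nat.card_eq_fintype_card] at hmod
  obtain ⟨⟨a, ha⟩, ha1⟩ : ∃ a : Function.fixedPoints f, a.1 ≠ 1 := by
    by_contra hno
    push Not at hno
    have : Subsingleton (Function.fixedPoints f) := ⟨fun a b => Subtype.ext ((hno a).trans (hno b).symm)⟩
    have := (Finite.card_le_one_iff_subsingleton (α := Function.fixedPoints f)).mpr this
    unfold Nat.ModEq at hmod
    omega
  have hcomm : (y : G) * a = a * y := mul_inv_eq_iff_eq_mul.1 (congrArg Subtype.val ha)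
  refine not_seven_dvd_centralizer h (three_dvd_orderOf_of_mem h a.2 fun e => ha1 (Subtype.ext e)) ?_
  rw [← hy]
  exact Subgroup.orderOf_dvd_natCard _ (mem_centralizer_singleton_iff.2 hcomm)

theorem card_normalizer_sylow (h : Nat.card G = 6048) {v : G → ℤ} (hv : Six v) :
    Nat.card (Sylow 3 G) = 28 := by
  have hmod : Nat.card (Sylow 3 G) ≡ 1 [MOD 3 ^ 2] := by
    by_contra hne
    obtain ⟨P, R, hPR, hidx⟩ := exists_pair_index_le 3 2 hne
    apply meet_ne_nine h hv hPR
    rw [← inf_subgroupOf_left] at hidx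
    have hm := (((P : Subgroup G) ⊓ R).subgroupOf (P : Subgroup G)).card_mul_index
    rw [Nat.card_congr (subgroupOfEquivOfLe inf_le_left).toEquiv, card_sylow h] at hm
    have hd : Nat.card ↥((P : Subgroup G) ⊓ R) ∈ Nat.divisors 27 :=
      Nat.mem_divisors.2 ⟨Dvd.intro _ hm, by norm_num⟩
    rw [show Nat.divisors 27 = {1, 3, 9, 27} by decide +kernel] at hd
    simp only [Finset.mem_insert, Finset.mem_singleton] at hd
    have hlt : (P : Subgroup G) ⊓ R < P := inf_lt_left hPR
    have : Nat.card ↥((P : Subgroup G) ⊓ R) ≠ 27 := fun e =>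
      hlt.ne (eq_of_le_of_card_ge inf_le_left (by rw [e, card_sylow h]))
    rcases hd with e | e | e | e
    · rw [e] at hm; omega
    · rw [e] at hm; omega
    · exact e
    · exact absurd e this
  obtain ⟨P⟩ := (inferInstance : Nonempty (Sylow 3 G))
  have h1 := card_normalizer_mul_card_sylow P
  rw [h] at h1
  have h2 : Nat.card (Sylow 3 G) ∣ 224 := by
    rw [← index_sylow (p := 3) (e := 3) (m := 224) (by rw [h]; norm_num) (by norm_num) P]
    exact P.card_dvd_index
  have hne1 := one_lt_card_sylow (not_comm h) (p := 3) (by rw [h]; norm_num)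
  have h7 := not_seven_normalizer h P
  have : ∀ n ∈ Nat.divisors 224, n % 9 = 1 → 1 < n → n = 28 := by decide +kernel
  exact this _ (Nat.mem_divisors.2 ⟨h2, by norm_num⟩) (by simpa [Nat.ModEq] using hmod) hne1

theorem not_abelian (h : Nat.card G = 6048) {v : G → ℤ} (hv : Six v) (P : Sylow 3 G) :
    ¬ ∀ a ∈ (P : Subgroup G), ∀ b ∈ (P : Subgroup G), a * b = b * a := by
  classical
  intro hP
  have hn := card_normalizer_sylow h hv
  have hN := card_normalizer_mul_card_sylow P
  rw [hn, h] at hN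
  set N := normalizer ((P : Subgroup G) : Set G)
  have : Fact (Nat.Prime 2) := ⟨Nat.prime_two⟩
  obtain ⟨K, hK⟩ := Sylow.exists_subgroup_card_pow_prime 2 (G := N) (n := 3) (by
    rw [show Nat.card N = 216 by omega]; norm_num)
  have hval : ∀ g : (P : Subgroup G), g ≠ 1 → v g = -3 ∨ v g = 0 ∨ v g = 3 := by
    intro g hg
    rcases central_val h hv (three_dvd_orderOf_of_mem h g.2 fun e => hg (Subtype.ext e))
      (sylow_le_centralizer h fun a ha => hP a ha g g.2).2 with e | e | e
    · exact Or.inr (Or.inl e.1)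
    · exact Or.inr (Or.inr e.1)
    · exact Or.inl e.1
  refine false_of_comm (P := (P : Subgroup G)) (fun a b => Subtype.ext (hP a a.2 b b.2))
    (card_sylow h P) (fun g => v g) (Char.IsCharacter.restrict hv.char (P : Subgroup G)) hv.one hval ?_
  let act : MulAction K {g : (P : Subgroup G) // v g = 0} :=
  { smul := fun k g => ⟨⟨((k : N) : G) * g.1 * ((k : N) : G)⁻¹, (mem_normalizer_iff.1 (k : N).2 _).1 g.1.2⟩,
      by rw [show v _ = v ((g.1 : G)) from hv.conj_eq _ _]; exact g.2⟩
    one_smul := fun g => Subtype.ext (Subtype.ext (by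
      show ((1 : N) : G) * (g.1 : G) * ((1 : N) : G)⁻¹ = _; simp))
    mul_smul := fun a b g => Subtype.ext (Subtype.ext (by
      show (((a : N) * b : N) : G) * (g.1 : G) * (((a : N) * b : N) : G)⁻¹ =
        ((a : N) : G) * (((b : N) : G) * (g.1 : G) * ((b : N) : G)⁻¹) * ((a : N) : G)⁻¹
      push_cast; group)) }
  have hfree : ∀ g : {g : (P : Subgroup G) // v g = 0}, MulAction.stabilizer K g = ⊥ := by
    intro g
    rw [eq_bot_iff]
    intro k hk
    have hk' : ((k : N) : G) * (g.1 : G) * ((k : N) : G)⁻¹ = g.1 :=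
      congrArg (fun x : {g : (P : Subgroup G) // v g = 0} => ((x.1 : G))) hk
    have hg1 : (g.1 : G) ≠ 1 := fun e => by
      have := g.2; rw [e, hv.one] at this; norm_num at this
    have h27 : Nat.card (centralizer ({(g.1 : G)} : Set G)) = 27 := by
      rcases central_val h hv (three_dvd_orderOf_of_mem h g.1.2 hg1)
        (sylow_le_centralizer h fun a ha => hP a ha g.1 g.1.2).2 with e | e | e
      · exact e.2
      · exact absurd e.1 (by rw [g.2]; norm_num)
      · exact absurd e.1 (by rw [g.2]; norm_num)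
    have h1 : orderOf ((k : N) : G) ∣ 27 := h27 ▸ Subgroup.orderOf_dvd_natCard _
      (mem_centralizer_singleton_iff.2 (mul_inv_eq_iff_eq_mul.1 hk'))
    have h2 : orderOf ((k : N) : G) ∣ 8 := by
      rw [Subgroup.orderOf_coe, Subgroup.orderOf_coe]
      have := orderOf_dvd_natCard k
      rwa [hK] at this
    have h3 := Nat.dvd_gcd h1 h2
    rw [show Nat.gcd 27 8 = 1 from rfl, Nat.dvd_one, orderOf_eq_one_iff] at h3
    rw [mem_bot]
    exact Subtype.ext (Subtype.ext h3)
  rw [Nat.card_congr (MulAction.selfEquivOrbitsQuotientProd hfree), Nat.card_prod, hK]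
  exact dvd_mul_left 8 _

/-- The Sylow 3-subgroups of a simple group of order 6048. -/
theorem sylow_three (h : Nat.card G = 6048) :
    Nat.card (Sylow 3 G) = 28 ∧
    (∀ P : Sylow 3 G, ¬ ∀ a ∈ (P : Subgroup G), ∀ b ∈ (P : Subgroup G), a * b = b * a) ∧
    (∀ P Q : Sylow 3 G, P ≠ Q → (P : Subgroup G) ⊓ (Q : Subgroup G) = ⊥) ∧
    ∀ (P : Sylow 3 G), ∀ g ∈ (P : Subgroup G), g ≠ 1 →
      ((¬ ∀ a ∈ (P : Subgroup G), a * g = g * a) → Nat.card (centralizer ({g} : Set G)) = 9) ∧
      ((∀ a ∈ (P : Subgroup G), a * g = g * a) → Nat.card (centralizer ({g} : Set G)) ≤ 108) := by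
  obtain ⟨v, hv⟩ := exists_six h
  have hnab := not_abelian h hv
  have hcent : ∀ (P : Sylow 3 G), ∀ g ∈ (P : Subgroup G), g ≠ 1 →
      ((¬ ∀ a ∈ (P : Subgroup G), a * g = g * a) → Nat.card (centralizer ({g} : Set G)) = 9) ∧
      ((∀ a ∈ (P : Subgroup G), a * g = g * a) → Nat.card (centralizer ({g} : Set G)) ≤ 108) := by
    intro P g hg hg1
    refine ⟨fun hng => (noncentral h hv P (hnab P) hg hng).1, fun hall => ?_⟩
    rcases central_val h hv (three_dvd_orderOf_of_mem h hg hg1) (sylow_le_centralizer h hall).2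
      with e | e | e <;> omega
  refine ⟨card_normalizer_sylow h hv, hnab, fun P Q hPQ => ?_, hcent⟩
  by_contra hne
  obtain ⟨w, hwP, hwQ, hw1⟩ : ∃ w, w ∈ (P : Subgroup G) ∧ w ∈ (Q : Subgroup G) ∧ w ≠ 1 := by
    by_contra hno
    push Not at hno
    exact hne ((eq_bot_iff_forall _).2 fun x hx => hno x hx.1 hx.2)
  set D := (P : Subgroup G) ⊓ (Q : Subgroup G)
  have hlt : D < P := inf_lt_left hPQ
  have hD27 : Nat.card D ≠ 27 := fun e =>
    hlt.ne (eq_of_le_of_card_ge inf_le_left (by rw [e, card_sylow h]))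
  have hdvd : Nat.card D ∈ Nat.divisors 27 :=
    Nat.mem_divisors.2 ⟨card_sylow h P ▸ card_dvd_of_le inf_le_left, by norm_num⟩
  rw [show Nat.divisors 27 = {1, 3, 9, 27} by decide +kernel] at hdvd
  simp only [Finset.mem_insert, Finset.mem_singleton] at hdvd
  have h9 : Nat.card D ≠ 9 := meet_ne_nine h hv hPQ
  suffices 3 < Nat.card D by omega
  set C := centralizer ({w} : Set G)
  by_cases hc : ∀ a ∈ (P : Subgroup G), a * w = w * a
  · have hvw := (nonabelian_val h hv P (hnab P) w hwP hw1).1 hc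
    have hcQ : ∀ a ∈ (Q : Subgroup G), a * w = w * a := by
      by_contra hq
      rw [(nonabelian_val h hv Q (hnab Q) w hwQ hw1).2 hq] at hvw
      norm_num at hvw
    obtain ⟨hPC, -⟩ := sylow_le_centralizer h hc
    obtain ⟨hQC, -⟩ := sylow_le_centralizer h hcQ
    have hle := (hcent P w hwP hw1).2 hc
    have hr : (Q : Subgroup G).relIndex P ≤ (Q : Subgroup G).relIndex C :=
      relIndex_le_of_le_right hPC (index_ne_zero_of_finite)
    have e1 := ((Q : Subgroup G).subgroupOf C).card_mul_index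
    rw [Nat.card_congr (subgroupOfEquivOfLe hQC).toEquiv, card_sylow h] at e1
    have e2 := ((Q : Subgroup G).subgroupOf (P : Subgroup G)).card_mul_index
    rw [← inf_subgroupOf_left, Nat.card_congr (subgroupOfEquivOfLe inf_le_left).toEquiv,
      card_sylow h, inf_subgroupOf_left] at e2
    unfold relIndex at hr
    change Nat.card D * _ = 27 at e2
    nlinarith
  · obtain ⟨hC9, hCP⟩ := noncentral h hv P (hnab P) hwP hc
    have hqc : ¬ ∀ a ∈ (Q : Subgroup G), a * w = w * a := fun hq => by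
      have h0 := (nonabelian_val h hv P (hnab P) w hwP hw1).2 hc
      rw [(nonabelian_val h hv Q (hnab Q) w hwQ hw1).1 hq] at h0
      norm_num at h0
    have : Nat.card C ≤ Nat.card D := card_le_of_le (le_inf hCP (noncentral h hv Q (hnab Q) hwQ hqc).2)
    rw [hC9] at this
    omega

end Cfsg.Agent.Order6048
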