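/-
Words in a group of order 27 and exponent 3.

Main results (namespace `Cfsg.Agent.Order6048`):
* `Rel`, `word` : generators and the word for a point;
* `Rel.word_mul`, `Rel.word_inj`, `Rel.word_conj` : the tables describe the group.
-/
import Cfsg.Agent.Lib.Order6048.Tables

set_option autoImplicit false
set_option maxRecDepth 4000

namespace Cfsg.Agent.Order6048

open Cfsg.Agent.SmallOrders

variable {G : Type*} [Group G]

/-- `c` is central in `⟨a, b⟩`, everything has exponent 3 and `a b = b a c` -/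
structure Rel (a b c : G) : Prop where
  a3 : a ^ 3 = 1
  b3 : b ^ 3 = 1
  c3 : c ^ 3 = 1
  ac : Commute a c
  bc : Commute b c
  ab : a * b = b * a * c
  ne : c ≠ 1

/-- the element for a point -/
def word (a b c : G) (i : ℕ) : G := b ^ (i / 3 % 3) * a ^ (i % 3) * c ^ (i / 9)

theorem tab_spec : ∀ i, i < 27 → ∀ j, j < 27 →
    TwoPoint.look addTab i j < 27 ∧
    TwoPoint.look addTab i j % 3 = (i % 3 + j % 3) % 3 ∧
    TwoPoint.look addTab i j / 3 % 3 = (i / 3 % 3 + j / 3 % 3) % 3 ∧
    TwoPoint.look addTab i j / 9 = (i / 9 + j / 9 + i % 3 * (j / 3 % 3)) % 3 := by decide +kernel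

theorem quot_spec : ∀ i, i < 27 → ∃ x, x < 27 ∧ TwoPoint.look addTab i x = 0 ∧
    ∀ j, j < 27 → TwoPoint.look addTab j x = 0 → j = i := by decide +kernel

/-- the point of the image of `word i` under an element sending `a, b, c` to `b, a b, c⁻¹` -/
theorem mul_spec : ∀ i, i < 27 → i ≠ 0 → ∃ g ∈ ([(1, 3), (3, 13), (9, 18)] : List (ℕ × ℕ)),
    ∃ p, p < i ∧ TwoPoint.look addTab g.1 p = i ∧
      TwoPoint.look mulTab 1 i = TwoPoint.look addTab g.2 (TwoPoint.look mulTab 1 p) := by
  decide +kernel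

theorem mul_lt : ∀ i, i < 27 → TwoPoint.look mulTab 1 i < 27 ∧ TwoPoint.look mulTab 1 0 = 0 := by
  decide +kernel

theorem pow_comm_aux {a b c : G} (h : Rel a b c) (m : ℕ) : a ^ m * b = b * a ^ m * c ^ m := by
  induction m with
  | zero => simp
  | succ m ih =>
    calc a ^ (m + 1) * b = a ^ m * (a * b) := by rw [pow_succ, mul_assoc]
      _ = (a ^ m * b) * a * c := by rw [h.ab]; group
      _ = b * a ^ m * (c ^ m * a) * c := by rw [ih]; group
      _ = b * a ^ m * (a * c ^ m) * c := by rw [(h.ac.pow_right m).eq]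
      _ = b * a ^ (m + 1) * c ^ (m + 1) := by simp only [pow_succ, mul_assoc]

theorem pow_comm {a b c : G} (h : Rel a b c) (m n : ℕ) :
    a ^ m * b ^ n = b ^ n * a ^ m * c ^ (m * n) := by
  induction n with
  | zero => simp
  | succ n ih =>
    calc a ^ m * b ^ (n + 1) = (a ^ m * b ^ n) * b := by rw [pow_succ, mul_assoc]
      _ = b ^ n * a ^ m * (c ^ (m * n) * b) := by rw [ih, mul_assoc]
      _ = b ^ n * (a ^ m * b) * c ^ (m * n) := by
        rw [← (h.bc.pow_right _).eq]; simp only [mul_assoc]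
      _ = b ^ (n + 1) * a ^ m * (c ^ m * c ^ (m * n)) := by
        rw [pow_comm_aux h m, pow_succ]; simp only [mul_assoc]
      _ = b ^ (n + 1) * a ^ m * c ^ (m * (n + 1)) := by rw [← pow_add]; ring_nf

theorem Rel.word_mul {a b c : G} (h : Rel a b c) {i j : ℕ} (hi : i < 27) (hj : j < 27) :
    word a b c i * word a b c j = word a b c (TwoPoint.look addTab i j) := by
  obtain ⟨-, h1, h2, h3⟩ := tab_spec i hi j hj
  unfold word
  rw [h1, h2, h3]
  generalize i / 3 % 3 = β, i % 3 = α, i / 9 = γ, j / 3 % 3 = β', j % 3 = α', j / 9 = γ'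
  rw [← pow_eq_pow_mod _ h.b3, ← pow_eq_pow_mod _ h.a3, ← pow_eq_pow_mod _ h.c3,
    pow_add b, pow_add a, pow_add c, pow_add c]
  have cb := fun m n : ℕ => ((h.bc.pow_pow n m).symm).eq
  have ca := fun m n : ℕ => ((h.ac.pow_pow n m).symm).eq
  have hab := pow_comm h α β'
  have hb := cb γ β'
  have ha := ca γ α'
  have ha2 := ca (α * β') α'
  have hC : c ^ γ * c ^ γ' * c ^ (α * β') = c ^ (α * β') * (c ^ γ * c ^ γ') :=
    ((Commute.refl c).pow_pow _ _).mul_left ((Commute.refl c).pow_pow _ _) |>.eq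
  generalize b ^ β = B, b ^ β' = B', a ^ α = A, a ^ α' = A', c ^ γ = C, c ^ γ' = C',
    c ^ (α * β') = D at hab hb ha ha2 hC ⊢
  calc B * A * C * (B' * A' * C') = B * A * (C * B') * A' * C' := by simp only [mul_assoc]
    _ = B * (A * B') * (C * A') * C' := by rw [hb]; simp only [mul_assoc]
    _ = B * B' * A * (D * A') * (C * C') := by rw [hab, ha]; simp only [mul_assoc]
    _ = B * B' * (A * A') * (D * (C * C')) := by rw [ha2]; simp only [mul_assoc]
    _ = _ := by rw [hC]

theorem Rel.word_ne {a b c : G} (h : Rel a b c) {n : ℕ} (hn : n < 27) (h1 : word a b c n = 1) :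
    n = 0 := by
  unfold word at h1
  have hab : ¬ Commute a b := fun hc => h.ne (by
    have e := h.ab
    rw [hc.eq] at e
    exact left_eq_mul.1 e)
  by_cases hβ : n / 3 % 3 = 0
  · by_cases hα : n % 3 = 0
    · rw [hβ, hα, pow_zero, pow_zero, one_mul, one_mul] at h1
      by_contra hn0
      have h9 : n / 9 = 1 ∨ n / 9 = 2 := by omega
      rcases h9 with e | e <;> rw [e] at h1
      · exact h.ne (by simpa using h1)
      · exact h.ne (by
          calc c = c ^ 3 * (c ^ 2)⁻¹ := by group
            _ = 1 := by rw [h1, h.c3]; group)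
    · exfalso
      rw [hβ, pow_zero, one_mul, mul_eq_one_iff_eq_inv] at h1
      have hcomm : Commute (a ^ (n % 3)) b := by rw [h1]; exact ((h.bc.pow_right _).symm).inv_left
      apply hab
      have h12 : n % 3 = 1 ∨ n % 3 = 2 := by omega
      rcases h12 with e | e <;> rw [e] at hcomm
      · rwa [pow_one] at hcomm
      · have := hcomm.pow_left 2
        rwa [← pow_mul, show 2 * 2 = 3 + 1 from rfl, pow_succ, h.a3, one_mul] at this
  · exfalso
    have hcomm : Commute a (b ^ (n / 3 % 3)) := by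
      have e : b ^ (n / 3 % 3) = (c ^ (n / 9))⁻¹ * (a ^ (n % 3))⁻¹ :=
        (eq_inv_of_mul_eq_one_left (by rw [← mul_assoc]; exact h1)).trans (mul_inv_rev _ _)
      rw [e]
      exact (h.ac.pow_right _).inv_right.mul_right ((Commute.refl a).pow_right _).inv_right
    apply hab
    have h12 : n / 3 % 3 = 1 ∨ n / 3 % 3 = 2 := by omega
    rcases h12 with e | e <;> rw [e] at hcomm
    · rwa [pow_one] at hcomm
    · have := hcomm.pow_right 2
      rwa [← pow_mul, show 2 * 2 = 3 + 1 from rfl, pow_succ, h.b3, one_mul] at this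

theorem Rel.word_zero {a b c : G} : word a b c 0 = 1 := by simp [word]

theorem Rel.word_inj {a b c : G} (h : Rel a b c) {i j : ℕ} (hi : i < 27) (hj : j < 27)
    (hij : word a b c i = word a b c j) : i = j := by
  obtain ⟨x, hx, hix, huniq⟩ := quot_spec i hi
  refine (huniq j hj (h.word_ne (tab_spec j hj x hx).1 ?_)).symm
  rw [← h.word_mul hj hx, ← hij, h.word_mul hi hx, hix, Rel.word_zero]

theorem Rel.word_conj {a b c : G} (h : Rel a b c) {k : G} (ha : k * a * k⁻¹ = b)
    (hb : k * b * k⁻¹ = a * b) (hc : k * c * k⁻¹ = c ^ 2) {i : ℕ} (hi : i < 27) :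
    k * word a b c i * k⁻¹ = word a b c (TwoPoint.look mulTab 1 i) := by
  induction i using Nat.strong_induction_on with
  | _ i ih =>
    rcases Nat.eq_zero_or_pos i with rfl | h0
    · rw [(mul_lt 0 hi).2, Rel.word_zero, mul_one, mul_inv_cancel]
    obtain ⟨g, hg, p, hp, hgp, himg⟩ := mul_spec i hi (by omega)
    have hgi : g.1 < 27 ∧ g.2 < 27 ∧ k * word a b c g.1 * k⁻¹ = word a b c g.2 := by
      simp only [List.mem_cons, List.not_mem_nil, or_false] at hg
      rcases hg with rfl | rfl | rfl <;> refine ⟨by norm_num, by norm_num, ?_⟩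
      · simpa [word] using ha
      · simpa [word, h.ab, mul_assoc] using hb
      · simpa [word] using hc
    rw [himg, ← h.word_mul hgi.2.1 (mul_lt p (by omega)).1, ← hgi.2.2, ← ih p hp (by omega),
      ← hgp, ← h.word_mul hgi.1 (by omega)]
    group

end Cfsg.Agent.Order6048
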