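/-
Generators for the normaliser of a Sylow 3-subgroup of a simple group of order 6048.

Main results (namespace `Cfsg.Agent.Order6048`):
* `Local`, `exists_local` : a point pair with its stabiliser and the centralisers used;
* `Frame`, `exists_frame` : translations `word a b c i` and a generator `k` of the stabiliser.
-/
import Cfsg.Agent.Lib.Order6048.Sylow
import Cfsg.Agent.Lib.Order6048.Words
import Cfsg.Agent.Lib.SmallOrders.TwoPoint.SylowTI

set_option autoImplicit false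
set_option linter.unusedSectionVars false

namespace Cfsg.Agent.Order6048

open Subgroup
open Cfsg.Agent.SmallOrders

variable {G : Type*} [Group G] [Finite G] [Fact (Nat.Prime 3)]

/-- `g` commutes with every element of `P` -/
def Cen (P : Sylow 3 G) (g : G) : Prop := ∀ a ∈ (P : Subgroup G), a * g = g * a

/-- The stabiliser `S` of the points `P`, `Q` acting on `P`. -/
structure Local (P Q : Sylow 3 G) (S : Subgroup G) (z : G) : Prop where
  cardP : Nat.card (P : Subgroup G) = 27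
  cardS : Nat.card S = 8
  ne : Q ≠ P
  faith : ∀ g : G, (∀ R : Sylow 3 G, g • R = R) → g = 1
  fixP : ∀ g ∈ (P : Subgroup G), g • P = P
  free : ∀ g ∈ (P : Subgroup G), ∀ R : Sylow 3 G, R ≠ P → g • R = R → g = 1
  reg : ∀ R, R ≠ P → ∃ g ∈ (P : Subgroup G), g • Q = R
  memS : ∀ g : G, g ∈ S ↔ g • P = P ∧ g • Q = Q
  normS : ∀ g ∈ S, ∀ a ∈ (P : Subgroup G), g * a * g⁻¹ ∈ (P : Subgroup G)
  zmem : z ∈ (P : Subgroup G)
  z1 : z ≠ 1
  z3 : z ^ 3 = 1
  cen : ∀ g ∈ (P : Subgroup G), Cen P g ↔ g = 1 ∨ g = z ∨ g = z ^ 2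
  comm : ∀ a ∈ (P : Subgroup G), ∀ b ∈ (P : Subgroup G),
    a * b * a⁻¹ * b⁻¹ = 1 ∨ a * b * a⁻¹ * b⁻¹ = z ∨ a * b * a⁻¹ * b⁻¹ = z ^ 2
  cube : ∀ g ∈ (P : Subgroup G), g ^ 3 = 1 ∨ g ^ 3 = z ∨ g ^ 3 = z ^ 2
  small : ∀ g ∈ (P : Subgroup G), ¬ Cen P g → Nat.card (centralizer ({g} : Set G)) = 9
  central : Nat.card (centralizer ({z} : Set G)) ≤ 108
  noncomm : ∃ g ∈ (P : Subgroup G), ¬ Cen P g

theorem exists_local [IsSimpleGroup G] (h : Nat.card G = 6048) :
    ∃ (P Q : Sylow 3 G) (S : Subgroup G) (z : G), Local P Q S z := by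
  classical
  obtain ⟨hn, hnab, hTI, hcent⟩ := sylow_three h
  have : Fintype (Sylow 3 G) := Fintype.ofFinite _
  obtain ⟨hfaith, P, Q, S, hQP, hPo, hfree, hreg, hS, hSc, hSP, -⟩ :=
    TwoPoint.exists_frame (p := 3) (q := 27) (r := 8) (by norm_num)
      (by rw [← Nat.card_eq_fintype_card, hn]) (card_sylow h) hTI (by rw [h])
  obtain ⟨z, hzP, hz1, hz3, hcen, hcomm, hcube⟩ := center_facts h P (hnab P)
  refine ⟨P, Q, S, z, card_sylow h P, hSc, hQP, hfaith, hPo, hfree, hreg, hS, hSP, hzP, hz1, hz3,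
    hcen, hcomm, hcube, fun g hg hng => (hcent P g hg fun e => hng (e ▸ fun a _ => by simp)).1 hng,
    (hcent P z hzP hz1).2 ((hcen z hzP).2 (Or.inr (Or.inl rfl))), ?_⟩
  by_contra hno
  push Not at hno
  exact hnab P fun a ha b hb => hno b hb a ha

variable {P Q : Sylow 3 G} {S : Subgroup G} {z : G}

namespace Local

variable (L : Local P Q S z)

include L

theorem pow_eight {s : G} (hs : s ∈ S) : s ^ 8 = 1 := by
  have h : (⟨s, hs⟩ : S) ^ Nat.card S = 1 := pow_card_eq_one'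
  rw [L.cardS] at h
  simpa using congrArg Subtype.val h

theorem eq_one_of_comm {s g : G} (hs : s ∈ S) (hg : g ∈ (P : Subgroup G)) (hng : ¬ Cen P g)
    (hc : s * g * s⁻¹ = g) : s = 1 := by
  have h1 : orderOf s ∣ 9 := L.small g hg hng ▸ Subgroup.orderOf_dvd_natCard _
    (mem_centralizer_singleton_iff.2 (mul_inv_eq_iff_eq_mul.1 hc))
  have h2 : orderOf s ∣ 8 := orderOf_dvd_of_pow_eq_one (L.pow_eight hs)
  have := Nat.dvd_gcd h1 h2
  rwa [show Nat.gcd 9 8 = 1 from rfl, Nat.dvd_one, orderOf_eq_one_iff] at this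

theorem cen_conj {s d : G} (hs : s ∈ S) (_hd : d ∈ (P : Subgroup G)) (hdc : Cen P d) :
    Cen P (s * d * s⁻¹) := by
  intro a ha
  have hb : s⁻¹ * a * s ∈ (P : Subgroup G) := by simpa using L.normS s⁻¹ (inv_mem hs) a ha
  calc a * (s * d * s⁻¹) = s * ((s⁻¹ * a * s) * d) * s⁻¹ := by group
    _ = s * (d * (s⁻¹ * a * s)) * s⁻¹ := by rw [hdc _ hb]
    _ = s * d * s⁻¹ * a := by group

theorem not_cen_mul {g d : G} (hdc : Cen P d) (hng : ¬ Cen P g) : ¬ Cen P (g * d) := fun hc => hng fun a ha => by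
  have := hc a ha
  rw [← mul_assoc] at this
  have h2 : a * g * d = g * a * d := by rw [this, mul_assoc g d a, ← hdc a ha, mul_assoc]
  exact mul_right_cancel h2

theorem cen_inv_eq {d : G} (hd : d ∈ (P : Subgroup G)) (hdc : Cen P d) :
    d ^ 3 = 1 ∧ ∀ s ∈ S, s * d * s⁻¹ = d ∨ s * d * s⁻¹ = d⁻¹ := by
  have hz2 : (z ^ 2) = z⁻¹ := eq_inv_of_mul_eq_one_left (by rw [← pow_succ, L.z3])
  refine ⟨?_, fun s hs => ?_⟩
  · rcases (L.cen d hd).1 hdc with rfl | rfl | rfl
    · simp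
    · exact L.z3
    · rw [← pow_mul, show 2 * 3 = 3 * 2 from rfl, pow_mul, L.z3, one_pow]
  · rcases (L.cen _ (L.normS s hs d hd)).1 (L.cen_conj hs hd hdc) with e | e | e <;>
      rcases (L.cen d hd).1 hdc with rfl | rfl | rfl
    · exact Or.inl e
    · exact absurd (conj_eq_one_iff.1 e) L.z1
    · exact absurd (conj_eq_one_iff.1 e) (by rw [hz2, inv_eq_one]; exact L.z1)
    · simp at e; exact absurd e.symm L.z1
    · exact Or.inl e
    · exact Or.inr (e.trans (by rw [hz2, inv_inv]))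
    · rw [mul_one, mul_inv_cancel, hz2] at e; exact absurd (inv_eq_one.1 e.symm) L.z1
    · exact Or.inr (e.trans hz2)
    · exact Or.inl e

/-- an involution of the stabiliser inverts `P` modulo its centre -/
theorem invol {t g : G} (ht : t ∈ S) (htt : t * t = 1) (ht1 : t ≠ 1) (hg : g ∈ (P : Subgroup G)) :
    Cen P (g * (t * g * t⁻¹)) := by
  by_contra hu
  have htgt := L.normS t ht g hg
  set u := g * (t * g * t⁻¹) with hudef
  have huP : u ∈ (P : Subgroup G) := mul_mem hg htgt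
  have htu : t * u * t⁻¹ = t * g * t⁻¹ * g := by
    rw [hudef]
    calc t * (g * (t * g * t⁻¹)) * t⁻¹ = t * g * t⁻¹ * (t * t * g * (t * t)⁻¹) := by group
      _ = t * g * t⁻¹ * g := by rw [htt]; simp
  set d := u⁻¹ * (t * u * t⁻¹) with hddef
  have hd : d ∈ (P : Subgroup G) := mul_mem (inv_mem huP) (L.normS t ht u huP)
  have hdc : Cen P d := by
    have e : d = (t * g * t⁻¹)⁻¹ * g⁻¹ * (t * g * t⁻¹) * g := by rw [hddef, htu, hudef]; group
    have := L.comm (t * g * t⁻¹)⁻¹ (inv_mem htgt) g⁻¹ (inv_mem hg)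
    rw [inv_inv, inv_inv, ← e] at this
    exact (L.cen d hd).2 this
  have hud : t * u * t⁻¹ = u * d := by rw [hddef, mul_inv_cancel_left]
  obtain ⟨hd3, hdinv⟩ := L.cen_inv_eq hd hdc
  rcases hdinv t ht with e | e
  · have h2 : u = u * d * d :=
      calc u = t * (t * u * t⁻¹) * t⁻¹ := by
            rw [show t * (t * u * t⁻¹) * t⁻¹ = t * t * u * (t * t)⁻¹ by group, htt]; simp
        _ = t * (u * d) * t⁻¹ := by rw [hud]
        _ = (t * u * t⁻¹) * (t * d * t⁻¹) := by group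
        _ = u * d * d := by rw [hud, e]
    have hdd : d * d = 1 := left_eq_mul.1 (h2.trans (mul_assoc u d d))
    have hd1 : d = 1 := by
      calc d = d ^ 3 * (d * d)⁻¹ := by group
        _ = 1 := by rw [hd3, hdd]; simp
    exact ht1 (L.eq_one_of_comm ht huP hu (by rw [hud, hd1, mul_one]))
  · have hu2 : ¬ Cen P (u * d ^ 2) := L.not_cen_mul (fun a ha => (Commute.pow_right (hdc a ha) 2).eq) hu
    refine ht1 (L.eq_one_of_comm ht (mul_mem huP (pow_mem hd 2)) hu2 ?_)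
    calc t * (u * d ^ 2) * t⁻¹ = (t * u * t⁻¹) * (t * d * t⁻¹) ^ 2 := by rw [conj_pow]; group
      _ = u * d ^ 2 := by
        rw [hud, e]
        have : d⁻¹ = d ^ 2 := (eq_inv_of_mul_eq_one_left (by rw [← pow_succ, hd3])).symm
        rw [this, mul_assoc, ← pow_mul, ← pow_succ', show 2 * 2 + 1 = 3 + 2 from rfl, pow_add, hd3, one_mul]

/-- involutions of the stabiliser centralise the centre -/
theorem invol_z {t : G} (ht : t ∈ S) (htt : t * t = 1) (ht1 : t ≠ 1) : t * z * t⁻¹ = z := by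
  obtain ⟨a, ha, hna⟩ := L.noncomm
  obtain ⟨b, hb, hab⟩ : ∃ b ∈ (P : Subgroup G), b * a ≠ a * b := by
    by_contra hno; push Not at hno; exact hna hno
  set w := a * b * a⁻¹ * b⁻¹ with hw
  have hd : Cen P (a * (t * a * t⁻¹)) := L.invol ht htt ht1 ha
  have he : Cen P (b * (t * b * t⁻¹)) := L.invol ht htt ht1 hb
  have hwc : Cen P w := (L.cen w (mul_mem (mul_mem (mul_mem ha hb) (inv_mem ha)) (inv_mem hb))).2 (L.comm a ha b hb)
  have key : t * w * t⁻¹ = w := by
    have hta : t * a * t⁻¹ = a⁻¹ * (a * (t * a * t⁻¹)) := (inv_mul_cancel_left _ _).symm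
    have htb : t * b * t⁻¹ = b⁻¹ * (b * (t * b * t⁻¹)) := (inv_mul_cancel_left _ _).symm
    have e0 : t * w * t⁻¹ = (t * a * t⁻¹) * (t * b * t⁻¹) * (t * a * t⁻¹)⁻¹ * (t * b * t⁻¹)⁻¹ := by
      rw [hw]; group
    generalize a * (t * a * t⁻¹) = d at hd hta
    generalize b * (t * b * t⁻¹) = e at he htb
    rw [e0, hta, htb]
    have c1 : Commute (b⁻¹) d := hd b⁻¹ (inv_mem hb)
    have c2 : Commute a e := he a ha
    have c3 : Commute (a * b) w := hwc _ (mul_mem ha hb)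
    have c4 : Commute e d := by
      have hei : e ∈ (P : Subgroup G) := by
        have := congrArg (b * ·) htb
        simp only [mul_inv_cancel_left] at this
        rw [← this]
        exact mul_mem hb (L.normS t ht b hb)
      exact hd e hei
    calc a⁻¹ * d * (b⁻¹ * e) * (a⁻¹ * d)⁻¹ * (b⁻¹ * e)⁻¹
        = a⁻¹ * (d * (b⁻¹ * e) * d⁻¹) * (a * e⁻¹) * b := by group
      _ = a⁻¹ * (b⁻¹ * e) * (e⁻¹ * a) * b := by
        rw [← (c1.mul_left c4).eq, mul_inv_cancel_right, ← (c2.inv_right).eq]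
      _ = a⁻¹ * b⁻¹ * a * b := by group
      _ = w := by
        have e2 : w * (b * a) = a * b := by rw [hw]; group
        have e3 : a⁻¹ * b⁻¹ * a * b = (b * a)⁻¹ * (a * b) := by group
        have c5 : Commute (b * a) w := hwc _ (mul_mem hb ha)
        rw [e3, ← e2, ← c5.eq, inv_mul_cancel_left]
  have hw1 : w ≠ 1 := fun e => hab (by
    rw [hw, mul_inv_eq_one, mul_inv_eq_iff_eq_mul] at e
    exact e.symm)
  rcases L.comm a ha b hb with e | e | e <;> rw [← hw] at e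
  · exact absurd e hw1
  · rwa [e] at key
  · have hz : z = (z ^ 2) ^ 2 := by rw [← pow_mul, show 2 * 2 = 3 + 1 from rfl, pow_succ, L.z3, one_mul]
    rw [e] at key
    conv_lhs => rw [hz, ← conj_pow, key, ← hz]

theorem exp_three {g : G} (hg : g ∈ (P : Subgroup G)) : g ^ 3 = 1 := by
  by_contra h3
  have : Fact (Nat.Prime 2) := ⟨Nat.prime_two⟩
  obtain ⟨t', ht'⟩ := exists_prime_orderOf_dvd_card' (G := S) 2 (by rw [L.cardS]; norm_num)
  have ht1 : (t' : G) ≠ 1 := fun e => by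
    rw [show t' = 1 from Subtype.ext e, orderOf_one] at ht'; norm_num at ht'
  have htt : (t' : G) * t' = 1 := by
    have := pow_orderOf_eq_one t'
    rw [ht', pow_two] at this
    exact congrArg Subtype.val this
  have htz := L.invol_z t'.2 htt ht1
  have hd := L.invol t'.2 htt ht1 hg
  have hdP : g * ((t' : G) * g * (t' : G)⁻¹) ∈ (P : Subgroup G) := mul_mem hg (L.normS _ t'.2 g hg)
  have hfix : (t' : G) * g ^ 3 * (t' : G)⁻¹ = g ^ 3 := by
    rcases L.cube g hg with e | e | e <;> rw [e]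
    · simp
    · exact htz
    · rw [← conj_pow, htz]
  have hcomm : Commute g⁻¹ (g * ((t' : G) * g * (t' : G)⁻¹)) := hd _ (inv_mem hg)
  have e : (t' : G) * g * (t' : G)⁻¹ = g⁻¹ * (g * ((t' : G) * g * (t' : G)⁻¹)) := (inv_mul_cancel_left _ _).symm
  rw [← conj_pow, e, hcomm.mul_pow, (L.cen_inv_eq hdP hd).1, mul_one, inv_pow, inv_eq_iff_mul_eq_one, ← pow_two] at hfix
  rcases L.cube g hg with e | e | e
  · exact h3 e
  all_goals
    rw [e] at hfix
    apply L.z1
    have h := L.z3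
  · calc z = z ^ 3 * (z ^ 2)⁻¹ := by group
      _ = 1 := by rw [h, hfix]; simp
  · calc z = (z ^ 2) ^ 2 * (z ^ 3)⁻¹ := by group
      _ = 1 := by rw [h, hfix]; simp

/-- centralisers of non-central elements in `P` -/
theorem mem_cent {g x : G} (hg : g ∈ (P : Subgroup G)) (hng : ¬ Cen P g)
    (hxg : x * g = g * x) : ∃ i, i < 3 ∧ ∃ d ∈ (P : Subgroup G), Cen P d ∧ x = g ^ i * d := by
  classical
  have hg3 := L.exp_three hg
  have hzc : Cen P z := (L.cen z L.zmem).2 (Or.inr (Or.inl rfl))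
  have hgz : Commute g z := hzc g hg
  let f : Fin 3 × Fin 3 → centralizer ({g} : Set G) := fun q => ⟨g ^ (q.1 : ℕ) * z ^ (q.2 : ℕ),
    mem_centralizer_singleton_iff.2
      (((Commute.refl g).pow_left _).mul_left ((hgz.symm).pow_left _)).eq⟩
  have : Fintype (centralizer ({g} : Set G)) := Fintype.ofFinite _
  have hzo : orderOf z = 3 := orderOf_eq_prime L.z3 L.z1
  have hgo : orderOf g = 3 := orderOf_eq_prime hg3 fun e => hng (e ▸ fun a _ => by simp)
  have hf : Function.Bijective f := by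
    refine (Fintype.bijective_iff_injective_and_card f).2 ⟨fun q q' e => ?_, by
      rw [← Nat.card_eq_fintype_card (α := centralizer ({g} : Set G)), L.small g hg hng]; simp⟩
    have e' : g ^ (q.1 : ℕ) * z ^ (q.2 : ℕ) = g ^ (q'.1 : ℕ) * z ^ (q'.2 : ℕ) := congrArg Subtype.val e
    by_cases h1 : q.1 = q'.1
    · rw [h1, mul_right_inj, pow_inj_mod, hzo, Nat.mod_eq_of_lt q.2.2, Nat.mod_eq_of_lt q'.2.2] at e'
      exact Prod.ext h1 (Fin.ext e')
    · exfalso
      apply hng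
      intro a ha
      -- a power of `g` prime to 3 lies in the centre
      have hz' : Commute a z := hzc a ha
      have e2 : g ^ ((q.1 : ℕ) + 2 * q'.1) = z ^ ((q'.2 : ℕ) + 2 * q.2) := by
        have k1 : g ^ (q.1 : ℕ) = g ^ (q'.1 : ℕ) * z ^ (q'.2 : ℕ) * (z ^ (q.2 : ℕ))⁻¹ :=
          eq_mul_inv_of_mul_eq e'
        have k2 : (z ^ (q.2 : ℕ))⁻¹ = z ^ (2 * (q.2 : ℕ)) := by
          rw [inv_eq_iff_mul_eq_one, ← pow_add, show (q.2 : ℕ) + 2 * q.2 = 3 * q.2 by omega, pow_mul, L.z3, one_pow]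
        rw [pow_add, k1, k2, mul_assoc _ (z ^ (q'.2 : ℕ)), ← pow_add, mul_assoc,
          ← (hgz.pow_pow _ _).eq, ← mul_assoc, ← pow_add,
          show (q'.1 : ℕ) + 2 * q'.1 = 3 * q'.1 by omega, pow_mul, hg3, one_pow, one_mul]
      have hc : Commute a (g ^ ((q.1 : ℕ) + 2 * q'.1)) := e2 ▸ hz'.pow_right _
      rw [← pow_mod_orderOf, hgo] at hc
      have hne : ((q.1 : ℕ) + 2 * q'.1) % 3 ≠ 0 := by
        have := q.1.2; have := q'.1.2; have : (q.1 : ℕ) ≠ q'.1 := fun e => h1 (Fin.ext e); omega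
      have hlt : ((q.1 : ℕ) + 2 * q'.1) % 3 < 3 := Nat.mod_lt _ (by norm_num)
      rcases (show ((q.1 : ℕ) + 2 * q'.1) % 3 = 1 ∨ ((q.1 : ℕ) + 2 * q'.1) % 3 = 2 by omega) with e | e <;>
        rw [e] at hc
      · rw [pow_one] at hc; exact hc.eq
      · have := hc.pow_right 2
        rw [← pow_mul, show 2 * 2 = 3 + 1 from rfl, pow_succ, hg3, one_mul] at this
        exact this.eq
  obtain ⟨⟨i, j⟩, hij⟩ := hf.2 ⟨x, mem_centralizer_singleton_iff.2 hxg⟩
  exact ⟨i, i.2, z ^ (j : ℕ), pow_mem L.zmem _, fun a ha => (Commute.pow_right (hzc a ha) _).eq,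
    (congrArg Subtype.val hij).symm⟩

/-- a non-central element does not commute with its conjugate -/
theorem not_comm_conj {s g : G} (hs : s ∈ S) (hs2 : s * s ≠ 1) (hg : g ∈ (P : Subgroup G))
    (hng : ¬ Cen P g) : ¬ Commute g (s * g * s⁻¹) := by
  intro hc
  have hg3 := L.exp_three hg
  obtain ⟨i, hi, d, hd, hdc, e⟩ := L.mem_cent hg hng hc.symm.eq
  have hgi : ∀ n, Commute (g ^ n) d := fun n => hdc _ (pow_mem hg n)
  -- the square of `s` fixes the coset of `g`
  obtain ⟨d2, hd2, hd2c, e2⟩ : ∃ d2 ∈ (P : Subgroup G), Cen P d2 ∧ (s * s) * g * (s * s)⁻¹ = g * d2 := by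
    have hi0 : i ≠ 0 := by
      rintro rfl
      rw [pow_zero, one_mul] at e
      apply hng
      have := L.cen_conj (inv_mem hs) hd hdc
      rw [← e, inv_inv, show s⁻¹ * (s * g * s⁻¹) * s = g by group] at this
      exact this
    refine ⟨d ^ i * (s * d * s⁻¹), mul_mem (pow_mem hd _) (L.normS s hs d hd), fun a ha =>
      ((Commute.pow_right (hdc a ha) i).mul_right (L.cen_conj hs hd hdc a ha)).eq, ?_⟩
    calc s * s * g * (s * s)⁻¹ = s * (s * g * s⁻¹) * s⁻¹ := by group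
      _ = s * (g ^ i * d) * s⁻¹ := by rw [e]
      _ = (s * g ^ i * s⁻¹) * (s * d * s⁻¹) := by group
      _ = (s * g * s⁻¹) ^ i * (s * d * s⁻¹) := by rw [conj_pow]
      _ = g ^ (i * i) * (d ^ i * (s * d * s⁻¹)) := by rw [e, (hgi i).mul_pow, ← pow_mul, mul_assoc]
      _ = g * (d ^ i * (s * d * s⁻¹)) := by
        congr 1
        rcases (show i = 1 ∨ i = 2 by omega) with rfl | rfl
        · rw [mul_one, pow_one]
        · rw [show 2 * 2 = 3 + 1 from rfl, pow_succ, hg3, one_mul]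
  -- an involution in `⟨s⟩` fixes it
  obtain ⟨t, ht, htt, ht1, d', hd', hd'c, e'⟩ : ∃ t ∈ S, t * t = 1 ∧ t ≠ 1 ∧
      ∃ d' ∈ (P : Subgroup G), Cen P d' ∧ t * g * t⁻¹ = g * d' := by
    by_cases h4 : (s * s) * (s * s) = 1
    · exact ⟨s * s, mul_mem hs hs, h4, hs2, d2, hd2, hd2c, e2⟩
    · refine ⟨(s * s) * (s * s), mul_mem (mul_mem hs hs) (mul_mem hs hs), ?_, h4,
        d2 * (s * s * d2 * (s * s)⁻¹), mul_mem hd2 (L.normS _ (mul_mem hs hs) d2 hd2), fun a ha =>
        (Commute.mul_right (hd2c a ha) (L.cen_conj (mul_mem hs hs) hd2 hd2c a ha)).eq, ?_⟩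
      · rw [← L.pow_eight hs]; simp only [pow_succ, pow_zero, one_mul, mul_assoc]
      · generalize s * s = r at e2 ⊢
        calc r * r * g * (r * r)⁻¹ = r * (r * g * r⁻¹) * r⁻¹ := by group
          _ = r * (g * d2) * r⁻¹ := by rw [e2]
          _ = r * g * r⁻¹ * (r * d2 * r⁻¹) := by group
          _ = g * (d2 * (r * d2 * r⁻¹)) := by rw [e2, mul_assoc]
  have := L.invol ht htt ht1 hg
  rw [e', ← mul_assoc] at this
  apply hng
  intro a ha
  have c1 : Commute a (g * g * d') := this a ha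
  have c2 : Commute a d' := hd'c a ha
  have c3 : Commute a (g * g) := by
    have := c1.mul_right c2.inv_right
    rwa [mul_inv_cancel_right] at this
  have := c3.pow_right 2
  rw [show (g * g) ^ 2 = g ^ 3 * g by simp only [pow_succ, pow_zero, one_mul, mul_assoc], hg3,
    one_mul] at this
  exact this.eq

/-- some element of the stabiliser inverts the centre -/
theorem exists_inverting : ∃ s ∈ S, s * z * s⁻¹ = z⁻¹ ∧ orderOf s = 8 := by
  have hzc : Cen P z := (L.cen z L.zmem).2 (Or.inr (Or.inl rfl))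
  obtain ⟨hz3, hinv⟩ := L.cen_inv_eq L.zmem hzc
  obtain ⟨s, hs, hne⟩ : ∃ s ∈ S, s * z * s⁻¹ ≠ z := by
    by_contra hno
    push Not at hno
    set C := centralizer ({z} : Set G)
    have h1 : 27 ∣ Nat.card C := L.cardP ▸ card_dvd_of_le fun a ha =>
      mem_centralizer_singleton_iff.2 (hzc a ha)
    have h2 : 8 ∣ Nat.card C := L.cardS ▸ card_dvd_of_le fun a ha =>
      mem_centralizer_singleton_iff.2 (mul_inv_eq_iff_eq_mul.1 (hno a ha))
    have h3 : 27 * 8 ∣ Nat.card C := Nat.Coprime.mul_dvd_of_dvd_of_dvd (by norm_num) h1 h2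
    have := Nat.le_of_dvd Nat.card_pos h3
    have : Nat.card C ≤ 108 := L.central
    omega
  refine ⟨s, hs, (hinv s hs).resolve_left hne, ?_⟩
  have : Fact (Nat.Prime 2) := ⟨Nat.prime_two⟩
  by_contra h8
  -- otherwise `s` is an involution or has order 4
  have h4 : s ^ 4 = 1 := by
    by_contra h4
    exact h8 ((orderOf_eq_prime_pow (p := 2) (n := 2) (by norm_num; exact h4)
      (by norm_num; exact L.pow_eight hs)).trans (by norm_num))
  have hs1 : s ≠ 1 := fun e => hne (by rw [e]; simp)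
  by_cases h2 : s * s = 1
  · exact hne (L.invol_z hs h2 hs1)
  obtain ⟨a, ha, hna⟩ := L.noncomm
  have htt : s * s * (s * s) = 1 := by
    rw [← h4]; simp only [pow_succ, pow_zero, one_mul, mul_assoc]
  have hd := L.invol (mul_mem hs hs) htt h2 ha
  have hdP : a * (s * s * a * (s * s)⁻¹) ∈ (P : Subgroup G) := mul_mem ha (L.normS _ (mul_mem hs hs) a ha)
  have hnc := L.not_comm_conj hs h2 ha hna
  set b := s * a * s⁻¹ with hb
  have hbP : b ∈ (P : Subgroup G) := L.normS s hs a ha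
  set w := a * b * a⁻¹ * b⁻¹ with hw
  have hwc : Cen P w := (L.cen w (mul_mem (mul_mem (mul_mem ha hbP) (inv_mem ha)) (inv_mem hbP))).2 (L.comm a ha b hbP)
  have hsb : s * b * s⁻¹ = a⁻¹ * (a * (s * s * a * (s * s)⁻¹)) := by rw [hb]; group
  generalize a * (s * s * a * (s * s)⁻¹) = d at hd hdP hsb
  have c1 : Commute b d := hd b hbP
  have key : s * w * s⁻¹ = w := by
    calc s * w * s⁻¹ = (s * a * s⁻¹) * (s * b * s⁻¹) * (s * a * s⁻¹)⁻¹ * (s * b * s⁻¹)⁻¹ := by rw [hw]; group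
      _ = b * a⁻¹ * (d * b⁻¹ * d⁻¹) * a := by rw [hsb, ← hb]; group
      _ = b * a⁻¹ * b⁻¹ * a := by rw [← (c1.inv_left).eq, mul_inv_cancel_right]
      _ = w := by
        have c2 : Commute a w := hwc a ha
        have e2 : b * a⁻¹ * b⁻¹ * a = a⁻¹ * w * a := by rw [hw]; group
        rw [e2, mul_assoc, ← c2.eq, inv_mul_cancel_left]
  apply hne
  rcases L.comm a ha b hbP with e | e | e <;> rw [← hw] at e
  · exfalso
    apply hnc
    rw [hw, mul_inv_eq_one, mul_inv_eq_iff_eq_mul] at e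
    exact e
  · rwa [e] at key
  · have hz : z = (z ^ 2) ^ 2 := by rw [← pow_mul, show 2 * 2 = 3 + 1 from rfl, pow_succ, L.z3, one_mul]
    rw [e] at key
    conv_lhs => rw [hz, ← conj_pow, key, ← hz]

end Local

/-- Points, translations and a generator of the stabiliser of the two points. -/
structure Frame (P Q : Sylow 3 G) (a k : G) : Prop where
  ne : Q ≠ P
  faith : ∀ g : G, (∀ R : Sylow 3 G, g • R = R) → g = 1
  fixP : ∀ g ∈ (P : Subgroup G), g • P = P
  free : ∀ g ∈ (P : Subgroup G), ∀ R : Sylow 3 G, R ≠ P → g • R = R → g = 1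
  reg : ∀ R, R ≠ P → ∃ g ∈ (P : Subgroup G), g • Q = R
  k8 : orderOf k = 8
  stab : ∀ g : G, g • P = P ∧ g • Q = Q ↔ g ∈ zpowers k
  amem : a ∈ (P : Subgroup G)
  rel : Rel a (k * a * k⁻¹) ((k * a * k⁻¹ * a)⁻¹ * (a * (k * a * k⁻¹)))
  kb : k * (k * a * k⁻¹) * k⁻¹ = a * (k * a * k⁻¹)
  kc : k * ((k * a * k⁻¹ * a)⁻¹ * (a * (k * a * k⁻¹))) * k⁻¹ =
    ((k * a * k⁻¹ * a)⁻¹ * (a * (k * a * k⁻¹))) ^ 2
  cardP : Nat.card (P : Subgroup G) = 27

theorem Local.rel (L : Local P Q S z) {k a : G} (hk : k ∈ S) (hk2 : k * k ≠ 1)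
    (ha : a ∈ (P : Subgroup G)) (hna : ¬ Cen P a) :
    Rel a (k * a * k⁻¹) ((k * a * k⁻¹ * a)⁻¹ * (a * (k * a * k⁻¹))) := by
  have hb : k * a * k⁻¹ ∈ (P : Subgroup G) := L.normS k hk a ha
  have hnc := L.not_comm_conj hk hk2 ha hna
  generalize k * a * k⁻¹ = b at hb hnc
  set c := (b * a)⁻¹ * (a * b) with hc
  have hcP : c ∈ (P : Subgroup G) := mul_mem (inv_mem (mul_mem hb ha)) (mul_mem ha hb)
  have hcc : Cen P c := by
    have := L.comm a⁻¹ (inv_mem ha) b⁻¹ (inv_mem hb)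
    refine (L.cen c hcP).2 ?_
    rwa [show a⁻¹ * b⁻¹ * (a⁻¹)⁻¹ * (b⁻¹)⁻¹ = c by rw [hc]; group] at this
  exact ⟨L.exp_three ha, L.exp_three hb, L.exp_three hcP, hcc a ha, hcc b hb,
    (mul_inv_cancel_left _ _).symm, fun e => hnc (inv_mul_eq_one.1 e).symm⟩

theorem Local.frame (L : Local P Q S z) {k a d : G} (hk : k ∈ S) (hk8 : orderOf k = 8)
    (hkz : k * z * k⁻¹ = z⁻¹) (ha : a ∈ (P : Subgroup G)) (hna : ¬ Cen P a)
    (hd : d ∈ (P : Subgroup G)) (hdc : Cen P d)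
    (e : k * (k * a * k⁻¹) * k⁻¹ = a * (k * a * k⁻¹) * d) :
    ∃ a k : G, Frame P Q a k := by
  have hk2 : k * k ≠ 1 := fun e2 => by
    rw [← pow_two] at e2
    have := orderOf_dvd_of_pow_eq_one e2
    rw [hk8] at this
    norm_num at this
  have hinv : ∀ w ∈ (P : Subgroup G), Cen P w → k * w * k⁻¹ = w⁻¹ := by
    intro w hw hwc
    rcases (L.cen w hw).1 hwc with rfl | rfl | rfl
    · simp
    · exact hkz
    · rw [← conj_pow, hkz, inv_pow]
  have hd2 : Cen P (d ^ 2) := fun x hx => (Commute.pow_right (hdc x hx) 2).eq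
  set a' := a * d ^ 2 with ha'def
  have ha' : a' ∈ (P : Subgroup G) := mul_mem ha (pow_mem hd 2)
  have hna' : ¬ Cen P a' := L.not_cen_mul hd2 hna
  have hd3 : d ^ 3 = 1 := L.exp_three hd
  have hb' : k * a' * k⁻¹ = k * a * k⁻¹ * d := by
    rw [ha'def, show k * (a * d ^ 2) * k⁻¹ = (k * a * k⁻¹) * (k * d ^ 2 * k⁻¹) by group,
      hinv _ (pow_mem hd 2) hd2]
    congr 1
    rw [inv_eq_iff_mul_eq_one, ← pow_succ, hd3]
  have hbP : k * a * k⁻¹ ∈ (P : Subgroup G) := L.normS k hk a ha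
  have hrel := L.rel hk hk2 ha' hna'
  refine ⟨a', k, L.ne, L.faith, L.fixP, L.free, L.reg, hk8, fun g => ?_, ha', hrel, ?_, ?_, L.cardP⟩
  · rw [← L.memS, show zpowers k = S from eq_of_le_of_card_ge (zpowers_le.2 hk)
      (by rw [Nat.card_zpowers, hk8, L.cardS])]
  · rw [hb']
    calc k * (k * a * k⁻¹ * d) * k⁻¹ = k * (k * a * k⁻¹) * k⁻¹ * (k * d * k⁻¹) := by group
      _ = a * (k * a * k⁻¹) * d * d⁻¹ := by rw [e, hinv d hd hdc]
      _ = a * (k * a * k⁻¹) * d ^ 3 := by rw [hd3, mul_one, mul_inv_cancel_right]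
      _ = a * d ^ 2 * (k * a * k⁻¹ * d) := by
        have c1 : Commute (k * a * k⁻¹) (d ^ 2) := hd2 _ hbP
        rw [pow_succ]
        calc a * (k * a * k⁻¹) * (d ^ 2 * d) = a * ((k * a * k⁻¹) * d ^ 2) * d := by group
          _ = _ := by rw [c1.eq]; group
  · have hbP' : k * a' * k⁻¹ ∈ (P : Subgroup G) := L.normS k hk a' ha'
    rw [hinv _ (mul_mem (inv_mem (mul_mem hbP' ha')) (mul_mem ha' hbP'))]
    · exact inv_eq_iff_mul_eq_one.2 (by rw [← pow_succ', hrel.c3])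
    · intro x hx
      have := L.comm a'⁻¹ (inv_mem ha') (k * a' * k⁻¹)⁻¹ (inv_mem hbP')
      refine (L.cen _ (mul_mem (inv_mem (mul_mem hbP' ha')) (mul_mem ha' hbP'))).2 ?_ x hx
      convert this using 2 <;> group

theorem pow_spec : ∀ n, n < 27 →
    TwoPoint.look addTab 3 n = TwoPoint.look addTab (TwoPoint.look addTab n 3) 18 → n % 3 = 1 := by
  decide +kernel

theorem exists_frame [IsSimpleGroup G] (h : Nat.card G = 6048) :
    ∃ (P Q : Sylow 3 G) (a k : G), Frame P Q a k := by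
  classical
  obtain ⟨P, Q, S, z, L⟩ := exists_local h
  suffices ∃ a k : G, Frame P Q a k from ⟨P, Q, this⟩
  obtain ⟨k, hk, hkz, hk8⟩ := L.exists_inverting
  obtain ⟨a, ha, hna⟩ := L.noncomm
  have hk2 : k * k ≠ 1 := fun e2 => by
    rw [← pow_two] at e2
    have := orderOf_dvd_of_pow_eq_one e2
    rw [hk8] at this
    norm_num at this
  have hinv : ∀ w ∈ (P : Subgroup G), Cen P w → k * w * k⁻¹ = w⁻¹ := by
    intro w hw hwc
    rcases (L.cen w hw).1 hwc with rfl | rfl | rfl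
    · simp
    · exact hkz
    · rw [← conj_pow, hkz, inv_pow]
  have hrel := L.rel hk hk2 ha hna
  set b := k * a * k⁻¹ with hb
  set c := (b * a)⁻¹ * (a * b) with hc
  have hbP : b ∈ (P : Subgroup G) := L.normS k hk a ha
  have hcP : c ∈ (P : Subgroup G) := mul_mem (inv_mem (mul_mem hbP ha)) (mul_mem ha hbP)
  have hwP : ∀ i, word a b c i ∈ (P : Subgroup G) := fun i =>
    mul_mem (mul_mem (pow_mem hbP _) (pow_mem ha _)) (pow_mem hcP _)
  have := Fintype.ofFinite (P : Subgroup G)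
  let f : Fin 27 → (P : Subgroup G) := fun i => ⟨word a b c i, hwP i⟩
  have hf : Function.Bijective f := by
    refine (Fintype.bijective_iff_injective_and_card f).2 ⟨fun i j e =>
      Fin.ext (hrel.word_inj i.2 j.2 (congrArg Subtype.val e)), ?_⟩
    rw [Fintype.card_fin, ← Nat.card_eq_fintype_card, L.cardP]
  have hcc : Cen P c := by
    intro x hx
    obtain ⟨i, hi⟩ := hf.2 ⟨x, hx⟩
    rw [← show word a b c i = x from congrArg Subtype.val hi]
    exact (((hrel.bc.pow_left _).mul_left (hrel.ac.pow_left _)).mul_left ((Commute.refl c).pow_left _)).eq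
  obtain ⟨⟨n, hn⟩, hfn⟩ := hf.2 ⟨k * b * k⁻¹, L.normS k hk b hbP⟩
  have hkb : k * b * k⁻¹ = word a b c n := (congrArg Subtype.val hfn).symm
  have hkc : k * c * k⁻¹ = c ^ 2 := by
    rw [hinv c hcP hcc]
    exact inv_eq_iff_mul_eq_one.2 (by rw [← pow_succ', hrel.c3])
  have hn1 : n % 3 = 1 := by
    refine pow_spec n hn (hrel.word_inj (tab_spec 3 (by norm_num) n hn).1
      (tab_spec _ (tab_spec n hn 3 (by norm_num)).1 18 (by norm_num)).1 ?_)
    rw [← hrel.word_mul (by norm_num) hn, ← hrel.word_mul (tab_spec n hn 3 (by norm_num)).1 (by norm_num),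
      ← hrel.word_mul hn (by norm_num), ← hkb]
    have w3 : word a b c 3 = b := by simp [word]
    have w18 : word a b c 18 = c ^ 2 := by simp [word]
    rw [w3, w18]
    calc b * (k * b * k⁻¹) = k * (a * b) * k⁻¹ := by rw [hb]; group
      _ = k * (b * a * c) * k⁻¹ := by rw [hrel.ab]
      _ = k * b * k⁻¹ * (k * a * k⁻¹) * (k * c * k⁻¹) := by group
      _ = k * b * k⁻¹ * b * c ^ 2 := by rw [hkc, ← hb]
  have hγP : ∀ m : ℕ, c ^ m ∈ (P : Subgroup G) := fun m => pow_mem hcP m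
  have hγc : ∀ m : ℕ, Cen P (c ^ m) := fun m x hx => (Commute.pow_right (hcc x hx) m).eq
  have hβ : n / 3 % 3 = 0 ∨ n / 3 % 3 = 1 ∨ n / 3 % 3 = 2 := by omega
  rw [word, hn1, pow_one] at hkb
  rcases hβ with e | e | e <;> rw [e] at hkb
  · -- the square of `k` would fix the coset of `a`
    rw [pow_zero, one_mul] at hkb
    exfalso
    have hk4 : k * k * (k * k) ≠ 1 := fun e4 => by
      have : k ^ 4 = 1 := by rw [← e4]; simp only [pow_succ, pow_zero, one_mul, mul_assoc]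
      have := orderOf_dvd_of_pow_eq_one this
      rw [hk8] at this
      norm_num at this
    refine L.not_comm_conj (mul_mem hk hk) hk4 ha hna ?_
    rw [show k * k * a * (k * k)⁻¹ = k * b * k⁻¹ by rw [hb]; group, hkb]
    exact (Commute.refl a).mul_right ((hγc _ a ha : Commute a _))
  · rw [pow_one] at hkb
    refine L.frame hk hk8 hkz ha hna (d := c ^ 2 * c ^ (n / 9)) (mul_mem (hγP 2) (hγP _))
      (fun x hx => (Commute.mul_right (hγc 2 x hx) (hγc _ x hx)).eq) ?_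
    rw [← hb, hkb, hrel.ab]
    calc b * a * c ^ (n / 9) = b * a * (c ^ 3 * c ^ (n / 9)) := by rw [hrel.c3, one_mul]
      _ = b * a * c * (c ^ 2 * c ^ (n / 9)) := by group
  · set δ := c ^ (n / 9) with hδ
    have hδP : δ ∈ (P : Subgroup G) := hγP _
    have hδc : Cen P δ := hγc _
    have hkδ : k * δ * k⁻¹ = δ⁻¹ := hinv δ hδP hδc
    have hkδ' : k⁻¹ * δ * k = δ⁻¹ :=
      calc k⁻¹ * δ * k = (k⁻¹ * (k * δ * k⁻¹) * k)⁻¹ := by rw [hkδ]; group
        _ = δ⁻¹ := by group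
    set b' := k⁻¹ * a * k with hb'
    have hb'P : b' ∈ (P : Subgroup G) := by simpa using L.normS k⁻¹ (inv_mem hk) a ha
    have hback : b = a * a * b' * δ⁻¹ :=
      calc b = k⁻¹ * (k * b * k⁻¹) * k := by group
        _ = k⁻¹ * (k * a * k⁻¹) ^ 2 * a * δ * k := by rw [hkb, ← hb]; group
        _ = a * a * (k⁻¹ * a * k) * (k⁻¹ * δ * k) := by
          rw [conj_pow]; simp only [pow_two, mul_assoc, inv_mul_cancel_left, mul_inv_cancel_left]
        _ = a * a * b' * δ⁻¹ := by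
          rw [← hb']
          congr 1
    have ha3 := L.exp_three ha
    have e1 : b' = a * b * δ := by
      rw [hback]
      calc b' = a ^ 3 * b' := by rw [ha3, one_mul]
        _ = a * a * a * b' := by simp only [pow_succ, pow_zero, one_mul]
        _ = _ := by group
    have hkz' : k⁻¹ * z * (k⁻¹)⁻¹ = z⁻¹ := by
      have : z⁻¹ = k⁻¹ * z * k := by
        calc z⁻¹ = k⁻¹ * (k * z * k⁻¹)⁻¹⁻¹⁻¹ * k := by group
          _ = k⁻¹ * z * k := by rw [hkz]; simp
      rw [inv_inv]; exact this.symm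
    have hnc := hrel
    -- the commutator of `b'` and `a`
    set d := (a * b')⁻¹ * (b' * a) * δ⁻¹ with hddef
    refine L.frame (k := k⁻¹) (inv_mem hk) (by rw [orderOf_inv, hk8]) hkz' ha hna (d := d)
      (mul_mem (mul_mem (inv_mem (mul_mem ha hb'P)) (mul_mem hb'P ha)) (inv_mem hδP)) ?_ ?_
    · intro x hx
      have h1 := L.comm b'⁻¹ (inv_mem hb'P) a⁻¹ (inv_mem ha)
      have h2 : Cen P ((a * b')⁻¹ * (b' * a)) :=
        (L.cen _ (mul_mem (inv_mem (mul_mem ha hb'P)) (mul_mem hb'P ha))).2 (by convert h1 using 2 <;> group)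
      exact (Commute.mul_right (h2 x hx) ((show Commute x δ from hδc x hx).inv_right)).eq
    · rw [inv_inv]
      calc k⁻¹ * (k⁻¹ * a * k) * k = k⁻¹ * (a * b * δ) * k := by rw [← hb', e1]
        _ = (k⁻¹ * a * k) * a * (k⁻¹ * δ * k) := by rw [hb]; group
        _ = b' * a * δ⁻¹ := by
          rw [← hb']
          congr 1
        _ = k⁻¹ * a * k * a * δ⁻¹ := by rw [hb']
        _ = a * (k⁻¹ * a * k) * d := by rw [hddef, ← hb']; group

end Cfsg.Agent.Order6048
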