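/-
Packed tables and search for the involutions of a group of order 6048 on 28 points.

Main results (namespace `Cfsg.Agent.Order6048`):
* `Adm` : what the search uses about the table of an involution;
* `search_sound` : a successful search makes an admissible table conjugate to `stdTab`.
-/
import Cfsg.Agent.Lib.Order6048.Tables

set_option autoImplicit false
set_option maxRecDepth 8000

namespace Cfsg.Agent.Order6048

open Cfsg.Agent.SmallOrders

/-- the `x`-th digit to the base 32 -/
def digit (N x : ℕ) : ℕ := (N >>> (5 * x)) % 32

/-- pack a list of digits -/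
def pack : List ℕ → ℕ
  | [] => 0
  | v :: l => v + 32 * pack l

/-- packed translations -/
def addL (i x : ℕ) : ℕ := digit 6774074200432561738268786673431303509578305819622012775934052187859967230733630755861057298456087473815030282654327778819588988420794975113317758819415339987425421554956453132693785620322485600488080384906509359194821056634870818170772863427922227321911761390374686525599574036044237595593604256779597000396929257431374802007458268189575580664625824506666620403673017469889577100471921222274954246631335340094978299321558916303201540321748691487558873616766305753249752984209955154429965929710923418848235116961350461543076115460220626453693444111466224621543241664691808818053788122049558476181172976557934549893335510471443383662612385548026034494667845397226803336280338602962747301895061792608430891570765382033727750517237646902601016166098036913233164860602050770669088748223549540103940235478160084998803253023957865517415422610688016862642933785117171810078146557364252774458277874540382620294562442990274705278873948550374286519870890775968103739053722239520567828132887923894629390401734589259243949769939943196888204181469924189372495217973232854048655289287650021466988345461404940222200460279458374885473896744603165623683104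 (28 * i + x)
/-- packed multiplications -/
def mulL (u x : ℕ) : ℕ := digit 12227890081962267881805581025239643919218358250172877848517289220862651284102711887561361480412075563141917463472386600922691917162822515822743870070844863650075500469236170424348515638354858933922422869281062050629603141319742104341341984540354207319104986620009705650565825656528256795010163181329211278207567745214952331714230629795872 (28 * u + x)
/-- `8 l + u` for the point with `l`-th representative moved by `u` -/
def posL (x : ℕ) : ℕ := digit 37747291960531138181168493859443531104512 x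
/-- inverses -/
def negL (x : ℕ) : ℕ := digit 1206189660723230441417117221786958391608384 x
/-- representatives -/
def repL (l : ℕ) : ℕ := digit 231465 l
/-- packed standard involution -/
def stdL (x : ℕ) : ℕ := digit 30438981873530170577951831444590634798555 x

/-- the value at `x` when the representatives go to `cs` with twist `j` -/
def valL (j : ℕ) (cs : List ℕ) (x : ℕ) : ℕ :=
  mulL (j * (posL x % 8) % 8) (cs.getD (posL x / 8) 0)

/-- the table for `cs` -/
def tableL (j : ℕ) (cs : List ℕ) : ℕ :=
  pack ((List.range 28).map fun x => bif x == 0 then 27 else bif x == 27 then 0 else valL j cs x)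

/-- necessary conditions on the images of the first representatives -/
def prefixOk (j : ℕ) (cs : List ℕ) : Bool :=
  (mulL (2 * j % 8) (cs.getD 0 0) == cs.getD 0 0) &&
  (List.range cs.length).all fun l =>
    decide (cs.length ≤ posL (cs.getD l 0) / 8) || (valL j cs (cs.getD l 0) == repL l)

/-- the product `a ^ N a ^ N a` is a multiplication followed by the table `N` -/
def goodL (N : ℕ) : Bool :=
  (List.range 26).all fun i => (List.range 8).any fun u => (List.range 28).all fun x =>
    addL (negL (digit N (i + 1))) (digit N (addL (i + 1) (digit N (addL (digit N (negL (i + 1))) x)))) ==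
      mulL u (digit N x)

/-- the table becomes `stdTab` after a multiplication -/
def conjL (N : ℕ) : Bool :=
  (List.range 8).any fun u => (List.range 28).all fun x => mulL u (digit N x) == stdL x

/-- all completions are non-admissible or conjugate to the standard table -/
def search (j : ℕ) : ℕ → List ℕ → Bool
  | 0, cs => !goodL (tableL j cs) || conjL (tableL j cs)
  | n + 1, cs => (List.range 26).all fun c =>
      !prefixOk j (cs ++ [c + 1]) || search j n (cs ++ [c + 1])

theorem add_eq : ∀ i, i < 27 → ∀ x, x < 28 →
    TwoPoint.look addTab i x = addL i x ∧ addL i x < 28 := by decide +kernel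

theorem mul_eq : ∀ u, u < 8 → ∀ x, x < 28 →
    TwoPoint.look mulTab u x = mulL u x ∧ mulL u x < 28 := by decide +kernel

theorem std_eq : ∀ x, x < 28 → stdTab.getD x 0 = stdL x := by decide +kernel

theorem pos_spec : ∀ x, x < 27 → x ≠ 0 → posL x / 8 < 4 ∧ repL (posL x / 8) < 27 ∧
    repL (posL x / 8) ≠ 0 ∧ mulL (posL x % 8) (repL (posL x / 8)) = x := by decide +kernel

theorem rep_spec : mulL 2 (repL 0) = repL 0 ∧ (∀ l, l < 4 → repL l < 27 ∧ repL l ≠ 0) ∧
    ∀ i, i < 27 → negL i < 27 ∧ addL i (negL i) = 0 ∧ addL (negL i) i = 0 := by decide +kernel

/-- what the search uses about the table `F` of an involution with twist `j` -/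
structure Adm (j : ℕ) (F : ℕ → ℕ) : Prop where
  zero : F 0 = 27
  top : F 27 = 0
  lt : ∀ x, x < 27 → x ≠ 0 → F x < 27 ∧ F x ≠ 0
  inv : ∀ x, x < 28 → F (F x) = x
  twist : ∀ u, u < 8 → ∀ x, x < 28 → F (mulL u x) = mulL (j * u % 8) (F x)
  good : ∀ i, i < 27 → i ≠ 0 → ∃ u, u < 8 ∧ ∀ x, x < 28 →
    addL (negL (F i)) (F (addL i (F (addL (F (negL i)) x)))) = mulL u (F x)

theorem digit_pack : ∀ (l : List ℕ) (x : ℕ), (∀ v ∈ l, v < 32) → digit (pack l) x = l.getD x 0
  | [], x, _ => by simp [pack, digit]
  | v :: l, 0, h => by
    have := h v List.mem_cons_self
    show (v + 32 * pack l) >>> 0 % 32 = v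
    rw [Nat.shiftRight_zero, Nat.add_mul_mod_self_left, Nat.mod_eq_of_lt this]
  | v :: l, x + 1, h => by
    have hv := h v List.mem_cons_self
    have ih := digit_pack l x fun w hw => h w (List.mem_cons_of_mem v hw)
    simp only [digit, List.getD_cons_succ] at ih ⊢
    rw [← ih, pack, show 5 * (x + 1) = 5 + 5 * x by ring, Nat.shiftRight_add,
      show (v + 32 * pack l) >>> 5 = pack l by rw [Nat.shiftRight_eq_div_pow]; omega]

theorem valL_eq {j : ℕ} {F : ℕ → ℕ} (hF : Adm j F) {cs : List ℕ} {x : ℕ} (hx : x < 27) (hx0 : x ≠ 0)
    (hl : posL x / 8 < cs.length)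
    (hcs : ∀ l, l < cs.length → cs.getD l 0 = F (repL l)) : valL j cs x = F x := by
  obtain ⟨-, h1, -, h2⟩ := pos_spec x hx hx0
  rw [valL, hcs _ hl, ← hF.twist _ (Nat.mod_lt _ (by norm_num)) _ (by omega), h2]

theorem prefixOk_of_adm {j : ℕ} {F : ℕ → ℕ} (hF : Adm j F) (n : ℕ) (hn : 0 < n) (hn4 : n ≤ 4) :
    prefixOk j ((List.range n).map fun l => F (repL l)) = true := by
  obtain ⟨hfix, hrep, -⟩ := rep_spec
  set cs := (List.range n).map fun l => F (repL l) with hcs
  have hlen : cs.length = n := by simp [hcs]
  have hget : ∀ l, l < cs.length → cs.getD l 0 = F (repL l) := fun l hl => by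
    simp [hcs, List.getD_eq_getElem?_getD, hlen ▸ hl]
  simp only [prefixOk, Bool.and_eq_true, List.all_eq_true, List.mem_range, Bool.or_eq_true,
    decide_eq_true_eq, beq_iff_eq]
  refine ⟨?_, fun l hl => ?_⟩
  · rw [hget 0 (by omega)]
    have := hF.twist 2 (by norm_num) (repL 0) (by have := (hrep 0 (by norm_num)).1; omega)
    rw [hfix, Nat.mul_comm j 2] at this
    exact this.symm
  · rw [hget l hl]
    have hl4 : l < 4 := by omega
    obtain ⟨h1, h2⟩ := hrep l hl4
    obtain ⟨h3, h4⟩ := hF.lt _ h1 h2
    rcases le_or_gt cs.length (posL (F (repL l)) / 8) with h | h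
    · exact Or.inl h
    · exact Or.inr ((valL_eq hF h3 h4 h hget).trans (hF.inv _ (by omega)))

theorem search_sound {j : ℕ} {F : ℕ → ℕ} (hF : Adm j F) :
    ∀ (n m : ℕ), n + m = 4 → search j n ((List.range m).map fun l => F (repL l)) = true →
      ∃ u, u < 8 ∧ ∀ x, x < 28 → mulL u (F x) = stdL x
  | 0, m, hm, h => by
    obtain rfl : m = 4 := by omega
    set cs := (List.range 4).map fun l => F (repL l) with hcs
    have hget : ∀ l, l < cs.length → cs.getD l 0 = F (repL l) := fun l hl => by
      have : l < 4 := by simpa [hcs] using hl
      simp [hcs, List.getD_eq_getElem?_getD, this]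
    have hT : ∀ x, x < 28 → digit (tableL j cs) x = F x := by
      have hmap : (List.range 28).map (fun x => bif x == 0 then 27 else bif x == 27 then 0 else valL j cs x)
          = (List.range 28).map F := List.map_congr_left fun x hx => by
        rw [List.mem_range] at hx
        by_cases h0 : x = 0
        · subst h0; simp [hF.zero]
        by_cases h1 : x = 27
        · subst h1; simp [hF.top]
        rw [beq_false_of_ne h0, beq_false_of_ne h1]
        exact valL_eq hF (show x < 27 by omega) h0
          (by simpa [hcs] using (pos_spec x (by omega) h0).1) hget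
      intro x hx
      rw [tableL, hmap, digit_pack]
      · simp [List.getD_eq_getElem?_getD, hx]
      · intro v hv
        obtain ⟨y, hy, rfl⟩ := List.mem_map.1 hv
        rw [List.mem_range] at hy
        by_cases h0 : y = 0
        · rw [h0, hF.zero]; norm_num
        by_cases h1 : y = 27
        · rw [h1, hF.top]; norm_num
        have := (hF.lt y (by omega) h0).1
        omega
    simp only [search, Bool.or_eq_true, Bool.not_eq_true'] at h
    have hFlt : ∀ x, x < 28 → F x < 28 := fun x hx => by
      by_cases h0 : x = 0
      · rw [h0, hF.zero]; norm_num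
      by_cases h1 : x = 27
      · rw [h1, hF.top]; norm_num
      have := (hF.lt x (by omega) h0).1
      omega
    have hgood : goodL (tableL j cs) = true := by
      simp only [goodL, List.all_eq_true, List.mem_range, List.any_eq_true, beq_iff_eq]
      intro i hi
      obtain ⟨u, hu, hx⟩ := hF.good (i + 1) (by omega) (by omega)
      refine ⟨u, hu, fun x hxlt => ?_⟩
      have hneg := (rep_spec.2.2 (i + 1) (by omega)).1
      have hn0 : negL (i + 1) ≠ 0 := fun e => by
        have h2 := (rep_spec.2.2 (i + 1) (by omega)).2.1
        have h3 : addL (i + 1) 0 = i + 1 := by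
          have : ∀ y, y < 27 → addL y 0 = y := by decide +kernel
          exact this _ (by omega)
        rw [e, h3] at h2
        omega
      have hFn := (hF.lt _ hneg hn0).1
      rw [hT x hxlt, hT (i + 1) (by omega), hT (negL (i + 1)) (by omega),
        hT _ (add_eq _ hFn x hxlt).2, hT _ (add_eq _ (by omega) _ (hFlt _ (add_eq _ hFn x hxlt).2)).2]
      exact hx x hxlt
    rcases h with e | e
    · rw [hgood] at e; cases e
    simp only [conjL, List.any_eq_true, List.mem_range, List.all_eq_true, beq_iff_eq] at e
    obtain ⟨u, hu, hx⟩ := e
    exact ⟨u, hu, fun x hxlt => by rw [← hT x hxlt]; exact hx x hxlt⟩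
  | n + 1, m, hm, h => by
    simp only [search, List.all_eq_true, List.mem_range] at h
    obtain ⟨h1, h2⟩ := rep_spec.2.1 m (by omega)
    obtain ⟨h3, h4⟩ := hF.lt _ h1 h2
    have e := h (F (repL m) - 1) (by omega)
    rw [show F (repL m) - 1 + 1 = F (repL m) by omega,
      show (List.range m).map (fun l => F (repL l)) ++ [F (repL m)] =
        (List.range (m + 1)).map (fun l => F (repL l)) by simp [List.range_succ],
      prefixOk_of_adm hF (m + 1) (by omega) (by omega), Bool.not_true, Bool.false_or] at e
    exact search_sound hF n (m + 1) (by omega) e

end Cfsg.Agent.Order6048
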