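/-
The search for the involutions of a group of order 6048 on 28 points succeeds.

Main results (namespace `Cfsg.Agent.Order6048`):
* `search_ok`, `conj_of_adm` : an admissible table is conjugate to `stdTab`.
-/
import Cfsg.Agent.Lib.Order6048.Search

set_option autoImplicit false
set_option maxRecDepth 8000

namespace Cfsg.Agent.Order6048

theorem search_ok_zero : search 0 4 [] = true := by decide +kernel
theorem search_ok_one : search 1 4 [] = true := by decide +kernel
theorem search_ok_two : search 2 4 [] = true := by decide +kernel
theorem search_ok_three : search 3 4 [] = true := by decide +kernel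
theorem search_ok_four : search 4 4 [] = true := by decide +kernel
theorem search_ok_five : search 5 4 [] = true := by decide +kernel
theorem search_ok_six : search 6 4 [] = true := by decide +kernel
theorem search_ok_seven : search 7 4 [] = true := by decide +kernel

theorem search_ok (j : ℕ) (hj : j < 8) : search j 4 [] = true := by
  interval_cases j
  exacts [search_ok_zero, search_ok_one, search_ok_two, search_ok_three, search_ok_four,
    search_ok_five, search_ok_six, search_ok_seven]

theorem conj_of_adm {j : ℕ} {F : ℕ → ℕ} (hj : j < 8) (hF : Adm j F) :
    ∃ u, u < 8 ∧ ∀ x, x < 28 → mulL u (F x) = stdL x :=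
  search_sound hF 4 0 rfl (search_ok j hj)

end Cfsg.Agent.Order6048
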