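/-
A permutation group on 28 points with the given translations and multiplications.

Main result (namespace `Cfsg.Agent.Order6048`):
* `range_eq_std` : its image is `stdPerm`.
-/
import Cfsg.Agent.Lib.Order6048.SearchRun
import Cfsg.Agent.Lib.SmallOrders.TwoPoint.Main

set_option autoImplicit false

namespace Cfsg.Agent.Order6048

open Subgroup
open Cfsg.Agent.SmallOrders

/-- The permutation group generated by the tables. -/
def stdPerm : Subgroup (Equiv.Perm (Fin (27 + 1))) := TwoPoint.stdGroup 27 8 addTab mulTab stdTab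

theorem mul_pow_spec : ∀ u, u < 8 → ∀ x, x < 28 →
    mulL ((u + 1) % 8) x = mulL 1 (mulL u x) ∧ mulL 0 x = x := by decide +kernel

theorem fix_spec : ∀ u, u < 8 → mulL u 27 = 27 ∧ mulL u 0 = 0 := by decide +kernel

theorem add_fix : ∀ i, i < 27 → addL i 27 = 27 ∧ addL i 0 = i := by decide +kernel

variable {G : Type*} [Group G]

theorem range_eq_std (φ : G →* Equiv.Perm (Fin (27 + 1))) (a : ℕ → G) (k : G)
    (ha : ∀ i, i < 27 → ∀ x, (φ (a i) x : ℕ) = addL i x)
    (hk : ∀ u, u < 8 → ∀ x, (φ (k ^ u) x : ℕ) = mulL u x) (hk8 : k ^ 8 = 1)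
    (hstab : ∀ g : G, φ g 0 = 0 → φ g (Fin.last 27) = Fin.last 27 →
      ∃ u, u < 8 ∧ φ g = φ (k ^ u))
    (ht : ∃ t : G, t * t = 1 ∧ φ t 0 = Fin.last 27) :
    φ.range = stdPerm := by
  classical
  obtain ⟨t, htt, ht0⟩ := ht
  set o : Fin 28 := 0 with ho
  set oo : Fin 28 := Fin.last 27 with hoo
  have hlt : ∀ x : Fin 28, x ≠ oo → (x : ℕ) < 27 := fun x hx =>
    lt_of_le_of_ne (Nat.lt_succ_iff.mp x.2) fun h => hx (Fin.ext h)
  have htt' : ∀ x, φ t (φ t x) = x := fun x => by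
    rw [← Equiv.Perm.mul_apply, ← map_mul, htt, map_one, Equiv.Perm.one_apply]
  have hto : φ t oo = o := by rw [← ht0, htt']
  have hko : ∀ u, u < 8 → φ (k ^ u) o = o ∧ φ (k ^ u) oo = oo := fun u hu =>
    ⟨Fin.ext ((hk u hu o).trans (fix_spec u hu).2), Fin.ext ((hk u hu oo).trans (fix_spec u hu).1)⟩
  have hao : ∀ i, (hi : i < 27) → φ (a i) o = ⟨i, by omega⟩ ∧ φ (a i) oo = oo := fun i hi =>
    ⟨Fin.ext ((ha i hi o).trans (add_fix i hi).2), Fin.ext ((ha i hi oo).trans (add_fix i hi).1)⟩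
  obtain ⟨j, hj, hj'⟩ : ∃ j, j < 8 ∧ φ (t * k * t) = φ (k ^ j) := by
    refine hstab _ ?_ ?_
    · rw [map_mul, map_mul, Equiv.Perm.mul_apply, Equiv.Perm.mul_apply, ht0, ← pow_one k,
        (hko 1 (by norm_num)).2, hto]
    · rw [map_mul, map_mul, Equiv.Perm.mul_apply, Equiv.Perm.mul_apply, hto, ← pow_one k,
        (hko 1 (by norm_num)).1, ht0]
  let F : ℕ → ℕ := fun x => if h : x < 28 then (φ t ⟨x, h⟩ : ℕ) else 0
  have hF : ∀ x : Fin 28, F x = (φ t x : ℕ) := fun x => dif_pos x.2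
  have hF' : ∀ x, (hx : x < 28) → F x = (φ t ⟨x, hx⟩ : ℕ) := fun x hx => hF ⟨x, hx⟩
  have hne_o : ∀ x : Fin 28, x ≠ oo → x ≠ o → φ t x ≠ oo ∧ φ t x ≠ o := fun x h1 h2 =>
    ⟨fun e => h2 (by rw [← htt' x, e, hto]), fun e => h1 (by rw [← htt' x, e, ht0])⟩
  have hadm : Adm j F := by
    refine ⟨by rw [hF' 0 (by norm_num)]; exact congrArg Fin.val ht0,
      by rw [hF' 27 (by norm_num)]; exact congrArg Fin.val hto, fun x hx hx0 => ?_, fun x hx => ?_,
      fun u hu x hx => ?_, fun i hi hi0 => ?_⟩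
    · rw [hF' x (by omega)]
      obtain ⟨h1, h2⟩ := hne_o ⟨x, by omega⟩ (fun e => by
        have := congrArg Fin.val e; simp [hoo] at this; omega) (fun e => hx0 (congrArg Fin.val e))
      exact ⟨hlt _ h1, fun e => h2 (Fin.ext e)⟩
    · rw [hF' x hx, hF, htt']
    · have hkx : mulL u x = (φ (k ^ u) ⟨x, hx⟩ : ℕ) := (hk u hu ⟨x, hx⟩).symm
      have hconj : φ t * φ (k ^ u) * φ t = φ (k ^ (j * u % 8)) := by
        rw [← pow_eq_pow_mod _ hk8, pow_mul, map_pow φ (k ^ j), ← hj', map_mul, map_mul, map_pow]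
        have htinv : (φ t)⁻¹ = φ t := inv_eq_of_mul_eq_one_right (by rw [← map_mul, htt, map_one])
        have := (conj_pow (i := u) (a := φ t) (b := φ k)).symm
        rwa [htinv] at this
      rw [hkx, hF, hF' x hx, ← hk _ (Nat.mod_lt _ (by norm_num)), ← hconj]
      simp only [Equiv.Perm.mul_apply, htt']
    · obtain ⟨hn, hin, hni⟩ := rep_spec.2.2 i hi
      set n := negL i with hndef
      let I : Fin 28 := ⟨i, by omega⟩
      let N : Fin 28 := ⟨n, by omega⟩
      have hn0 : N ≠ o := fun h => hi0 (by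
        have h1 : n = 0 := congrArg Fin.val h
        rw [h1, (add_fix i hi).2] at hin
        exact hin)
      have hNoo : N ≠ oo := fun h => by
        have h1 : n = 27 := congrArg Fin.val h
        omega
      have hzq := hlt _ (hne_o N hNoo hn0).1
      have hiq := hlt _ (hne_o I (fun h => by
        have h1 : i = 27 := congrArg Fin.val h
        omega) (fun h => hi0 (congrArg Fin.val h))).1
      obtain ⟨hjn, hjj, hjj'⟩ := rep_spec.2.2 _ hiq
      set jj := negL (φ t I : ℕ) with hjjdef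
      have hN : φ (a i) N = o := Fin.ext ((ha i hi N).trans hin)
      have hI : φ (a jj) (φ t I) = o := Fin.ext ((ha jj hjn _).trans hjj')
      set g := a jj * t * a i * t * a (φ t N : ℕ) with hg
      obtain ⟨u, hu, hgu⟩ := hstab (g * t) (by
        simp only [hg, map_mul, Equiv.Perm.mul_apply, ht0, (hao _ hzq).2, hto, (hao i hi).1]
        exact hI) (by
        simp only [hg, map_mul, Equiv.Perm.mul_apply, hto, (hao _ hzq).1, htt', Fin.eta, hN, ht0,
          (hao jj hjn).2])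
      refine ⟨u, hu, fun x hx => ?_⟩
      have := congrArg Fin.val (Equiv.Perm.ext_iff.mp hgu (φ t ⟨x, hx⟩))
      simp only [hg, map_mul, Equiv.Perm.mul_apply, htt', hk u hu, ha jj hjn] at this
      rw [← hF' x hx] at this
      have e1 : addL (φ t N : ℕ) x = (φ (a (φ t N : ℕ)) ⟨x, hx⟩ : ℕ) := (ha _ hzq ⟨x, hx⟩).symm
      rw [hF' i (by omega), hF' n (by omega), e1, hF, ← ha i hi, hF]
      exact this
  obtain ⟨u, hu, hstd⟩ := conj_of_adm hj hadm
  refine le_antisymm ?_ ?_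
  · set S := stdPerm with hS
    have hA : ∀ i, i < 27 → φ (a i) ∈ S := fun i hi => subset_closure (Or.inl ⟨i, hi, fun x => by
      rw [ha i hi, (add_eq i hi x x.2).1]⟩)
    have hM : ∀ u, u < 8 → φ (k ^ u) ∈ S := fun u hu =>
      subset_closure (Or.inr (Or.inl ⟨u, hu, fun x => by rw [hk u hu, (mul_eq u hu x x.2).1]⟩))
    have ht' : φ (k ^ u * t) ∈ S := subset_closure (Or.inr (Or.inr fun x => by
      rw [map_mul, Equiv.Perm.mul_apply, hk u hu, ← hF, hstd x x.2, std_eq x x.2]))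
    have htS : φ t ∈ S := by
      rw [map_mul] at ht'
      exact (mul_mem_cancel_left (hM u hu)).mp ht'
    have hstab1 : ∀ g : G, φ g oo = oo → φ g ∈ S := by
      intro g hg
      set i := (φ g o : ℕ) with hi
      have hiq : i < 27 := hlt _ fun h => by
        have := congrArg Fin.val ((φ g).injective (h.trans hg.symm))
        simp [ho, hoo] at this
      obtain ⟨u, hu, hgu⟩ := hstab ((a i)⁻¹ * g) (by
        rw [map_mul, map_inv, Equiv.Perm.mul_apply, Equiv.Perm.inv_eq_iff_eq, (hao i hiq).1]) (by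
        rw [map_mul, map_inv, Equiv.Perm.mul_apply, hg, Equiv.Perm.inv_eq_iff_eq, (hao i hiq).2])
      rw [map_mul, map_inv] at hgu
      rw [show φ g = φ (a i) * φ (k ^ u) by rw [← hgu, mul_inv_cancel_left]]
      exact mul_mem (hA i hiq) (hM u hu)
    rintro _ ⟨g, rfl⟩
    by_cases hg : φ g oo = oo
    · exact hstab1 g hg
    set y := (φ g oo : ℕ)
    have hy : y < 27 := hlt _ hg
    have h1 := hstab1 (t * ((a y)⁻¹ * g)) (by
      rw [map_mul, map_mul, map_inv, Equiv.Perm.mul_apply, Equiv.Perm.mul_apply,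
        show (φ (a y))⁻¹ (φ g oo) = o from Equiv.Perm.inv_eq_iff_eq.mpr (hao y hy).1.symm, ht0])
    rw [map_mul, map_mul, map_inv] at h1
    exact (mul_mem_cancel_left (inv_mem (hA y hy))).mp ((mul_mem_cancel_left htS).mp h1)
  · rw [stdPerm, TwoPoint.stdGroup, closure_le]
    rintro f (⟨i, hi, hf⟩ | ⟨w, hw, hf⟩ | hf)
    · exact ⟨a i, Equiv.ext fun x => Fin.ext (by rw [ha i hi, hf, (add_eq i hi x x.2).1])⟩
    · exact ⟨k ^ w, Equiv.ext fun x => Fin.ext (by rw [hk w hw, hf, (mul_eq w hw x x.2).1])⟩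
    · refine ⟨k ^ u * t, Equiv.ext fun x => Fin.ext ?_⟩
      rw [map_mul, Equiv.Perm.mul_apply, hk u hu, ← hF, hstd x x.2, hf, std_eq x x.2]

end Cfsg.Agent.Order6048
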