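/-
Simple groups of order 6048 are isomorphic.

Main results (namespace `Cfsg.Agent.Order6048`):
* `exists_perm` : such a group is the permutation group `stdPerm`;
* `simple_iso` : two such groups are isomorphic.
-/
import Cfsg.Agent.Lib.Order6048.Frame
import Cfsg.Agent.Lib.Order6048.Main
import Cfsg.Agent.Lib.SmallOrders.TwoPoint.Coords

set_option autoImplicit false
set_option linter.unusedSectionVars false

namespace Cfsg.Agent.Order6048

open Subgroup
open Cfsg.Agent.SmallOrders

variable {G : Type*} [Group G] [Finite G] [Fact (Nat.Prime 3)]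

namespace Frame

variable {P Q : Sylow 3 G} {a k : G}

/-- the translation for a point -/
def w (_F : Frame P Q a k) (i : ℕ) : G :=
  word a (k * a * k⁻¹) ((k * a * k⁻¹ * a)⁻¹ * (a * (k * a * k⁻¹))) i

variable (F : Frame P Q a k)

include F

theorem w_mem (i : ℕ) : F.w i ∈ (P : Subgroup G) := by
  have hk : ∀ x ∈ (P : Subgroup G), k * x * k⁻¹ ∈ (P : Subgroup G) := fun x hx =>
    (mem_normalizer_iff.1 (Sylow.smul_eq_iff_mem_normalizer.1 ((F.stab k).2 (mem_zpowers k)).1) x).1 hx
  have hb := hk a F.amem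
  exact mul_mem (mul_mem (pow_mem hb _) (pow_mem F.amem _))
    (pow_mem (mul_mem (inv_mem (mul_mem hb F.amem)) (mul_mem F.amem hb)) _)

theorem w_zero : F.w 0 = 1 := Rel.word_zero

theorem w_mul {i j : ℕ} (hi : i < 27) (hj : j < 27) : F.w i * F.w j = F.w (addL i j) := by
  rw [← (add_eq i hi j (by omega)).1]
  exact F.rel.word_mul hi hj

theorem w_inj {i j : ℕ} (hi : i < 27) (hj : j < 27) (h : F.w i = F.w j) : i = j :=
  F.rel.word_inj hi hj h

theorem w_conj {u i : ℕ} (hu : u < 8) (hi : i < 27) :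
    mulL u i < 27 ∧ k ^ u * F.w i * (k ^ u)⁻¹ = F.w (mulL u i) := by
  induction u with
  | zero => rw [(mul_pow_spec 0 hu i (by omega)).2]; simp [hi]
  | succ u ih =>
    obtain ⟨h1, h2⟩ := ih (by omega)
    have h3 := (mul_pow_spec u (by omega) i (by omega)).1
    rw [Nat.mod_eq_of_lt hu] at h3
    rw [h3, ← (mul_eq 1 (by norm_num) _ (by omega)).1]
    refine ⟨(mul_lt _ h1).1, ?_⟩
    have h4 : k * F.w (mulL u i) * k⁻¹ = F.w (TwoPoint.look mulTab 1 (mulL u i)) :=
      F.rel.word_conj rfl F.kb F.kc h1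
    rw [← h4, ← h2, pow_succ']
    group

theorem w_surj {g : G} (hg : g ∈ (P : Subgroup G)) : ∃ i, i < 27 ∧ F.w i = g := by
  have := Fintype.ofFinite (P : Subgroup G)
  let f : Fin 27 → (P : Subgroup G) := fun i => ⟨F.w i, F.w_mem i⟩
  have hf : Function.Bijective f := (Fintype.bijective_iff_injective_and_card f).2
    ⟨fun i j e => Fin.ext (F.w_inj i.2 j.2 (congrArg Subtype.val e)),
      by rw [Fintype.card_fin, ← Nat.card_eq_fintype_card, F.cardP]⟩
  obtain ⟨i, hi⟩ := hf.2 ⟨g, hg⟩
  exact ⟨i, i.2, congrArg Subtype.val hi⟩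

theorem exists_pow {g : G} (h1 : g • P = P) (h2 : g • Q = Q) : ∃ u, u < 8 ∧ g = k ^ u := by
  obtain ⟨n, hn⟩ := mem_powers_iff_mem_zpowers.2 ((F.stab g).1 ⟨h1, h2⟩)
  refine ⟨n % 8, Nat.mod_lt _ (by norm_num), ?_⟩
  rw [← hn, ← F.k8, pow_mod_orderOf]

end Frame

theorem exists_perm [IsSimpleGroup G] (h : Nat.card G = 6048) :
    ∃ φ : G →* Equiv.Perm (Fin (27 + 1)), Function.Injective φ ∧ φ.range = stdPerm := by
  classical
  obtain ⟨P, Q, a, k, F⟩ := exists_frame h
  obtain ⟨hn, -, -, -⟩ := sylow_three h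
  have : Fintype (Sylow 3 G) := Fintype.ofFinite _
  let f : Fin 28 → Sylow 3 G := fun i => if (i : ℕ) = 27 then P else F.w i • Q
  have hne : ∀ i : ℕ, F.w i • Q ≠ P := fun i e => F.ne (by
    have := congrArg ((F.w i)⁻¹ • ·) e
    simp only [inv_smul_smul] at this
    rw [this]
    exact F.fixP _ (inv_mem (F.w_mem i)))
  have hf : Function.Bijective f := by
    refine (Fintype.bijective_iff_injective_and_card f).2 ⟨fun i j hij => Fin.ext ?_, by
      rw [Fintype.card_fin, ← Nat.card_eq_fintype_card, hn]⟩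
    simp only [f] at hij
    have hi := i.2
    have hj := j.2
    by_cases h1 : (i : ℕ) = 27 <;> by_cases h2 : (j : ℕ) = 27
    · rw [h1, h2]
    · rw [if_pos h1, if_neg h2] at hij; exact absurd hij.symm (hne _)
    · rw [if_neg h1, if_pos h2] at hij; exact absurd hij (hne _)
    · rw [if_neg h1, if_neg h2] at hij
      refine F.w_inj (by omega) (by omega) (inv_mul_eq_one.1 (F.free _
        (mul_mem (inv_mem (F.w_mem _)) (F.w_mem _)) Q F.ne ?_))
      rw [mul_smul, ← hij, inv_smul_smul]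
  let e : Fin 28 ≃ Sylow 3 G := Equiv.ofBijective f hf
  let φ : G →* Equiv.Perm (Fin (27 + 1)) :=
    e.symm.permCongrHom.toMonoidHom.comp (MulAction.toPermHom G (Sylow 3 G))
  have hφ : ∀ (g : G) (i : Fin 28), φ g i = e.symm (g • e i) := fun g i => rfl
  have hinj : Function.Injective φ := (injective_iff_map_eq_one φ).2 fun g hg => F.faith g fun x => by
    have h1 := Equiv.Perm.ext_iff.1 hg (e.symm x)
    rw [hφ, Equiv.apply_symm_apply, Equiv.Perm.one_apply] at h1
    exact e.symm.injective h1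
  have hzero : e 0 = Q := by show f (0 : Fin 28) = Q; simp [f, F.w_zero]
  have hlast : e (Fin.last 27) = P := by show f (Fin.last 27) = P; simp [f]
  have heval : ∀ (g : G) (x : Fin 28) (n : ℕ) (hn : n < 28), g • e x = e ⟨n, hn⟩ →
      (φ g x : ℕ) = n := fun g x n hn h => by rw [hφ, h, Equiv.symm_apply_apply]
  refine ⟨φ, hinj, range_eq_std φ F.w k ?_ ?_ (by rw [← F.k8, pow_orderOf_eq_one]) ?_ ?_⟩
  · intro i hi x
    by_cases hx : (x : ℕ) = 27
    · rw [hx, (add_fix i hi).1]
      refine heval _ _ 27 (by omega) ?_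
      rw [show x = Fin.last 27 from Fin.ext hx, hlast, F.fixP _ (F.w_mem i)]
      exact hlast.symm
    · have hxq : (x : ℕ) < 27 := by have := x.2; omega
      have hlt := (tab_spec i hi x hxq).1
      rw [(add_eq i hi x x.2).1] at hlt
      refine heval _ _ _ (by omega) ?_
      show F.w i • f x = f _
      simp only [f, if_neg hx, if_neg hlt.ne, smul_smul, F.w_mul hi hxq]
  · intro u hu x
    obtain ⟨hP, hQ⟩ := (F.stab (k ^ u)).2 (pow_mem (mem_zpowers k) u)
    by_cases hx : (x : ℕ) = 27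
    · rw [hx, (fix_spec u hu).1]
      refine heval _ _ 27 (by omega) ?_
      rw [show x = Fin.last 27 from Fin.ext hx, hlast, hP]
      exact hlast.symm
    · have hxq : (x : ℕ) < 27 := by have := x.2; omega
      obtain ⟨h1, h2⟩ := F.w_conj hu hxq
      refine heval _ _ _ (by omega) ?_
      show k ^ u • f x = f _
      simp only [f, if_neg hx, if_neg h1.ne, ← h2, mul_smul, show (k ^ u)⁻¹ • Q = Q from
        inv_smul_eq_iff.2 hQ.symm]
  · intro g h0 h1
    rw [hφ, Equiv.symm_apply_eq] at h0 h1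
    rw [hzero] at h0
    rw [hlast] at h1
    obtain ⟨u, hu, rfl⟩ := F.exists_pow h1 h0
    exact ⟨u, hu, rfl⟩
  · obtain ⟨t, htt, htQ⟩ := TwoPoint.exists_involution_swap F.faith (by rw [h]; norm_num) (o := P) (Q := Q)
      fun R hR => by
        obtain ⟨g, hg, hgQ⟩ := F.reg R hR
        exact ⟨g, F.fixP g hg, hgQ⟩
    refine ⟨t, htt, ?_⟩
    rw [hφ, hzero, htQ, Equiv.symm_apply_eq, hlast]

omit [Finite G] [Fact (Nat.Prime 3)] in
/-- Two simple groups of order 6048 are isomorphic. -/
theorem simple_iso {H : Type*} [Group H] [IsSimpleGroup G] [IsSimpleGroup H]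
    (hG : Nat.card G = 6048) (hH : Nat.card H = 6048) : Nonempty (G ≃* H) := by
  have : Fact (Nat.Prime 3) := ⟨Nat.prime_three⟩
  have : Finite G := Nat.finite_of_card_ne_zero (by omega)
  have : Finite H := Nat.finite_of_card_ne_zero (by omega)
  exact TwoPoint.mulEquiv_of_injective_std (exists_perm hG) (exists_perm hH)

end Cfsg.Agent.Order6048
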