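/-
The automorphism group of a simple group of order 6048 has order at most 12096.

Main result (namespace `Cfsg.Agent.Order6048`):
* `card_mulAut_le`.
-/
import Cfsg.Agent.Lib.Order6048.Unique

set_option autoImplicit false
set_option linter.unusedSectionVars false

namespace Cfsg.Agent.Order6048

open Subgroup
open scoped Pointwise
open Cfsg.Agent.SmallOrders

/-- the pairs `(n, i)` for which `a ↦ word n`, `k ↦ k ^ i` respects the relations -/
def autPairs : Finset (ℕ × ℕ) :=
  ((Finset.range 27 ×ˢ Finset.range 8).filter fun q =>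
    q.1 ≠ 0 ∧ q.2 % 2 = 1 ∧ mulL q.2 (mulL q.2 q.1) = addL q.1 (mulL q.2 q.1))

theorem card_autPairs : autPairs.card ≤ 16 := by decide +kernel

variable {G : Type*} [Group G] [Finite G] [Fact (Nat.Prime 3)]

theorem aut_smul_smul (φ : MulAut G) (g : G) (R : Sylow 3 G) : φ • (g • R) = φ g • (φ • R) := by
  have h : φ * MulAut.conj g = MulAut.conj (φ g) * φ := by
    ext x
    simp [map_mul, map_inv]
  rw [Sylow.smul_def, Sylow.smul_def]
  refine Sylow.ext ?_
  simp only [Sylow.pointwise_smul_def, smul_smul, h]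

theorem card_mulAut_le [IsSimpleGroup G] (h : Nat.card G = 6048) :
    Nat.card (MulAut G) ≤ 12096 := by
  classical
  obtain ⟨P, Q, a, k, F⟩ := exists_frame h
  obtain ⟨hn, -, -, -⟩ := sylow_three h
  have : Fintype (Sylow 3 G) := Fintype.ofFinite _
  have hreach : ∀ R, R ≠ P → ∃ i, i < 27 ∧ F.w i • Q = R := fun R hR => by
    obtain ⟨g, hg, hgQ⟩ := F.reg R hR
    obtain ⟨i, hi, rfl⟩ := F.w_surj hg
    exact ⟨i, hi, hgQ⟩
  have := Nat.card_congr (MulAction.orbitProdStabilizerEquivGroup (MulAut G) (P, Q))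
  rw [Nat.card_prod] at this
  rw [← this]
  have hO : Nat.card (MulAction.orbit (MulAut G) (P, Q)) ≤ 756 := by
    let S : Finset (Sylow 3 G × Sylow 3 G) := (Finset.univ : Finset (Sylow 3 G)).offDiag
    have hS : S.card = 756 := by
      rw [Finset.offDiag_card, Finset.card_univ, ← Nat.card_eq_fintype_card, hn]
    rw [← hS, ← Fintype.card_coe, ← Nat.card_eq_fintype_card]
    refine Nat.card_mono S.finite_toSet ?_
    rintro q ⟨φ, rfl⟩
    simp only [S, Finset.mem_coe, Finset.mem_offDiag, Finset.mem_univ, true_and, Prod.smul_mk]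
    exact fun e => F.ne (smul_left_cancel φ e).symm
  have hfix : ∀ φ ∈ MulAction.stabilizer (MulAut G) (P, Q), φ • P = P ∧ φ • Q = Q := fun φ hφ =>
    Prod.ext_iff.1 hφ
  have hdata : ∀ φ ∈ MulAction.stabilizer (MulAut G) (P, Q),
      ∃ n i, (n, i) ∈ autPairs ∧ φ a = F.w n ∧ φ k = k ^ i := by
    intro φ hφ
    obtain ⟨hP, hQ⟩ := hfix φ hφ
    have hmem : ∀ x ∈ (P : Subgroup G), φ x ∈ (P : Subgroup G) := fun x hx => by
      rw [← hP, Sylow.pointwise_smul_def]
      exact smul_mem_pointwise_smul x φ _ hx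
    obtain ⟨hkP, hkQ⟩ := (F.stab k).2 (mem_zpowers k)
    obtain ⟨i, hi, hik⟩ := F.exists_pow (g := φ k) (by rw [← hP, ← aut_smul_smul, hkP])
      (by rw [← hQ, ← aut_smul_smul, hkQ])
    obtain ⟨n, hn, hna⟩ := F.w_surj (hmem a F.amem)
    refine ⟨n, i, ?_, hna.symm, hik⟩
    have hn0 : n ≠ 0 := by
      rintro rfl
      rw [F.w_zero, eq_comm, EmbeddingLike.map_eq_one_iff] at hna
      have := F.rel.word_ne (show 1 < 27 by norm_num) (by simp [word, hna])
      omega
    have hodd : i % 2 = 1 := by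
      by_contra he
      have h4 : φ (k ^ 4) = 1 := by
        rw [map_pow, hik, ← pow_mul, show i * 4 = 8 * (i / 2) by omega, pow_mul, ← F.k8,
          pow_orderOf_eq_one, one_pow]
      rw [EmbeddingLike.map_eq_one_iff] at h4
      have := orderOf_dvd_of_pow_eq_one h4
      rw [F.k8] at this
      norm_num at this
    have himg : φ (k * a * k⁻¹) = F.w (mulL i n) := by
      rw [map_mul, map_mul, map_inv, hik, ← hna]
      exact (F.w_conj hi hn).2
    obtain ⟨h1, -⟩ := F.w_conj hi hn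
    obtain ⟨h2, h3⟩ := F.w_conj hi h1
    have e := congrArg φ F.kb
    rw [map_mul, map_mul φ k, map_mul φ a, map_inv, hik, himg, ← hna, h3, F.w_mul hn h1] at e
    have hlt := (tab_spec n hn _ h1).1
    rw [(add_eq n hn _ (by omega)).1] at hlt
    simp only [autPairs, Finset.mem_filter, Finset.mem_product, Finset.mem_range]
    exact ⟨⟨hn, hi⟩, hn0, hodd, F.w_inj h2 hlt e⟩
  choose n i hni hna hnk using hdata
  have hSt : Nat.card (MulAction.stabilizer (MulAut G) (P, Q)) ≤ 16 := by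
    refine le_trans ?_ card_autPairs
    rw [← Fintype.card_coe, ← Nat.card_eq_fintype_card]
    refine Nat.card_le_card_of_injective (fun φ => ⟨(n φ.1 φ.2, i φ.1 φ.2), hni _ _⟩) ?_
    rintro ⟨φ, hφ⟩ ⟨ψ, hψ⟩ e
    have e' : (n φ hφ, i φ hφ) = (n ψ hψ, i ψ hψ) := congrArg Subtype.val e
    obtain ⟨e1, e2⟩ := Prod.mk.injEq .. ▸ e'
    have ea : φ a = ψ a := by rw [hna φ hφ, hna ψ hψ, e1]
    have ek : φ k = ψ k := by rw [hnk φ hφ, hnk ψ hψ, e2]
    obtain ⟨hP, hQ⟩ := hfix φ hφ
    obtain ⟨hP', hQ'⟩ := hfix ψ hψ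
    have hR : ∀ R : Sylow 3 G, φ • R = ψ • R := by
      intro R
      by_cases hRP : R = P
      · rw [hRP, hP, hP']
      obtain ⟨j, hj, rfl⟩ := hreach R hRP
      rw [aut_smul_smul, aut_smul_smul, hQ, hQ']
      congr 1
      simp only [Frame.w, word, map_mul, map_pow, map_inv, ea, ek]
    refine Subtype.ext (MulEquiv.ext fun g => inv_mul_eq_one.1 (F.faith _ fun R => ?_))
    obtain ⟨R, rfl⟩ : ∃ R', φ • R' = R := ⟨φ⁻¹ • R, smul_inv_smul φ R⟩
    rw [mul_smul, inv_smul_eq_iff, ← aut_smul_smul, hR (g • R), aut_smul_smul, ← hR R]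
  calc _ ≤ 756 * 16 := Nat.mul_le_mul hO hSt
    _ = 12096 := rfl

end Cfsg.Agent.Order6048
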