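/-
The finite check behind the non-existence of simple groups of order 12096.

Main results (namespace `Cfsg.Agent.Order6048`):
* `centList`, `leafBool`, `valsBool`, `double_check`.
-/
import Cfsg.Agent.Lib.SmallOrders.BlockDegrees.ValueCheck

set_option autoImplicit false
set_option maxRecDepth 4000

namespace Cfsg.Agent.Order6048

open Cfsg.Agent.SmallOrders.BlockDegrees

/-- possible orders of the centraliser of an involution commuting with an element of order 3 -/
def centList : List ℕ :=
  (List.range 224).filter fun C => decide (6 ∣ C) && decide (C ∣ 12096)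

/-- the values at the six nonprincipal characters do not fit -/
def leafBool (acc : List (ℤ × ℤ)) (sv : ℤ) (sq : ℕ) (S : ℤ) : Bool :=
  decide (sv ≠ 0) || centList.all fun C => decide (S ≠ ((7 * C * C : ℕ) : ℤ)) || decide (C < sq) ||
    acc.any fun q => decide (((12096 / C : ℕ) : ℤ) * q.2 % q.1 ≠ 0)

/-- no values for the given signed degrees -/
def valsBool : List ℤ → List (ℤ × ℤ) → ℤ → ℕ → ℤ → Bool
  | [], acc, sv, sq, S => leafBool acc sv sq S
  | a :: as, acc, sv, sq, S => ((List.range 29).map fun i : ℕ => (i : ℤ) - 14).all fun v =>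
      if v.natAbs < a.natAbs ∧ (a - v) % 4 = 0 ∧ sq + v.natAbs ^ 2 ≤ 223 then
        valsBool as ((a, v) :: acc) (sv + v) (sq + v.natAbs ^ 2) (S + v ^ 2 * (12096 / a))
      else true

theorem double_check :
    (degSols 12096 7 6 1 2 [-6, 8, -27, 36, -48, 64] 5 1 1).all (fun X =>
      valsBool (-(1 + X.sum) :: X) [] 1 1 12096) = true := by decide +kernel

end Cfsg.Agent.Order6048
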