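/-
No simple group of order 12096.

Main result (namespace `Cfsg.Agent.Order6048`):
* `not_simple_double` : a simple group of order 12096 cannot have `|C(x)| = 7`, `|N(⟨x⟩)| = 42`
  for an element `x` of order 7.
-/
import Cfsg.Agent.Lib.Order6048.Chars
import Cfsg.Agent.Lib.Order6048.DoubleCheck

set_option autoImplicit false
set_option maxRecDepth 4000

namespace Cfsg.Agent.Order6048

open Cfsg Subgroup
open Cfsg.Agent.SmallOrders Cfsg.Agent.SmallOrders.BlockDegrees

theorem cand_check : degCand 12096 7 2 110 = [-6, 8, -27, 36, -48, 64] := by decide +kernel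

theorem valsBool_sound : ∀ (L acc : List (ℤ × ℤ)) (sv : ℤ) (sq : ℕ) (S : ℤ),
    valsBool (L.map Prod.fst) acc sv sq S = true →
    (∀ q ∈ L, q.2.natAbs < q.1.natAbs ∧ (q.1 - q.2) % 4 = 0) →
    sq + (L.map fun q => q.2.natAbs ^ 2).sum ≤ 223 →
    leafBool (L.reverse ++ acc) (sv + (L.map Prod.snd).sum)
      (sq + (L.map fun q => q.2.natAbs ^ 2).sum)
      (S + (L.map fun q => q.2 ^ 2 * (12096 / q.1)).sum) = true
  | [], acc, sv, sq, S, h, _, _ => by simpa [valsBool] using h
  | (a, v) :: L, acc, sv, sq, S, h, hL, hle => by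
    obtain ⟨h1, h2⟩ := hL (a, v) List.mem_cons_self
    simp only [List.map_cons, List.sum_cons] at hle
    have hv : v.natAbs ≤ 14 := by
      by_contra hc
      have := Nat.mul_le_mul (Nat.not_le.mp hc) (Nat.not_le.mp hc)
      rw [pow_two] at hle
      omega
    simp only [List.map_cons, valsBool, List.all_eq_true] at h
    have h3 := h v (List.mem_map.mpr ⟨(v + 14).toNat, List.mem_range.mpr (by omega), by omega⟩)
    rw [if_pos ⟨h1, h2, by omega⟩] at h3
    have := valsBool_sound L _ _ _ _ h3 (fun q hq => hL q (List.mem_cons_of_mem _ hq))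
      (by rw [add_assoc]; exact hle)
    simpa only [List.map_cons, List.sum_cons, List.reverse_cons, List.append_assoc, List.singleton_append,
      add_assoc] using this

theorem cent_bound {x : ℤ} {C : ℕ} (hx : x ≤ 1512 * ((C : ℤ) - 1))
    (h : (7 : ℤ) * C * C = 12096 + x) : C ≤ 223 := by
  by_contra hc
  have hc' : (224 : ℤ) ≤ C := by exact_mod_cast Nat.not_le.mp hc
  nlinarith [mul_le_mul_of_nonneg_right hc' (by omega : (0 : ℤ) ≤ (C : ℤ))]

variable {G : Type*} [Group G] [Finite G] [IsSimpleGroup G]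

theorem not_simple_double (h : Nat.card G = 12096) {x t u : G} (hx : orderOf x = 7)
    (hC : Nat.card (centralizer ({x} : Set G)) = 7)
    (hN : Nat.card (normalizer (zpowers x : Set G)) = 42) (ht : orderOf t = 2)
    (htx : t * x * t⁻¹ = x⁻¹) (hu : orderOf u = 3) (hut : Commute u t) : False := by
  classical
  have : Fact (Nat.Prime 7) := ⟨by norm_num⟩
  have hna : ¬ IsMulCommutative G := not_isMulCommutative_of_card (by rw [h]; decide +kernel)
  obtain ⟨L, A, E, σ, ε, χe, w, hS, hcK, hD, hχe, hw, hEd, hval, -⟩ :=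
    exists_valData hna (p := 7) (c := 1) (e := 6) (lo := 2) (by norm_num) hx
      (by rw [h]; norm_num) (by rw [hC]) (by rw [hN]) (Or.inl le_rfl) ht
  obtain ⟨⟨hcard, hX, hy1, hy2, hy3, hsum, hsq⟩, hP, hw1, hw2, hvsq, k, hk1, hk2, hk3, hk4⟩ := hval
  have hk : k = 7 := by
    have := hk3 ⟨t, IsConj.refl t, htx⟩
    have := Nat.le_of_dvd this hk1
    omega
  subst hk
  rw [h] at hy1 hsq hk4
  simp only [h] at hX
  set C := Nat.card (centralizer ({t} : Set G)) with hCdef
  set P := A.val.map fun χ => (σ χ * (charDegree (χ : G → ℂ) : ℤ), σ χ * w χ) with hPdef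
  set y : ℤ := ε * (charDegree (χe : G → ℂ) : ℤ) with hy
  have hC6 : 6 ∣ C := by
    have h2 : 2 ∣ C := ht ▸ Subgroup.orderOf_dvd_natCard _ (mem_centralizer_singleton_iff.mpr rfl)
    have h3 : 3 ∣ C := hu ▸ Subgroup.orderOf_dvd_natCard _ (mem_centralizer_singleton_iff.mpr hut.eq)
    omega
  have hCdvd : C ∣ 12096 := h ▸ Subgroup.card_subgroup_dvd_card _
  -- degrees
  have hmem : ∀ a ∈ P.map Prod.fst, a ∈ ([-6, 8, -27, 36, -48, 64] : List ℤ) := by
    intro a ha
    obtain ⟨h1, h2, h3⟩ := hX a ha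
    rw [← cand_check]
    refine List.mem_flatMap.mpr ⟨a.natAbs, List.mem_range.mpr ?_, ?_⟩
    · by_contra hge
      have hle : a.natAbs ^ 2 ≤ ((P.map Prod.fst).map fun x => x.natAbs ^ 2).sum :=
        Multiset.le_sum_of_mem (Multiset.mem_map_of_mem (fun x : ℤ => x.natAbs ^ 2) ha)
      have : 110 ^ 2 ≤ a.natAbs ^ 2 := Nat.pow_le_pow_left (Nat.not_lt.mp hge) 2
      omega
    · rw [if_pos ⟨h1, h2⟩, List.mem_append]
      rcases Int.natAbs_eq a with e | e
      · left
        rw [← e, if_pos (by exact_mod_cast h3)]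
        exact List.mem_singleton.mpr rfl
      · right
        rw [show -((a.natAbs : ℕ) : ℤ) = a from e.symm, if_pos (by exact_mod_cast h3)]
        exact List.mem_singleton.mpr rfl
  obtain ⟨l, hl, hlX⟩ := degSols_complete (n := 12096) (p := 7) (e := 6) (t := 1) (lo := 2)
    [-6, 8, -27, 36, -48, 64] 5 1 1 (P.map Prod.fst) (by omega) hmem (by
      simp only [finalBool, Bool.and_eq_true, decide_eq_true_eq, hsum]
      exact ⟨⟨⟨hy1, hy2⟩, by exact_mod_cast hy3⟩, by simpa using hsq⟩)
  obtain ⟨L', hL', hLP⟩ := exists_aligned l P hlX.symm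
  set w0 : ℤ := 1 + (P.map Prod.snd).sum
  have hsum' : 1 + l.sum = y := by rw [← hsum, ← hlX, Multiset.sum_coe]
  have hcheck := double_check
  simp only [List.all_eq_true] at hcheck
  have h0 := hcheck l hl
  rw [hsum', ← hL'] at h0
  have hPsnd : (L'.map Prod.snd).sum = (P.map Prod.snd).sum := by
    rw [← hLP, Multiset.map_coe, Multiset.sum_coe]
  have hPsq : (L'.map fun q => q.2.natAbs ^ 2).sum = (P.map fun q => q.2.natAbs ^ 2).sum := by
    rw [← hLP, Multiset.map_coe, Multiset.sum_coe]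
  have hPS : (L'.map fun q => q.2 ^ 2 * ((12096 : ℤ) / q.1)).sum =
      (P.map fun q => q.2 ^ 2 * ((12096 : ℤ) / q.1)).sum := by
    rw [← hLP, Multiset.map_coe, Multiset.sum_coe]
  have hneg : (12096 : ℤ) / -y = -((12096 : ℤ) / y) :=
    Int.ediv_neg ..
  have hk4' : (7 : ℤ) * C * C = 12096 + (((P.map fun q => q.2 ^ 2 * ((12096 : ℤ) / q.1)).sum +
      (-w0) ^ 2 * (12096 / -y))) := by
    rw [hneg]; push_cast at hk4; linear_combination -hk4
  have hall : ∀ q ∈ ((-y, -w0) :: L'), q.2.natAbs < q.1.natAbs ∧ (q.1 - q.2) % 4 = 0 := by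
    intro q hq
    rcases List.mem_cons.mp hq with rfl | hq
    · simp only [Int.natAbs_neg]; exact ⟨hw1, by omega⟩
    · exact hP q (by rw [← hLP]; exact hq)
  have hle8 : ∀ a : ℤ, a ∈ ([-6, 8, -27, 36, -48, 64] : List ℤ) → (12096 : ℤ) / a ≤ 1512 := by
    decide +kernel
  have hy8 : (12096 : ℤ) / -y ≤ 1512 := by
    by_cases hneg' : -y < 0
    · exact (Int.ediv_nonpos_of_nonneg_of_nonpos (by norm_num) hneg'.le).trans (by norm_num)
    · have h8 : (8 : ℤ) ≤ -y := by omega
      exact Int.ediv_le_of_le_mul (by omega) (by nlinarith)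
  have hC223 : C ≤ 223 := by
    refine cent_bound ?_ hk4'
    have hb : ∀ q ∈ L', q.2 ^ 2 * ((12096 : ℤ) / q.1) ≤ 1512 * ((q.2.natAbs ^ 2 : ℕ) : ℤ) := fun q hq => by
      rw [mul_comm (1512 : ℤ)]
      push_cast [sq_abs]
      exact mul_le_mul_of_nonneg_left (hle8 _ (hmem _ (Multiset.mem_map_of_mem _ (by rw [← hLP]; exact hq))))
        (sq_nonneg _)
    rw [← hPS]
    refine (add_le_add (List.sum_le_sum hb) (mul_le_mul_of_nonneg_left hy8 (sq_nonneg _))).trans ?_
    have hsum2 : (L'.map fun q => 1512 * ((q.2.natAbs ^ 2 : ℕ) : ℤ)).sum =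
        1512 * (((L'.map fun q => q.2.natAbs ^ 2).sum : ℕ) : ℤ) := by
      rw [List.sum_map_mul_left, Nat.cast_list_sum, List.map_map]; rfl
    rw [hsum2, hPsq]
    have hvsq' : (1 : ℤ) + ((P.map fun q => q.2.natAbs ^ 2).sum : ℕ) + w0 ^ 2 ≤ C := by
      rw [← Int.natAbs_sq w0]
      simp only [Nat.reduceSub, Nat.reduceDiv, one_mul] at hvsq
      exact_mod_cast hvsq
    nlinarith
  have hbudget : 1 + (((-y, -w0) :: L').map fun q => q.2.natAbs ^ 2).sum ≤ C := by
    simp only [List.map_cons, List.sum_cons, Int.natAbs_neg, hPsq]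
    simp only [Nat.reduceSub, Nat.reduceDiv, one_mul] at hvsq
    omega
  have hleaf := valsBool_sound ((-y, -w0) :: L') [] 1 1 12096 (by simpa using h0) hall (by omega)
  simp only [leafBool, Bool.or_eq_true, decide_eq_true_eq, List.all_eq_true, List.any_eq_true] at hleaf
  rcases hleaf with h1 | h1
  · apply h1
    simp only [List.map_cons, List.sum_cons, hPsnd, w0]
    ring
  rcases h1 C (by simp [centList, List.mem_filter, hC6, hCdvd]; omega) with (h2 | h2) | ⟨q, hq, h2⟩
  · apply h2
    simp only [List.map_cons, List.sum_cons, hPS]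
    push_cast
    linear_combination -hk4'
  · simp only [List.map_cons, List.sum_cons] at h2 hbudget
    omega
  -- integrality of the central characters
  apply h2
  have hidx : (centralizer ({t} : Set G)).index = 12096 / C := by
    have := (centralizer ({t} : Set G)).card_mul_index
    rw [h] at this
    exact Nat.eq_div_of_mul_eq_right Nat.card_pos.ne' this
  have hdiv : ∀ (χ : IrrCharacter G) (s : ℤ), (s = 1 ∨ s = -1) → ∀ a b : ℤ,
      a = s * (charDegree (χ : G → ℂ) : ℤ) → b = s * w χ →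
        ((12096 / C : ℕ) : ℤ) * b % a = 0 := by
    intro χ s hs a b ha hb
    have hd := dvd_index_mul χ t (hw χ)
    rw [hidx] at hd
    apply Int.emod_eq_zero_of_dvd
    rcases hs with rfl | rfl <;> simp only [ha, hb, one_mul, neg_mul, mul_neg, neg_dvd, dvd_neg] <;>
      exact hd
  have hq' : q ∈ L' ∨ q = (-y, -w0) := by simpa using hq
  rcases hq'.symm with rfl | hq'
  · have hε := hD.signE
    have hwe : w0 = ε * w χe := by
      have h' := hD.rel t (by rw [ht]; norm_num) χe hχe
      simp only [hw] at h'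
      apply Int.cast_injective (α := ℂ)
      simp only [w0, hPdef, Multiset.map_map, Function.comp_def, Finset.sum_map_val]
      push_cast
      exact h'.symm
    exact hdiv χe (-ε) (by omega) _ _ (by simp [hy]) (by simp [hwe])
  · have hq2 : q ∈ P := by rw [← hLP]; exact hq'
    obtain ⟨χ, hχ, rfl⟩ := Multiset.mem_map.mp hq2
    exact hdiv χ (σ χ) (hD.sign χ hχ) _ _ rfl rfl

end Cfsg.Agent.Order6048
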