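/-
Groups of order 12096 without elements of order 14 and 21.

Main result (namespace `Cfsg.Agent.Order6048`):
* `exists_almost_simple` : such a group is the automorphism group of a normal simple subgroup of
  order 6048.
-/
import Cfsg.Agent.Lib.Order6048.Double
import Cfsg.Agent.Lib.Order6048.Aut
import Cfsg.Agent.Lib.CharApp.Burnside
import Cfsg.Agent.S0976
import Cfsg.Agent.S1017

set_option autoImplicit false
set_option linter.unusedSectionVars false

namespace Cfsg.Agent.Order6048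

open Subgroup
open Cfsg.Agent.SmallOrders

variable {G : Type*} [Group G] [Finite G]

/-- The hypotheses on the group. -/
structure Double (G : Type*) [Group G] : Prop where
  card : Nat.card G = 12096
  no14 : ∀ g : G, orderOf g ≠ 14
  no21 : ∀ g : G, orderOf g ≠ 21

namespace Double

variable (D : Double G)

include D

theorem centralizer_seven {x : G} (hx : orderOf x = 7) :
    Nat.card (centralizer ({x} : Set G)) = 7 := by
  set C := centralizer ({x} : Set G)
  have hdvd : Nat.card C ∣ 7 * (2 ^ 6 * 3 ^ 3) := by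
    have := C.card_subgroup_dvd_card; rw [D.card] at this; exact this
  have hno : ∀ q, q.Prime → (q = 2 ∨ q = 3) → ¬ q ∣ Nat.card C := by
    intro q hq hq23 hd
    have : Fact q.Prime := ⟨hq⟩
    obtain ⟨g, hg⟩ := exists_prime_orderOf_dvd_card' (G := C) q hd
    rw [← Subgroup.orderOf_coe] at hg
    have hc : Commute x (g : G) := (mem_centralizer_singleton_iff.1 g.2).symm
    have := hc.orderOf_mul_eq_mul_orderOf_of_coprime (by
      rw [hx, hg]; rcases hq23 with rfl | rfl <;> norm_num)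
    rw [hx, hg] at this
    rcases hq23 with rfl | rfl
    · exact D.no14 _ this
    · exact D.no21 _ this
  have h1 : Nat.Coprime (Nat.card C) (2 ^ 6 * 3 ^ 3) :=
    Nat.Coprime.mul_right
      (((Nat.prime_two.coprime_iff_not_dvd.2 (hno 2 Nat.prime_two (Or.inl rfl))).pow_left 6).symm)
      (((Nat.prime_three.coprime_iff_not_dvd.2 (hno 3 Nat.prime_three (Or.inr rfl))).pow_left 3).symm)
  refine Nat.dvd_antisymm (h1.dvd_of_dvd_mul_right hdvd) ?_
  rw [← hx]
  exact Subgroup.orderOf_dvd_natCard _ (mem_centralizer_singleton_iff.2 rfl)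

theorem normalizer_seven {x : G} (hx : orderOf x = 7) :
    Nat.card (normalizer (zpowers x : Set G)) = 42 := by
  classical
  have : Fact (Nat.Prime 7) := ⟨by norm_num⟩
  have hcard : ∀ P : Sylow 7 G, Nat.card (P : Subgroup G) = 7 := fun P =>
    (card_sylow_subgroup (p := 7) (e := 1) (m := 1728) (by rw [D.card]; norm_num) (by norm_num) P).trans
      (pow_one 7)
  obtain ⟨P, hP⟩ := exists_sylow_eq_zpowers hcard hx
  have h1 := card_normalizer_mul_card_sylow P
  rw [hP, D.card] at h1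
  set N := normalizer (zpowers x : Set G)
  have hle : Nat.card N ≤ 42 := by
    let act : MulAction N G := MulAction.compHom G ((ConjAct.toConjAct (G := G)).toMonoidHom.comp N.subtype)
    have hsmul : ∀ (n : N) (g : G), n • g = (n : G) * g * (n : G)⁻¹ := fun n g => rfl
    rw [← Nat.card_congr (MulAction.orbitProdStabilizerEquivGroup N x), Nat.card_prod]
    have hO : Nat.card (MulAction.orbit N x) ≤ 6 := by
      have hsub : MulAction.orbit N x ⊆ ((zpowers x : Set G) \ {1}) := by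
        rintro g ⟨n, rfl⟩
        refine ⟨(mem_normalizer_iff.1 n.2 x).1 (mem_zpowers x), fun e => ?_⟩
        rw [conj_eq_one_iff.1 e, orderOf_one] at hx
        norm_num at hx
      refine (Nat.card_mono (Set.toFinite _) hsub).trans ?_
      rw [Nat.card_coe_set_eq, Set.ncard_sdiff_singleton_of_mem (one_mem (zpowers x)), ← Nat.card_coe_set_eq,
        SetLike.coe_sort_coe, Nat.card_zpowers, hx]
    have hS : Nat.card (MulAction.stabilizer N x) ≤ 7 := by
      rw [← D.centralizer_seven hx]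
      refine Nat.card_le_card_of_injective (fun n => ⟨(n.1 : G), ?_⟩) fun a b hab => ?_
      · have := n.2
        rw [MulAction.mem_stabilizer_iff, hsmul, mul_inv_eq_iff_eq_mul] at this
        exact mem_centralizer_singleton_iff.2 this
      · exact Subtype.ext (Subtype.ext (Subtype.ext_iff.1 hab :))
    exact (Nat.mul_le_mul hO hS).trans (by norm_num)
  have hdvd : Nat.card (Sylow 7 G) ∈ Nat.divisors 1728 := Nat.mem_divisors.2
    ⟨index_sylow (p := 7) (e := 1) (m := 1728) (by rw [D.card]; norm_num) (by norm_num) P ▸ P.card_dvd_index,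
      by norm_num⟩
  have hmod : Nat.card (Sylow 7 G) % 7 = 1 := card_sylow_modEq_one 7 G
  have key : ∀ n ∈ Nat.divisors 1728, n % 7 = 1 → n = 288 ∨ 42 * n < 12096 := by decide +kernel
  rcases key _ hdvd hmod with e | e
  · rw [e] at h1; omega
  · have := Nat.mul_le_mul_right (Nat.card (Sylow 7 G)) hle
    omega

/-- an element of order 7 with an involution inverting it and a commuting element of order 3 -/
theorem exists_frobenius : ∃ x t u : G, orderOf x = 7 ∧ orderOf t = 2 ∧ t * x * t⁻¹ = x⁻¹ ∧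
    orderOf u = 3 ∧ Commute u t := by
  have : Fact (Nat.Prime 7) := ⟨by norm_num⟩
  have : Fact (Nat.Prime 3) := ⟨Nat.prime_three⟩
  obtain ⟨x, hx⟩ := exists_prime_orderOf_dvd_card' (G := G) 7 (by rw [D.card]; norm_num)
  have hC := D.centralizer_seven hx
  have hN := D.normalizer_seven hx
  obtain ⟨t, ht, htx⟩ : ∃ t : G, orderOf t = 2 ∧ t * x * t⁻¹ = x⁻¹ := by
    have : Fact (Nat.Prime 2) := ⟨Nat.prime_two⟩
    obtain ⟨t', ht'⟩ := exists_prime_orderOf_dvd_card' (G := normalizer (zpowers x : Set G)) 2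
      (by rw [hN]; norm_num)
    have hto : orderOf (t' : G) = 2 := (Subgroup.orderOf_coe t').trans ht'
    obtain ⟨i, hi⟩ := mem_powers_iff_mem_zpowers.2 ((mem_normalizer_iff.1 t'.2 x).1 (mem_zpowers x))
    have hix : (t' : G) * x * (t' : G)⁻¹ = x ^ i := hi.symm
    have htt : (t' : G) * t' = 1 := by rw [← pow_two, ← hto, pow_orderOf_eq_one]
    have e : x ^ 1 = x ^ (i * i) := by
      rw [pow_mul, ← hix, conj_pow, ← hix]
      calc x ^ 1 = (t' : G) * t' * x * ((t' : G) * t')⁻¹ := by rw [htt]; simp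
        _ = _ := by group
    rw [pow_inj_mod, hx] at e
    have hi6 : i % 7 = 1 ∨ i % 7 = 6 := by
      have : ∀ r < 7, r * r % 7 = 1 → r = 1 ∨ r = 6 := by decide +kernel
      exact this _ (Nat.mod_lt _ (by norm_num)) (by rw [← Nat.mul_mod]; omega)
    rcases hi6 with e' | e'
    · exfalso
      have := Subgroup.orderOf_dvd_natCard _ (mem_centralizer_singleton_iff.2 (mul_inv_eq_iff_eq_mul.1
        (show (t' : G) * x * (t' : G)⁻¹ = x by rw [hix, ← pow_mod_orderOf, hx, e', pow_one])))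
      rw [hto, hC] at this
      norm_num at this
    · refine ⟨t', hto, ?_⟩
      rw [hix, ← pow_mod_orderOf, hx, e']
      exact eq_inv_of_mul_eq_one_left (by rw [← pow_succ]; show x ^ 7 = 1; rw [← hx, pow_orderOf_eq_one])
  obtain ⟨u', hu'⟩ := exists_prime_orderOf_dvd_card' (G := normalizer (zpowers x : Set G)) 3
    (by rw [hN]; norm_num)
  set u : G := (u' : G)
  have hu : orderOf u = 3 := (Subgroup.orderOf_coe u').trans hu'
  obtain ⟨j, hj⟩ := mem_powers_iff_mem_zpowers.2 ((mem_normalizer_iff.1 u'.2 x).1 (mem_zpowers x))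
  have hjx : u * x * u⁻¹ = x ^ j := hj.symm
  have hju : u * x * u⁻¹ ≠ x := fun e => by
    have := Subgroup.orderOf_dvd_natCard _ (mem_centralizer_singleton_iff.2 (mul_inv_eq_iff_eq_mul.1 e))
    rw [hu, hC] at this
    norm_num at this
  set g := t * u with hg
  have hgx : ∀ n : ℕ, g * x ^ n * g⁻¹ = (x ^ (j * n))⁻¹ := fun n => by
    calc g * x ^ n * g⁻¹ = t * (u * x ^ n * u⁻¹) * t⁻¹ := by rw [hg]; group
      _ = (x ^ (j * n))⁻¹ := by rw [← conj_pow, hjx, ← pow_mul, ← conj_pow, htx, inv_pow]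
  have hx7 : x ^ 7 = 1 := hx ▸ pow_orderOf_eq_one x
  -- `j` is a primitive cube root of unity modulo 7
  have hj3 : j * j * j % 7 = 1 := by
    have hu3 : u ^ 3 = 1 := hu ▸ pow_orderOf_eq_one u
    have hp : ∀ n : ℕ, u * x ^ n * u⁻¹ = x ^ (j * n) := fun n => by rw [← conj_pow, hjx, ← pow_mul]
    have e : x ^ 1 = x ^ (j * j * j) :=
      calc x ^ 1 = u ^ 3 * x * (u ^ 3)⁻¹ := by rw [hu3]; simp
        _ = u * (u * (u * x * u⁻¹) * u⁻¹) * u⁻¹ := by
          simp only [pow_succ, pow_zero, one_mul, mul_assoc, mul_inv_rev]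
        _ = x ^ (j * j * j) := by rw [hjx, hp, hp, mul_assoc]
    rw [pow_inj_mod, hx] at e
    omega
  have hj1 : j % 7 ≠ 1 := fun e => hju (by rw [hjx, ← pow_mod_orderOf, hx, e, pow_one])
  have h2 : g * g * x * (g * g)⁻¹ = x ^ (j * j) := by
    calc g * g * x * (g * g)⁻¹ = g * (g * x ^ 1 * g⁻¹) * g⁻¹ := by group
      _ = g * (x ^ j)⁻¹ * g⁻¹ := by rw [hgx, mul_one]
      _ = (g * x ^ j * g⁻¹)⁻¹ := by group
      _ = x ^ (j * j) := by rw [hgx, inv_inv]
  have h3 : g * g * g * x * (g * g * g)⁻¹ = x⁻¹ := by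
    calc g * g * g * x * (g * g * g)⁻¹ = g * (g * g * x * (g * g)⁻¹) * g⁻¹ := by group
      _ = (x ^ (j * (j * j)))⁻¹ := by rw [h2, hgx]
      _ = x⁻¹ := by rw [← pow_mod_orderOf, hx, ← mul_assoc, hj3, pow_one]
  have h6 : g ^ 6 = 1 := by
    have hmem : g ^ 6 ∈ centralizer ({x} : Set G) := by
      refine mem_centralizer_singleton_iff.2 (mul_inv_eq_iff_eq_mul.1 ?_)
      have e6 : g ^ 6 = g * g * g * (g * g * g) := by
        simp only [pow_succ, pow_zero, one_mul, mul_assoc]
      rw [e6]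
      generalize g * g * g = r at h3
      calc r * r * x * (r * r)⁻¹ = r * (r * x * r⁻¹) * r⁻¹ := by group
        _ = r * x⁻¹ * r⁻¹ := by rw [h3]
        _ = (r * x * r⁻¹)⁻¹ := by group
        _ = x := by rw [h3, inv_inv]
    have heq : zpowers x = centralizer ({x} : Set G) :=
      eq_of_le_of_card_ge (zpowers_le.2 (mem_centralizer_singleton_iff.2 rfl))
        (by rw [hC, Nat.card_zpowers, hx])
    obtain ⟨n, hn⟩ := mem_powers_iff_mem_zpowers.2 (heq.symm ▸ hmem)
    have hfix : g * x ^ n * g⁻¹ = x ^ n := by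
      rw [show x ^ n = g ^ 6 from hn, (Commute.self_pow g 6).eq, mul_inv_cancel_right]
    rw [hgx, inv_eq_iff_mul_eq_one, ← pow_add] at hfix
    have hd := orderOf_dvd_of_pow_eq_one hfix
    rw [hx, ← Nat.succ_mul] at hd
    have h0 : n % 7 = 0 := by
      rcases (Nat.Prime.dvd_mul (by norm_num)).1 hd with hd | hd
      · exfalso
        have : ∀ r < 7, r * r * r % 7 = 1 → (r + 1) % 7 ≠ 0 := by decide +kernel
        refine this (j % 7) (Nat.mod_lt _ (by norm_num)) (by
          rw [← hj3]; simp [Nat.mul_mod]) ?_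
        omega
      · omega
    rw [show g ^ 6 = x ^ n from hn.symm, ← pow_mod_orderOf, hx, h0, pow_zero]
  have hg3 : g ^ 3 = g * g * g := by simp only [pow_succ, pow_zero, one_mul]
  have ht2 : orderOf (g ^ 3) = 2 := by
    refine orderOf_eq_prime (by rw [← pow_mul, h6]) fun e => ?_
    rw [← hg3, e] at h3
    have : x * x = 1 := by
      have e' : x = x⁻¹ := by simpa using h3
      exact inv_eq_iff_mul_eq_one.1 e'.symm
    rw [← pow_two] at this
    have := orderOf_dvd_of_pow_eq_one this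
    rw [hx] at this
    norm_num at this
  have hu2 : orderOf (g ^ 2) = 3 := by
    refine orderOf_eq_prime (by rw [← pow_mul, h6]) fun e => ?_
    rw [← pow_two, e] at h2
    have h2' : x ^ 1 = x ^ (j * j) := by simpa using h2
    rw [pow_inj_mod, hx] at h2'
    apply hj1
    have : ∀ r < 7, r * r * r % 7 = 1 → r * r % 7 = 1 → r = 1 := by decide +kernel
    refine this _ (Nat.mod_lt _ (by norm_num)) ?_ ?_
    · rw [← hj3]; simp [Nat.mul_mod]
    · rw [← Nat.mul_mod]; omega
  exact ⟨x, g ^ 3, g ^ 2, hx, ht2, by rw [hg3]; exact h3, hu2, (Commute.refl g).pow_pow 2 3⟩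

/-- a normal subgroup of order prime to 7 has order `1` modulo 7 -/
theorem card_mod_seven {K : Subgroup G} (hK : K.Normal) (h7 : ¬ 7 ∣ Nat.card K) {x : G}
    (hx : orderOf x = 7) :
    Nat.card K % 7 = 1 ∧ ∀ k ∈ K, x * k * x⁻¹ = k → k = 1 := by
  classical
  have : Fact (Nat.Prime 7) := ⟨by norm_num⟩
  have hfix : ∀ k ∈ K, x * k * x⁻¹ = k → k = 1 := by
    intro k hk he
    have h1 := Subgroup.orderOf_dvd_natCard _ (mem_centralizer_singleton_iff.2
      (show k * x = x * k from (mul_inv_eq_iff_eq_mul.1 he).symm))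
    rw [D.centralizer_seven hx] at h1
    rcases (Nat.dvd_prime (by norm_num)).1 h1 with e | e
    · exact orderOf_eq_one_iff.1 e
    · exact absurd (e ▸ Subgroup.orderOf_dvd_natCard _ hk) h7
  refine ⟨?_, hfix⟩
  have := Fintype.ofFinite K
  let f : Function.End K := fun a => ⟨x * a * x⁻¹, hK.conj_mem _ a.2 x⟩
  have hpow : ∀ (n : ℕ) (a : K), ((f ^ n) a : G) = x ^ n * a * (x ^ n)⁻¹ := by
    intro n
    induction n with
    | zero => intro a; rw [pow_zero]; show (a : G) = _; simp
    | succ n ih =>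
      intro a
      rw [pow_succ']
      show x * ((f ^ n) a : G) * x⁻¹ = _
      rw [ih, pow_succ']; group
  have hf : f ^ 7 ^ 1 = 1 := funext fun a => Subtype.ext (by
    rw [hpow, pow_one, ← hx, pow_orderOf_eq_one]; show _ = (a : G); simp)
  have hmod := Equiv.Perm.card_fixedPoints_modEq hf
  have : Subsingleton (Function.fixedPoints f) := ⟨fun a b => Subtype.ext (Subtype.ext
    ((hfix _ a.1.2 (congrArg Subtype.val a.2)).trans (hfix _ b.1.2 (congrArg Subtype.val b.2)).symm))⟩
  have h1 : Fintype.card (Function.fixedPoints f) = 1 := by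
    refine le_antisymm (Fintype.card_le_one_iff_subsingleton.2 this) (Fintype.card_pos_iff.2 ⟨⟨1, ?_⟩⟩)
    exact Subtype.ext (by show x * ((1 : K) : G) * x⁻¹ = ((1 : K) : G); simp)
  rw [h1, ← Nat.card_eq_fintype_card] at hmod
  simpa [Nat.ModEq] using hmod

/-- no non-trivial normal subgroup has order prime to 7 -/
theorem eq_bot_of_not_dvd {K : Subgroup G} (hK : K.Normal) (h7 : ¬ 7 ∣ Nat.card K) : K = ⊥ := by
  classical
  by_contra hne
  -- a minimal one
  obtain ⟨M, ⟨hMn, hMK, hM1⟩, hmin⟩ : ∃ M : Subgroup G, (M.Normal ∧ M ≤ K ∧ M ≠ ⊥) ∧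
      ∀ R : Subgroup G, R.Normal → R ≤ M → R ≠ ⊥ → R = M := by
    obtain ⟨M, hM⟩ := (Set.toFinite {M : Subgroup G | M.Normal ∧ M ≤ K ∧ M ≠ ⊥}).exists_minimal
      ⟨K, hK, le_rfl, hne⟩
    exact ⟨M, hM.1, fun R hR hRM hR1 => le_antisymm hRM (hM.2 ⟨hR, hRM.trans hM.1.2.1, hR1⟩ hRM)⟩
  have h7M : ¬ 7 ∣ Nat.card M := fun h => h7 (h.trans (card_dvd_of_le hMK))
  obtain ⟨x, t, -, hx, ht, htx, -, -⟩ := D.exists_frobenius
  obtain ⟨hmod, hfix⟩ := D.card_mod_seven hMn h7M hx
  have hdvd : Nat.card M ∣ 2 ^ 6 * 3 ^ 3 := by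
    have := M.card_subgroup_dvd_card
    rw [D.card] at this
    exact ((Nat.Prime.coprime_iff_not_dvd (by norm_num)).2 h7M).symm.dvd_of_dvd_mul_left
      (show Nat.card M ∣ 7 * (2 ^ 6 * 3 ^ 3) from this)
  obtain ⟨a, b, -, -, hab⟩ : ∃ a b, a ≤ 6 ∧ b ≤ 3 ∧ Nat.card M = 2 ^ a * 3 ^ b := by
    obtain ⟨d₁, d₂, h1, h2, e⟩ := Nat.dvd_mul.1 hdvd
    obtain ⟨a, ha, rfl⟩ := (Nat.dvd_prime_pow Nat.prime_two).1 h1
    obtain ⟨b, hb, rfl⟩ := (Nat.dvd_prime_pow Nat.prime_three).1 h2
    exact ⟨a, b, ha, hb, e.symm⟩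
  have hsol : Group.IsSolvable M :=
    CharApp.isSolvable_of_card_eq_prime_pow_mul 2 3 Nat.prime_two Nat.prime_three _ M rfl a b hab
  have hnt : Nontrivial M := (nontrivial_iff_ne_bot M).2 hM1
  -- so `M` is abelian
  have hcomm : ∀ p ∈ M, ∀ q ∈ M, p * q = q * p := by
    have hlt : commutator M < ⊤ := Group.IsSolvable.commutator_lt_top_of_nontrivial M
    have hmap : (commutator M).map M.subtype = ⁅M, M⁆ := by
      rw [commutator_def, map_commutator, ← MonoidHom.range_eq_map, Subgroup.range_subtype]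
    have hbot : ⁅M, M⁆ = ⊥ := by
      by_contra hb
      have hle : ⁅M, M⁆ ≤ M := hmap ▸ map_subtype_le _
      have := hmin _ inferInstance hle hb
      refine hlt.ne (map_injective M.subtype_injective ?_)
      rw [hmap, this, ← MonoidHom.range_eq_map, Subgroup.range_subtype]
    intro p hp q hq
    have := commutator_mem_commutator hp hq
    rw [hbot, mem_bot, commutatorElement_eq_one_iff_mul_comm] at this
    exact this
  -- and elementary
  have hexp : ∀ r : ℕ, (∃ m ∈ M, m ≠ 1 ∧ m ^ r = 1) → ∀ m ∈ M, m ^ r = 1 := by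
    rintro r ⟨m₀, hm₀, hm1, hmr⟩ m hm
    let R : Subgroup G :=
      { carrier := {g | g ∈ M ∧ g ^ r = 1}
        one_mem' := ⟨M.one_mem, one_pow r⟩
        mul_mem' := fun {p q} hp hq => ⟨M.mul_mem hp.1 hq.1, by
          rw [(show Commute p q from hcomm p hp.1 q hq.1).mul_pow, hp.2, hq.2, one_mul]⟩
        inv_mem' := fun {p} hp => ⟨M.inv_mem hp.1, by rw [inv_pow, hp.2, inv_one]⟩ }
    have hR : R.Normal := ⟨fun g hg c => ⟨hMn.conj_mem g hg.1 c, by rw [conj_pow, hg.2]; simp⟩⟩
    have hR1 : R ≠ ⊥ := fun e => hm1 (by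
      have : m₀ ∈ R := ⟨hm₀, hmr⟩
      rwa [e, mem_bot] at this)
    have := hmin R hR (fun g hg => hg.1) hR1
    exact ((this ▸ hm : m ∈ R)).2
  have hno3 : ¬ 3 ∣ Nat.card M := by
    intro h3
    have : Fact (Nat.Prime 3) := ⟨Nat.prime_three⟩
    obtain ⟨m₀, hm₀⟩ := exists_prime_orderOf_dvd_card' (G := M) 3 h3
    rw [← Subgroup.orderOf_coe] at hm₀
    have h27 := hexp 3 ⟨m₀, m₀.2, fun e => by rw [e, orderOf_one] at hm₀; omega,
      hm₀ ▸ pow_orderOf_eq_one (m₀ : G)⟩
    have hp : IsPGroup 3 M := fun m => ⟨1, Subtype.ext (by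
      rw [SubmonoidClass.coe_pow, pow_one]; exact h27 m m.2)⟩
    obtain ⟨e, he⟩ := IsPGroup.iff_card.1 hp
    have he3 : e ≤ 3 := by
      have : 3 ^ e ∣ 3 ^ 3 := by
        refine Nat.Coprime.dvd_of_dvd_mul_left (m := 2 ^ 6) ?_ (he ▸ hdvd)
        exact Nat.Coprime.pow _ _ (by norm_num)
      exact (Nat.pow_dvd_pow_iff_le_right (by norm_num : 1 < 3)).1 this
    rw [he] at h3 hmod
    interval_cases e <;> omega
  have h2 : Nat.card M ∣ 2 ^ 6 :=
    Nat.Coprime.dvd_of_dvd_mul_right
      (((Nat.prime_three.coprime_iff_not_dvd.2 hno3).pow_left 3).symm) hdvd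
  obtain ⟨e, he6, he⟩ := (Nat.dvd_prime_pow Nat.prime_two).1 h2
  have he0 : e ≠ 0 := fun e0 => hM1 (card_eq_one.1 (by rw [he, e0, pow_zero]))
  rw [he] at hmod
  have : Fact (Nat.Prime 2) := ⟨Nat.prime_two⟩
  obtain ⟨m₀, hm₀⟩ := exists_prime_orderOf_dvd_card' (G := M) 2 (by rw [he]; exact dvd_pow_self 2 he0)
  rw [← Subgroup.orderOf_coe] at hm₀
  have hsq := hexp 2 ⟨m₀, m₀.2, fun e => by rw [e, orderOf_one] at hm₀; omega,
    hm₀ ▸ pow_orderOf_eq_one (m₀ : G)⟩
  have hx1 : ∀ i : ℕ, i % 7 ≠ 0 → ∀ m ∈ M, x ^ i * m * (x ^ i)⁻¹ = m → m = 1 := by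
    intro i hi m hm hme
    have : orderOf (x ^ i) = 7 := by
      rw [Nat.Coprime.orderOf_pow (by
        rw [hx]; exact (Nat.Prime.coprime_iff_not_dvd (by norm_num)).2 (by omega)), hx]
    exact (D.card_mod_seven hMn h7M this).2 m hm hme
  interval_cases e
  all_goals try norm_num at hmod
  · exact absurd rfl he0
  · -- order 8
    norm_num at he
    let σ : M → M := fun m => ⟨t * m * t⁻¹, hMn.conj_mem _ m.2 t⟩
    obtain ⟨m₁, m₂, h1, h2, h12, hf1, hf2⟩ : ∃ m₁ m₂ : M, m₁ ≠ 1 ∧ m₂ ≠ 1 ∧ m₁ ≠ m₂ ∧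
        t * (m₁ : G) * t⁻¹ = m₁ ∧ t * (m₂ : G) * t⁻¹ = m₂ := by
      let ψ : M →* M :=
        { toFun := fun m => m * σ m
          map_one' := Subtype.ext (by simp [σ])
          map_mul' := fun p q => Subtype.ext (by
            show (p : G) * q * (t * ((p : G) * q) * t⁻¹) =
              p * (t * p * t⁻¹) * (q * (t * q * t⁻¹))
            have hc := hcomm q q.2 (t * p * t⁻¹) (hMn.conj_mem _ p.2 t)
            calc (p : G) * q * (t * ((p : G) * q) * t⁻¹) = p * (q * (t * p * t⁻¹)) * (t * q * t⁻¹) := by group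
              _ = _ := by rw [hc]; simp only [mul_assoc]) }
      have htt : t * t = 1 := by rw [← pow_two, ← ht, pow_orderOf_eq_one]
      have hker : ∀ m : M, m ∈ ψ.ker ↔ t * (m : G) * t⁻¹ = m := by
        intro m
        have hmm : (m : G) * m = 1 := by rw [← pow_two]; exact hsq m m.2
        rw [MonoidHom.mem_ker]
        refine ⟨fun hh => ?_, fun hh => Subtype.ext ?_⟩
        · have : (m : G) * (t * m * t⁻¹) = 1 := congrArg Subtype.val hh
          exact mul_left_cancel (this.trans hmm.symm)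
        · show (m : G) * (t * m * t⁻¹) = 1
          rw [hh, hmm]
      have hrange : ψ.range ≤ ψ.ker := by
        rintro _ ⟨m, rfl⟩
        rw [hker]
        show t * ((m : G) * (t * m * t⁻¹)) * t⁻¹ = m * (t * m * t⁻¹)
        calc t * ((m : G) * (t * m * t⁻¹)) * t⁻¹ = t * m * t⁻¹ * ((t * t) * m * (t * t)⁻¹) := by group
          _ = _ := by rw [htt, inv_one, one_mul, mul_one, hcomm _ (hMn.conj_mem _ m.2 t) _ m.2]
      have h4 : 2 < Nat.card ψ.ker := by
        by_contra hle
        have e1 := ψ.ker.card_mul_index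
        rw [Subgroup.index_ker] at e1
        have e2 : Nat.card ψ.range ≤ Nat.card ψ.ker := card_le_of_le hrange
        have := Nat.mul_le_mul (Nat.not_lt.1 hle) (e2.trans (Nat.not_lt.1 hle))
        omega
      have := Fintype.ofFinite ψ.ker
      rw [Nat.card_eq_fintype_card, Fintype.two_lt_card_iff] at h4
      obtain ⟨p, q, r, hpq, hpr, hqr⟩ := h4
      have hv : ∀ p q : ψ.ker, p ≠ q → (p : M) ≠ q := fun p q h e => h (Subtype.ext e)
      have fix : ∀ p : ψ.ker, t * ((p : M) : G) * t⁻¹ = (p : M) := fun p => (hker _).1 p.2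
      by_cases hp1 : (p : M) = 1
      · exact ⟨q, r, fun e => hv _ _ hpq (hp1.trans e.symm), fun e => hv _ _ hpr (hp1.trans e.symm),
          hv _ _ hqr, fix q, fix r⟩
      by_cases hq1 : (q : M) = 1
      · exact ⟨p, r, hp1, fun e => hv _ _ hqr (hq1.trans e.symm), hv _ _ hpr, fix p, fix r⟩
      · exact ⟨p, q, hp1, hq1, hv _ _ hpq, fix p, fix q⟩
    -- `⟨x⟩` is transitive on the other seven elements
    have := Fintype.ofFinite M
    let F : Fin 7 → {m : M // m ≠ 1} := fun i =>
      ⟨⟨x ^ (i : ℕ) * m₁ * (x ^ (i : ℕ))⁻¹, hMn.conj_mem _ m₁.2 _⟩, fun e =>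
        h1 (Subtype.ext (conj_eq_one_iff.1 (congrArg Subtype.val e)))⟩
    have hx7 : x ^ 7 = 1 := hx ▸ pow_orderOf_eq_one x
    have hF : Function.Bijective F := by
      refine (Fintype.bijective_iff_injective_and_card F).2 ⟨fun i j hij => ?_, by
        rw [Fintype.card_fin, Fintype.card_subtype_compl, Fintype.card_subtype_eq,
          ← Nat.card_eq_fintype_card, he]⟩
      by_contra hne'
      have e : x ^ (i : ℕ) * m₁ * (x ^ (i : ℕ))⁻¹ = x ^ (j : ℕ) * m₁ * (x ^ (j : ℕ))⁻¹ :=
        congrArg (fun m : {m : M // m ≠ 1} => ((m : M) : G)) hij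
      refine h1 (Subtype.ext (hx1 (7 - (j : ℕ) + i) ?_ _ m₁.2 ?_))
      · have := i.2; have := j.2; have : (i : ℕ) ≠ j := fun e => hne' (Fin.ext e); omega
      · rw [pow_add, show x ^ (7 - (j : ℕ)) = (x ^ (j : ℕ))⁻¹ from eq_inv_of_mul_eq_one_left (by
          rw [← pow_add, Nat.sub_add_cancel j.2.le, hx7])]
        calc (x ^ (j : ℕ))⁻¹ * x ^ (i : ℕ) * m₁ * ((x ^ (j : ℕ))⁻¹ * x ^ (i : ℕ))⁻¹
            = (x ^ (j : ℕ))⁻¹ * (x ^ (i : ℕ) * m₁ * (x ^ (i : ℕ))⁻¹) * x ^ (j : ℕ) := by group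
          _ = m₁ := by rw [e]; group
    obtain ⟨i, hi⟩ := hF.2 ⟨m₂, h2⟩
    have hi' : x ^ (i : ℕ) * m₁ * (x ^ (i : ℕ))⁻¹ = m₂ :=
      congrArg (fun m : {m : M // m ≠ 1} => ((m : M) : G)) hi
    have hi0 : (i : ℕ) ≠ 0 := fun e => h12 (Subtype.ext (by simpa [e] using hi'))
    have key : (x ^ (i : ℕ))⁻¹ * m₁ * x ^ (i : ℕ) = m₂ := by
      have hxi : t * x ^ (i : ℕ) * t⁻¹ = (x ^ (i : ℕ))⁻¹ := by rw [← conj_pow, htx, inv_pow]
      calc (x ^ (i : ℕ))⁻¹ * m₁ * x ^ (i : ℕ) = (t * x ^ (i : ℕ) * t⁻¹) * (t * m₁ * t⁻¹) *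
            (t * x ^ (i : ℕ) * t⁻¹)⁻¹ := by rw [hxi, hf1, inv_inv]
        _ = t * m₂ * t⁻¹ := by rw [← hi']; group
        _ = m₂ := hf2
    refine h1 (Subtype.ext (hx1 (2 * i) (by have := i.2; omega) _ m₁.2 ?_))
    calc x ^ (2 * (i : ℕ)) * m₁ * (x ^ (2 * (i : ℕ)))⁻¹
        = x ^ (i : ℕ) * (x ^ (i : ℕ) * m₁ * (x ^ (i : ℕ))⁻¹) * (x ^ (i : ℕ))⁻¹ := by
          rw [two_mul, pow_add]; group
      _ = m₁ := by rw [hi', ← key]; group
  · -- order 64
    norm_num at he
    have hidx : M.index = 189 := by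
      have := M.card_mul_index; rw [D.card, he] at this; omega
    have htM : t ∈ M := by
      rw [← QuotientGroup.eq_one_iff, ← orderOf_eq_one_iff]
      have h1 : orderOf (t : G ⧸ M) ∣ 2 := ht ▸ orderOf_map_dvd (QuotientGroup.mk' M) t
      have h2 : orderOf (t : G ⧸ M) ∣ 189 := by
        have := orderOf_dvd_natCard (t : G ⧸ M); rwa [← Subgroup.index_eq_card, hidx] at this
      exact Nat.dvd_one.1 (by simpa using Nat.dvd_gcd h1 h2)
    have hxx : x⁻¹ * x⁻¹ ∈ M := by
      have := M.mul_mem htM (hMn.conj_mem _ (M.inv_mem htM) x)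
      rwa [show t * (x * t⁻¹ * x⁻¹) = t * x * t⁻¹ * x⁻¹ by group, htx] at this
    have := Subgroup.orderOf_dvd_natCard _ hxx
    rw [he, ← pow_two, Nat.Coprime.orderOf_pow (by rw [orderOf_inv, hx]; norm_num), orderOf_inv, hx] at this
    norm_num at this

theorem exists_almost_simple : ∃ S : Subgroup G, Nat.card S = 6048 ∧ IsSimpleGroup S ∧
    Nonempty (G ≃* MulAut S) := by
  classical
  have : Fact (Nat.Prime 7) := ⟨by norm_num⟩
  have : Fact (Nat.Prime 3) := ⟨Nat.prime_three⟩
  obtain ⟨M, ⟨hMn, hM1⟩, hmin⟩ : ∃ M : Subgroup G, (M.Normal ∧ M ≠ ⊥) ∧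
      ∀ R : Subgroup G, R.Normal → R ≤ M → R ≠ ⊥ → R = M := by
    have hne : Nontrivial G := Finite.one_lt_card_iff_nontrivial.1 (by rw [D.card]; norm_num)
    obtain ⟨M, hM⟩ := (Set.toFinite {M : Subgroup G | M.Normal ∧ M ≠ ⊥}).exists_minimal
      ⟨⊤, inferInstance, top_ne_bot⟩
    exact ⟨M, hM.1, fun R hR hRM hR1 => le_antisymm hRM (hM.2 ⟨hR, hR1⟩ hRM)⟩
  have h7M : 7 ∣ Nat.card M := by
    by_contra h
    exact hM1 (D.eq_bot_of_not_dvd hMn h)
  have hnt : Nontrivial M := (nontrivial_iff_ne_bot M).2 hM1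
  have hcard7 : ∀ P : Sylow 7 G, Nat.card (P : Subgroup G) = 7 := fun P =>
    (card_sylow_subgroup (p := 7) (e := 1) (m := 1728) (by rw [D.card]; norm_num) (by norm_num) P).trans
      (pow_one 7)
  have hsylM : ∀ P : Sylow 7 M, Nat.card (P : Subgroup M) = 7 := by
    intro P
    obtain ⟨q, hq⟩ := h7M
    refine (card_sylow_subgroup (p := 7) (e := 1) (m := q) (by rw [hq, pow_one]) ?_ P).trans (pow_one 7)
    rintro ⟨r, rfl⟩
    have := M.card_subgroup_dvd_card
    rw [D.card, hq, ← mul_assoc] at this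
    have h49 : 7 * 7 ∣ 12096 := (dvd_mul_right _ r).trans this
    norm_num at h49
  have hsimple : IsSimpleGroup M := by
    refine ⟨fun O hO => ?_⟩
    -- a normal subgroup of `M` contains all or none of the elements of order 7
    by_cases h7 : 7 ∣ Nat.card O
    · right
      obtain ⟨x₀, hx₀⟩ := exists_prime_orderOf_dvd_card' (G := O) 7 h7
      rw [← Subgroup.orderOf_coe] at hx₀
      obtain ⟨P, hP⟩ := exists_sylow_eq_zpowers hsylM hx₀
      have hPO : (P : Subgroup M) ≤ O := by rw [hP, zpowers_le]; exact x₀.2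
      let T : Subgroup G := closure {g | g ∈ M ∧ orderOf g = 7}
      have hTn : T.Normal := by
        refine ⟨fun g hg c => ?_⟩
        induction hg using closure_induction with
        | mem y hy =>
          refine subset_closure ⟨hMn.conj_mem y hy.1 c, ?_⟩
          rw [← hy.2]
          exact orderOf_injective (MulAut.conj c).toMonoidHom (MulAut.conj c).injective y
        | one => simp
        | mul p q _ _ hp hq =>
          rw [show c * (p * q) * c⁻¹ = (c * p * c⁻¹) * (c * q * c⁻¹) by group]; exact T.mul_mem hp hq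
        | inv p _ hp => rw [show c * p⁻¹ * c⁻¹ = (c * p * c⁻¹)⁻¹ by group]; exact T.inv_mem hp
      have hTM : T ≤ M := (closure_le _).2 fun g hg => hg.1
      have hT1 : T ≠ ⊥ := by
        intro e
        have : ((x₀ : M) : G) ∈ T := subset_closure ⟨(x₀ : M).2, (Subgroup.orderOf_coe _).trans hx₀⟩
        rw [e, mem_bot] at this
        rw [show (x₀ : M) = 1 from Subtype.ext this, orderOf_one] at hx₀
        norm_num at hx₀
      have hT := hmin T hTn hTM hT1
      have hsub : T ≤ O.map M.subtype := (closure_le _).2 fun g hg => by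
        obtain ⟨R, hR⟩ := exists_sylow_eq_zpowers hsylM (g := (⟨g, hg.1⟩ : M))
          ((Subgroup.orderOf_mk g hg.1).trans hg.2)
        obtain ⟨c, hc⟩ := MulAction.exists_smul_eq M P R
        have hmem : (⟨g, hg.1⟩ : M) ∈ (R : Subgroup M) := by rw [hR]; exact mem_zpowers _
        rw [← hc, Sylow.coe_subgroup_smul] at hmem
        obtain ⟨p, hp, hp'⟩ := hmem
        refine ⟨⟨g, hg.1⟩, ?_, rfl⟩
        rw [← hp']
        exact hO.conj_mem p (hPO hp) c
      rw [eq_top_iff]
      intro m _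
      obtain ⟨m', hm', e⟩ := hsub (hT.symm ▸ m.2 : (m : G) ∈ T)
      rwa [← Subtype.ext e]
    · left
      obtain ⟨O', hO'⟩ := (Set.toFinite {R : Subgroup M | R.Normal ∧ ¬ 7 ∣ Nat.card R ∧ O ≤ R}).exists_maximal
        ⟨O, hO, h7, le_rfl⟩
      obtain ⟨hO'n, hO'7, hOO'⟩ := hO'.1
      have hGn : (O'.map M.subtype).Normal := by
        refine ⟨fun g hg c => ?_⟩
        obtain ⟨m, hm, rfl⟩ := hg
        let φ : MulAut M := MulAut.conjNormal c
        have h7' : ¬ 7 ∣ Nat.card (O'.map φ.toMonoidHom) := by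
          rwa [card_map_of_injective (f := φ.toMonoidHom) φ.injective]
        have hn' : (O'.map φ.toMonoidHom).Normal := hO'n.map _ φ.surjective
        have hsup : ¬ 7 ∣ Nat.card ↥(O' ⊔ O'.map φ.toMonoidHom) := by
          intro hd
          have hdd : Nat.card ↥(O' ⊔ O'.map φ.toMonoidHom) ∣
              Nat.card O' * Nat.card (O'.map φ.toMonoidHom) := by
            rw [← relIndex_bot_left, ← relIndex_mul_relIndex ⊥ O' _ bot_le le_sup_left, relIndex_bot_left,
              relIndex_sup_left]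
            exact mul_dvd_mul_left _ (relIndex_bot_left (O'.map φ.toMonoidHom) ▸ relIndex_dvd_of_le_left _ bot_le)
          rcases (Nat.Prime.dvd_mul (by norm_num)).1 (hd.trans hdd) with e | e
          · exact hO'7 e
          · exact h7' e
        have hle : O' ⊔ O'.map φ.toMonoidHom ≤ O' :=
          hO'.2 ⟨inferInstance, hsup, hOO'.trans le_sup_left⟩ le_sup_left
        refine ⟨φ m, hle (mem_sup_right (mem_map_of_mem _ hm)), ?_⟩
        simp [φ]
      have hb := D.eq_bot_of_not_dvd hGn (by rwa [card_map_of_injective M.subtype_injective])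
      rw [map_eq_bot_iff_of_injective _ M.subtype_injective] at hb
      exact le_bot_iff.1 (hb ▸ hOO')
  have hna : ¬ IsMulCommutative M := fun hc => by
    obtain ⟨x, hx⟩ := exists_prime_orderOf_dvd_card' (G := M) 7 h7M
    have hp : (Nat.card M).Prime := by
      let : CommGroup M := { (inferInstance : Group M) with mul_comm := fun a b => hc.is_comm.comm a b }
      exact IsSimpleGroup.prime_card
    have h7eq : Nat.card M = 7 := ((Nat.prime_dvd_prime_iff_eq (by norm_num) hp).1 h7M).symm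
    -- then `M` would be a normal Sylow 7-subgroup
    have hle : (Subgroup.zpowers (x : G)) = M := eq_of_le_of_card_ge (zpowers_le.2 x.2)
      (by rw [Nat.card_zpowers, Subgroup.orderOf_coe, hx, h7eq])
    have := D.normalizer_seven (x := (x : G)) (by rw [Subgroup.orderOf_coe, hx])
    rw [hle, normalizer_eq_top_iff.2 hMn, card_top, D.card] at this
    norm_num at this
  -- the order of `M`
  obtain ⟨y, hy⟩ := exists_prime_orderOf_dvd_card' (G := M) 7 h7M
  obtain ⟨PM, hPM⟩ := exists_sylow_eq_zpowers hsylM hy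
  have hfrat := Sylow.normalizer_sup_eq_top (N := M) PM
  have hmapP : (PM : Subgroup M).map M.subtype = zpowers (y : G) := by
    rw [hPM, MonoidHom.map_zpowers]; rfl
  rw [hmapP] at hfrat
  have hNy := D.normalizer_seven (x := (y : G)) (by rw [Subgroup.orderOf_coe, hy])
  have hidx : M.index ∣ 42 := by
    have h2 : M.index = M.relIndex (normalizer (zpowers (y : G) : Set G)) := by
      rw [← relIndex_top_right, ← hfrat, sup_comm, relIndex_sup_left]
    rw [h2, ← hNy]
    exact relIndex_dvd_card _ _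
  have hmul := M.card_mul_index
  rw [D.card] at hmul
  have h7i : ¬ 7 ∣ M.index := by
    rintro ⟨r, hr⟩
    obtain ⟨q, hq⟩ := h7M
    rw [hq, hr] at hmul
    have h49 : 7 * 7 ∣ 12096 := ⟨q * r, by rw [← hmul]; ring⟩
    norm_num at h49
  have hidx6 : M.index ∈ Nat.divisors 6 := Nat.mem_divisors.2
    ⟨((Nat.Prime.coprime_iff_not_dvd (by norm_num)).2 h7i).symm.dvd_of_dvd_mul_left
      (show M.index ∣ 7 * 6 from hidx), by norm_num⟩
  have hcases : M.index = 1 ∨ M.index = 2 ∨ M.index = 3 ∨ M.index = 6 := by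
    rw [show Nat.divisors 6 = {1, 2, 3, 6} by decide +kernel] at hidx6
    simpa using hidx6
  rcases hcases with e | e | e | e
  · exfalso
    rw [e, mul_one] at hmul
    obtain ⟨x, t, u, hx, ht, htx, hu, hut⟩ := D.exists_frobenius
    rw [Subgroup.index_eq_one] at e
    have : Nontrivial G := Finite.one_lt_card_iff_nontrivial.1 (by rw [D.card]; norm_num)
    have := IsSimpleGroup.isSimpleGroup_of_surjective (H := G)
      ((MulEquiv.subgroupCongr e).trans Subgroup.topEquiv).toMonoidHom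
      ((MulEquiv.subgroupCongr e).trans Subgroup.topEquiv).surjective
    exact not_simple_double D.card hx (D.centralizer_seven hx) (D.normalizer_seven hx) ht htx hu hut
  · have h6048 : Nat.card M = 6048 := by rw [e] at hmul; omega
    refine ⟨M, h6048, hsimple, ?_⟩
    let f : G →* MulAut M := MulAut.conjNormal
    have hker : f.ker = ⊥ := by
      by_contra hne
      refine hne (D.eq_bot_of_not_dvd f.normal_ker fun h7 => ?_)
      obtain ⟨k, hk⟩ := exists_prime_orderOf_dvd_card' (G := f.ker) 7 h7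
      have hkM : ∀ m : M, (k : G) * m * (k : G)⁻¹ = m := fun m => by
        have := congrArg (fun φ : MulAut M => ((φ m : M) : G)) (MonoidHom.mem_ker.1 k.2)
        simpa [f] using this
      have hle : M ≤ centralizer ({(k : G)} : Set G) := fun m hm =>
        mem_centralizer_singleton_iff.2 (mul_inv_eq_iff_eq_mul.1 (hkM ⟨m, hm⟩)).symm
      have := card_le_of_le hle
      rw [h6048, D.centralizer_seven (by rw [Subgroup.orderOf_coe, hk])] at this
      omega
    have hinj : Function.Injective f := (MonoidHom.ker_eq_bot_iff f).1 hker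
    have hle := card_mulAut_le (G := M) h6048
    have : Finite (MulAut M) := Finite.of_injective (fun φ : MulAut M => (φ : M → M)) DFunLike.coe_injective
    exact ⟨MulEquiv.ofBijective f ((Nat.bijective_iff_injective_and_card f).2
      ⟨hinj, le_antisymm (Nat.card_le_card_of_injective f hinj) (D.card ▸ hle)⟩)⟩
  · exfalso
    rw [e] at hmul
    exact Cfsg.Agent.S0976.result (G := M) (by omega)
  · exfalso
    rw [e] at hmul
    exact Cfsg.Agent.S1017.result (G := M) (by omega)

end Double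

end Cfsg.Agent.Order6048
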