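/-
The group `G₂(2)` has no elements of order 14 or 21.

Main results (namespace `Cfsg.Agent.Order6048`):
* `double_of_index_two` : the criterion on the subgroup of index 2;
* `double_g2` : it applies to `G₂(2)`.
-/
import Cfsg.Agent.Lib.Order6048.Recognition
import Cfsg.Agent.Lib.Golay.UThree.GTwo

set_option autoImplicit false
set_option linter.unusedSectionVars false
set_option maxRecDepth 100000

namespace Cfsg.Agent.Order6048

open Subgroup
open Cfsg.Agent.SmallOrders

variable {E : Type*} [Group E] [Finite E]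

/-- A group of order 12096 with a simple subgroup of index 2 in which some element of order 7 is
inverted by conjugation has no elements of order 14 or 21. -/
theorem double_of_index_two (hE : Nat.card E = 12096) (S : Subgroup E) (hS : Nat.card S = 6048)
    (hsimple : IsSimpleGroup S) {x u : E} (hx : orderOf x = 7) (hux : u * x * u⁻¹ = x⁻¹) : Double E := by
  classical
  have : Fact (Nat.Prime 7) := ⟨by norm_num⟩
  have hidx : S.index = 2 := by
    have := S.card_mul_index; rw [hS, hE] at this; omega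
  have hnS : S.Normal := normal_of_index_eq_two hidx
  have hodd : ∀ g : E, orderOf g % 2 = 1 → g ∈ S := by
    intro g hg
    rw [← QuotientGroup.eq_one_iff, ← orderOf_eq_one_iff]
    have h1 : orderOf (g : E ⧸ S) ∣ orderOf g := orderOf_map_dvd (QuotientGroup.mk' S) g
    have h2 : orderOf (g : E ⧸ S) ∣ 2 := by
      have := orderOf_dvd_natCard (g : E ⧸ S); rwa [← Subgroup.index_eq_card, hidx] at this
    rcases (Nat.dvd_prime Nat.prime_two).1 h2 with e | e
    · exact e
    · rw [e] at h1; omega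
  refine ⟨hE, fun g hg => ?_, fun g hg => ?_⟩
  · -- an element of order 14 would give an inverting element inside `S`
    have hg2o : orderOf (g ^ 2) = 7 := by rw [orderOf_pow, hg]; rfl
    have hg7o : orderOf (g ^ 7) = 2 := by rw [orderOf_pow, hg]; rfl
    set y := g ^ 2
    set i := g ^ 7
    have hyS : y ∈ S := hodd y (by rw [hg2o])
    have hiy : Commute i y := (Commute.refl g).pow_pow 7 2
    have hiS : i ∉ S := by
      intro hi
      have hgy : g = i * (y ^ 3)⁻¹ := by
        rw [eq_mul_inv_iff_mul_eq, ← pow_mul, ← pow_succ']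
      have hgS : g ∈ S := hgy ▸ S.mul_mem hi (S.inv_mem (S.pow_mem hyS 3))
      have := not_seven_dvd_orderOf (G := S) hS (g := ⟨g, hgS⟩)
        (Or.inl (by rw [Subgroup.orderOf_mk, hg]; norm_num))
      rw [Subgroup.orderOf_mk, hg] at this
      norm_num at this
    -- transport the inverting element to `y`
    have hcard : ∀ P : Sylow 7 E, Nat.card (P : Subgroup E) = 7 := fun P =>
      (card_sylow_subgroup (p := 7) (e := 1) (m := 1728) (by rw [hE]; norm_num) (by norm_num) P).trans
        (pow_one 7)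
    obtain ⟨P, hP⟩ := exists_sylow_eq_zpowers hcard hx
    obtain ⟨Q, hQ⟩ := exists_sylow_eq_zpowers hcard hg2o
    obtain ⟨c, hc⟩ := MulAction.exists_smul_eq E P Q
    have hmem : y ∈ (Q : Subgroup E) := by rw [hQ]; exact mem_zpowers y
    rw [← hc, Sylow.coe_subgroup_smul, hP] at hmem
    obtain ⟨x', hx', hx''⟩ := hmem
    obtain ⟨m, rfl⟩ := mem_zpowers_iff.1 hx'
    have hy : c * x ^ m * c⁻¹ = y := hx''
    obtain ⟨s, hsS, hsy⟩ : ∃ s ∈ S, s * y * s⁻¹ = y⁻¹ := by
      have hw : (c * u * c⁻¹) * y * (c * u * c⁻¹)⁻¹ = y⁻¹ := by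
        rw [← hy]
        calc c * u * c⁻¹ * (c * x ^ m * c⁻¹) * (c * u * c⁻¹)⁻¹ = c * (u * x ^ m * u⁻¹) * c⁻¹ := by group
          _ = (c * x ^ m * c⁻¹)⁻¹ := by rw [← conj_zpow, hux, inv_zpow]; group
      by_cases hwS : c * u * c⁻¹ ∈ S
      · exact ⟨_, hwS, hw⟩
      refine ⟨c * u * c⁻¹ * i, (mul_mem_iff_of_index_two hidx).2 ⟨fun h => absurd h hwS, fun h => absurd h hiS⟩, ?_⟩
      generalize c * u * c⁻¹ = w at hw
      calc w * i * y * (w * i)⁻¹ = w * (i * y * i⁻¹) * w⁻¹ := by group
        _ = y⁻¹ := by rw [hiy.eq, mul_inv_cancel_right, hw]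
    -- but the normaliser of `⟨y⟩` in `S` has order 21
    obtain ⟨x0, hx0, -, hN0⟩ := seven (G := S) hS
    have hcardS : ∀ P : Sylow 7 S, Nat.card (P : Subgroup S) = 7 := fun P =>
      (card_sylow_subgroup (p := 7) (e := 1) (m := 864) (by rw [hS]; norm_num) (by norm_num) P).trans
        (pow_one 7)
    set yS : S := ⟨y, hyS⟩
    have hyo : orderOf yS = 7 := by rw [Subgroup.orderOf_mk, hg2o]
    obtain ⟨P0, hP0⟩ := exists_sylow_eq_zpowers hcardS hx0
    obtain ⟨P1, hP1⟩ := exists_sylow_eq_zpowers hcardS hyo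
    have hN1 : Nat.card (normalizer (zpowers yS : Set S)) = 21 := by
      have e0 := card_normalizer_mul_card_sylow P0
      have e1 := card_normalizer_mul_card_sylow P1
      rw [hP0, hN0] at e0
      rw [hP1] at e1
      exact Nat.eq_of_mul_eq_mul_right Nat.card_pos (e1.trans e0.symm)
    have hsmem : (⟨s, hsS⟩ : S) ∈ normalizer (zpowers yS : Set S) := by
      have hconj : (⟨s, hsS⟩ : S) * yS * (⟨s, hsS⟩ : S)⁻¹ = yS⁻¹ := Subtype.ext hsy
      rw [mem_normalizer_iff]
      intro a
      constructor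
      · intro ha
        obtain ⟨k, rfl⟩ := ha
        exact ⟨-k, by show yS ^ (-k) = _; rw [← conj_zpow, hconj, inv_zpow, zpow_neg]⟩
      · intro ha
        obtain ⟨k, hk⟩ := ha
        refine ⟨-k, ?_⟩
        show yS ^ (-k) = a
        have hk' : yS ^ k = (⟨s, hsS⟩ : S) * a * (⟨s, hsS⟩ : S)⁻¹ := hk
        have h2 : (⟨s, hsS⟩ : S) * yS ^ (-k) * (⟨s, hsS⟩ : S)⁻¹ = yS ^ k := by
          rw [← conj_zpow, hconj, inv_zpow, zpow_neg, inv_inv]
        exact mul_left_cancel (mul_right_cancel (h2.trans hk'))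
    have hso : orderOf s ∣ 21 := by
      have := Subgroup.orderOf_dvd_natCard _ hsmem
      rwa [hN1, Subgroup.orderOf_mk] at this
    have h2c : Commute (s * s) y := by
      show s * s * y = y * (s * s)
      rw [← mul_inv_eq_iff_eq_mul]
      calc s * s * y * (s * s)⁻¹ = s * (s * y * s⁻¹) * s⁻¹ := by group
        _ = s * y⁻¹ * s⁻¹ := by rw [hsy]
        _ = (s * y * s⁻¹)⁻¹ := by group
        _ = y := by rw [hsy, inv_inv]
    have hsc : Commute s y := by
      have h11 := h2c.pow_left 11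
      have e : (s * s) ^ 11 = s := by
        rw [← pow_two, ← pow_mul, show 2 * 11 = 21 + 1 from rfl, pow_succ,
          orderOf_dvd_iff_pow_eq_one.1 hso, one_mul]
      rwa [e] at h11
    rw [hsc.eq, mul_inv_cancel_right] at hsy
    have hyy : y * y = 1 := inv_eq_iff_mul_eq_one.1 hsy.symm
    rw [← pow_two] at hyy
    have := orderOf_dvd_of_pow_eq_one hyy
    rw [hg2o] at this
    norm_num at this
  · have hgS : g ∈ S := hodd g (by rw [hg])
    have := not_seven_dvd_orderOf (G := S) hS (g := ⟨g, hgS⟩)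
      (Or.inr (by rw [Subgroup.orderOf_mk, hg]; norm_num))
    rw [Subgroup.orderOf_mk, hg] at this
    norm_num at this

open Cfsg.Lie Cfsg.Agent.BitMat Cfsg.Agent.Golay.UThree in
theorem witness_words : evalB 14 xB [2, 8, 2, 2, 8, 2] = idB 14 ∧
    evalB 14 xB [7, 2, 8, 2] ≠ idB 14 ∧
    evalB 14 xB [7, 2, 8, 2, 7, 2, 8, 2, 7, 2, 8, 2, 7, 2, 8, 2, 7, 2, 8, 2, 7, 2, 8, 2, 7, 2, 8, 2] =
      idB 14 ∧ evalB 14 xB [7, 7] = idB 14 := by
  decide +kernel

open Cfsg.Lie Cfsg.Agent.BitMat Cfsg.Agent.Golay.UThree in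
theorem double_g2 : Double ↥(chevG2.group (ZMod 2)) := by
  classical
  obtain ⟨e⟩ := g2_main
  have hE : Nat.card ↥(chevG2.group (ZMod 2)) = 12096 := by
    rw [Cfsg.Agent.S1059.result (F := ZMod 2) (q := 2) (ZMod.card 2)]; norm_num
  have hS : Nat.card ↥(commutator ↥(chevG2.group (ZMod 2))) = 6048 := by
    rw [Nat.card_congr e.toEquiv, card_SU3]
  have hsimple : IsSimpleGroup ↥(commutator ↥(chevG2.group (ZMod 2))) := by
    have : Nontrivial ↥(commutator ↥(chevG2.group (ZMod 2))) :=
      Finite.one_lt_card_iff_nontrivial.1 (by rw [hS]; norm_num)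
    have := isSimple_SU3.1
    exact IsSimpleGroup.isSimpleGroup_of_surjective e.symm.toMonoidHom e.symm.surjective
  -- root elements
  let r : Fin 12 → ↥(chevG2.group (ZMod 2)) := fun i => ⟨rootUnit i, rootUnit_mem i⟩
  have hval : ∀ w : List (Fin 12),
      (((w.map r).prod : ↥(chevG2.group (ZMod 2))) : GL I14 (ZMod 2)).val =
        toMat e14 (evalB 14 xB (w.map Fin.val)) := by
    intro w
    induction w with
    | nil => exact (toMat_idB e14).symm
    | cons a w ih =>
      rw [List.map_cons, List.prod_cons, Subgroup.coe_mul, Units.val_mul, ih, List.map_cons, evalB,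
        toMat_mulB (A := xB a) (B := evalB 14 xB (w.map Fin.val)) e14 (length_cols _)
          (length_evalB (L := xB) (fun a => length_cols _) _)]
      rfl
  have hone : ∀ w : List (Fin 12), evalB 14 xB (w.map Fin.val) = idB 14 → (w.map r).prod = 1 :=
    fun w hw => Subtype.ext (Units.ext (by rw [hval, hw, toMat_idB]; rfl))
  obtain ⟨h1, h2, h3, h4⟩ := witness_words
  have e1 := hone [2, 8, 2, 2, 8, 2] h1
  have e4 := hone [7, 7] h4
  have e3 := hone [7, 2, 8, 2, 7, 2, 8, 2, 7, 2, 8, 2, 7, 2, 8, 2, 7, 2, 8, 2, 7, 2, 8, 2, 7, 2, 8, 2] h3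
  set a := r 7
  set b := r 2 * r 8 * r 2 with hb
  simp only [List.map_cons, List.map_nil, List.prod_cons, List.prod_nil, mul_one] at e1 e3 e4
  have hbb : b * b = 1 := by simpa [hb, mul_assoc] using e1
  have haa : a * a = 1 := e4
  have h7 : (a * b) ^ 7 = 1 := by
    simpa [hb, a, pow_succ, mul_assoc] using e3
  have hne : a * b ≠ 1 := by
    intro hab
    have hv := hval [7, 2, 8, 2]
    rw [show (([7, 2, 8, 2] : List (Fin 12)).map r).prod = a * b by simp [hb, a, mul_assoc], hab] at hv
    have hcol := congrArg (fun M : M14 => fun i j => M (e14.symm i) (e14.symm j)) hv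
    have hdec : ∃ i j : Fin 14, bitVal ((idB 14).getD (j : ℕ) 0) i ≠
        bitVal ((evalB 14 xB [7, 2, 8, 2]).getD (j : ℕ) 0) i := by decide +kernel
    obtain ⟨i, j, hij⟩ := hdec
    apply hij
    have := congrFun (congrFun hcol i) j
    rw [show (((1 : ↥(chevG2.group (ZMod 2))) : GL I14 (ZMod 2)).val) = toMat e14 (idB 14) from
      (toMat_idB e14).symm] at this
    simpa [toMat] using this
  have : Fact (Nat.Prime 7) := ⟨by norm_num⟩
  refine double_of_index_two hE _ hS hsimple (x := a * b) (u := a) (orderOf_eq_prime h7 hne) ?_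
  rw [mul_inv_rev, inv_eq_of_mul_eq_one_right haa, inv_eq_of_mul_eq_one_right hbb, ← mul_assoc, haa, one_mul]

end Cfsg.Agent.Order6048
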